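import Mathlib
set_option linter.all false

/-!
# Characters of a lattice trivial on the image of an endomorphism (helper378)

`Ch l k` : the characters `ℤ^l → kˣ`. For `f : End(ℤ^l)` with `det f` nonzero in `k` (algebraically closed):
* `KerOf k f` : the characters trivial on `f(ℤ^l)`;
* `kerOf_equiv` : `KerOf k f ≃* ℤ^l / f(ℤ^l)` (not canonical); `card_kerOf` : its order is `|det f|`;
* `isCyclic_kerOf` : it is cyclic if `ℤ^l` is spanned by the `w^i v` (`f = w - q`);
* `eq_one_on_iff` : the characters in `KerOf k f` are all trivial at `x` iff `x ∈ f(ℤ^l)`.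
-/

set_option autoImplicit false

namespace Cfsg.Agent.H378.TorDual

universe u

/-- The characters of `ℤ^l` with values in `kˣ`. -/
abbrev Ch (l : ℕ) (k : Type u) [Field k] := Multiplicative (Fin l → ℤ) →* kˣ

variable {l : ℕ} (k : Type u) [Field k]

/-- The characters trivial on the image of `f`. -/
def KerOf (f : Module.End ℤ (Fin l → ℤ)) : Subgroup (Ch l k) where
  carrier := {φ | ∀ x, φ (Multiplicative.ofAdd (f x)) = 1}
  mul_mem' := by
    intro φ ψ h1 h2 x
    rw [MonoidHom.mul_apply, h1 x, h2 x, one_mul]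
  one_mem' := fun x => rfl
  inv_mem' := by
    intro φ h x
    rw [MonoidHom.inv_apply, h x, inv_one]

theorem mem_kerOf {f : Module.End ℤ (Fin l → ℤ)} {φ : Ch l k} :
    φ ∈ KerOf k f ↔ ∀ x, φ (Multiplicative.ofAdd (f x)) = 1 := Iff.rfl

/-- the quotient lattice -/
abbrev Co (f : Module.End ℤ (Fin l → ℤ)) := (Fin l → ℤ) ⧸ LinearMap.range f

/-- the projection -/
def prj (f : Module.End ℤ (Fin l → ℤ)) : Multiplicative (Fin l → ℤ) →* Multiplicative (Co f) :=
  AddMonoidHom.toMultiplicative (LinearMap.range f).mkQ.toAddMonoidHom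

theorem prj_surjective (f : Module.End ℤ (Fin l → ℤ)) : Function.Surjective (prj f) :=
  fun y => by
    obtain ⟨x, hx⟩ := (LinearMap.range f).mkQ_surjective (Multiplicative.toAdd y)
    exact ⟨Multiplicative.ofAdd x, by
      show Multiplicative.ofAdd ((LinearMap.range f).mkQ x) = y
      rw [hx]; rfl⟩

theorem prj_eq_one {f : Module.End ℤ (Fin l → ℤ)} {x : Fin l → ℤ} :
    prj f (Multiplicative.ofAdd x) = 1 ↔ ∃ y, f y = x := by
  show Multiplicative.ofAdd ((LinearMap.range f).mkQ x) = 1 ↔ _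
  rw [ofAdd_eq_one, Submodule.mkQ_apply, Submodule.Quotient.mk_eq_zero, LinearMap.mem_range]

/-- characters of the quotient -/
noncomputable def kerEquiv (f : Module.End ℤ (Fin l → ℤ)) :
    (Multiplicative (Co f) →* kˣ) ≃* ↥(KerOf k f) where
  toFun ψ := ⟨ψ.comp (prj f), fun x => by
    rw [MonoidHom.comp_apply, prj_eq_one.2 ⟨x, rfl⟩, map_one]⟩
  invFun φ := (QuotientAddGroup.lift (LinearMap.range f).toAddSubgroup (MonoidHom.toAdditiveRight φ.1) (by
    rintro x ⟨y, rfl⟩
    have := φ.2 y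
    exact congrArg Additive.ofMul this)).toMultiplicativeLeft
  left_inv ψ := by
    refine MonoidHom.ext fun y => ?_
    obtain ⟨x, rfl⟩ := prj_surjective f y
    rfl
  right_inv φ := by
    apply Subtype.ext
    ext x
    rfl
  map_mul' ψ ψ' := by
    apply Subtype.ext
    ext x
    rfl

variable {k} in
theorem injective_of_det {f : Module.End ℤ (Fin l → ℤ)} (h : LinearMap.det f ≠ 0) : Function.Injective f := by
  rw [← LinearMap.ker_eq_bot]
  by_contra hne
  exact h (LinearMap.det_eq_zero_iff_ker_ne_bot.2 hne)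

/-- the order of the quotient lattice -/
theorem card_co {f : Module.End ℤ (Fin l → ℤ)} (h : LinearMap.det f ≠ 0) :
    Nat.card (Co f) = (LinearMap.det f).natAbs := by
  have hinj := injective_of_det h
  let e : (Fin l → ℤ) ≃ₗ[ℤ] ↥(LinearMap.range f) := LinearEquiv.ofInjective f hinj
  have h1 := Submodule.natAbs_det_equiv (LinearMap.range f) e
  rw [← h1]
  congr 2

theorem finite_co {f : Module.End ℤ (Fin l → ℤ)} (h : LinearMap.det f ≠ 0) : Finite (Co f) := by
  apply Nat.finite_of_card_ne_zero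
  rw [card_co h]
  exact Int.natAbs_ne_zero.2 h

section

variable [IsAlgClosed k]

/-- **`KerOf k f` is isomorphic to the quotient lattice.** -/
theorem kerOf_equiv {f : Module.End ℤ (Fin l → ℤ)} (h : ((LinearMap.det f : ℤ) : k) ≠ 0) :
    Nonempty (↥(KerOf k f) ≃* Multiplicative (Co f)) := by
  have h0 : LinearMap.det f ≠ 0 := by
    intro h1
    rw [h1, Int.cast_zero] at h
    exact h rfl
  have := finite_co h0
  have hcard : Nat.card (Multiplicative (Co f)) = (LinearMap.det f).natAbs := card_co h0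
  have hne : (((LinearMap.det f).natAbs : ℕ) : k) ≠ 0 := by
    intro h1
    apply h
    rcases Int.natAbs_eq (LinearMap.det f) with h2 | h2
    · rw [h2, Int.cast_natCast, h1]
    · rw [h2, Int.cast_neg, Int.cast_natCast, h1, neg_zero]
  have hexp : (Monoid.exponent (Multiplicative (Co f)) : k) ≠ 0 := by
    intro h1
    obtain ⟨c, hc⟩ := Group.exponent_dvd_nat_card (G := Multiplicative (Co f))
    apply hne
    rw [← hcard, hc, Nat.cast_mul, h1, zero_mul]
  have : NeZero ((Monoid.exponent (Multiplicative (Co f)) : ℕ) : k) := ⟨hexp⟩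
  obtain ⟨e⟩ := CommGroup.monoidHom_mulEquiv_of_hasEnoughRootsOfUnity (Multiplicative (Co f)) k
  exact ⟨(kerEquiv k f).symm.trans e⟩

theorem card_kerOf {f : Module.End ℤ (Fin l → ℤ)} (h : ((LinearMap.det f : ℤ) : k) ≠ 0) :
    Nat.card ↥(KerOf k f) = (LinearMap.det f).natAbs := by
  have h0 : LinearMap.det f ≠ 0 := by
    intro h1
    rw [h1, Int.cast_zero] at h
    exact h rfl
  obtain ⟨e⟩ := kerOf_equiv k h
  rw [Nat.card_congr e.toEquiv]
  exact card_co h0

/-- the characters separate the points of the quotient lattice -/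
theorem eq_one_on_iff {f : Module.End ℤ (Fin l → ℤ)} (h : ((LinearMap.det f : ℤ) : k) ≠ 0) (x : Fin l → ℤ) :
    (∀ φ ∈ KerOf k f, φ (Multiplicative.ofAdd x) = 1) ↔ ∃ y, f y = x := by
  constructor
  · intro hx
    have h0 : LinearMap.det f ≠ 0 := by
      intro h1
      rw [h1, Int.cast_zero] at h
      exact h rfl
    have := finite_co h0
    have hcard : Nat.card (Multiplicative (Co f)) = (LinearMap.det f).natAbs := card_co h0
    have hne : (((LinearMap.det f).natAbs : ℕ) : k) ≠ 0 := by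
      intro h1
      apply h
      rcases Int.natAbs_eq (LinearMap.det f) with h2 | h2
      · rw [h2, Int.cast_natCast, h1]
      · rw [h2, Int.cast_neg, Int.cast_natCast, h1, neg_zero]
    have hexp : (Monoid.exponent (Multiplicative (Co f)) : k) ≠ 0 := by
      intro h1
      obtain ⟨c, hc⟩ := Group.exponent_dvd_nat_card (G := Multiplicative (Co f))
      apply hne
      rw [← hcard, hc, Nat.cast_mul, h1, zero_mul]
    have : NeZero ((Monoid.exponent (Multiplicative (Co f)) : ℕ) : k) := ⟨hexp⟩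
    by_contra hcon
    have h1 : prj f (Multiplicative.ofAdd x) ≠ 1 := fun h2 => hcon (prj_eq_one.1 h2)
    obtain ⟨ψ, hψ⟩ := CommGroup.exists_apply_ne_one_of_hasEnoughRootsOfUnity (Multiplicative (Co f)) k h1
    apply hψ
    exact hx (kerEquiv k f ψ).1 (kerEquiv k f ψ).2
  · rintro ⟨y, rfl⟩ φ hφ
    exact hφ y

/-- **Cyclicity.** -/
theorem isCyclic_kerOf {w : Module.End ℤ (Fin l → ℤ)} {q : ℤ}
    (h : ((LinearMap.det (w - q • (1 : Module.End ℤ (Fin l → ℤ))) : ℤ) : k) ≠ 0)
    {v : Fin l → ℤ} (hv : ∀ x, x ∈ Submodule.span ℤ (Set.range fun i : ℕ => (w ^ i) v)) :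
    IsCyclic ↥(KerOf k (w - q • (1 : Module.End ℤ (Fin l → ℤ)))) := by
  obtain ⟨e⟩ := kerOf_equiv k h
  suffices IsCyclic (Multiplicative (Co (w - q • (1 : Module.End ℤ (Fin l → ℤ))))) from isCyclic_of_surjective e.symm e.symm.surjective
  have key : ∀ i : ℕ, (LinearMap.range (w - q • (1 : Module.End ℤ (Fin l → ℤ)))).mkQ ((w ^ i) v) = (q ^ i) • (LinearMap.range (w - q • (1 : Module.End ℤ (Fin l → ℤ)))).mkQ v := by
    intro i
    induction i with
    | zero => rw [pow_zero, pow_zero, one_smul]; rfl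
    | succ i ih =>
      have h1 : (w ^ (i + 1)) v = (w - q • (1 : Module.End ℤ (Fin l → ℤ))) ((w ^ i) v) + q • (w ^ i) v := by
        rw [LinearMap.sub_apply, LinearMap.smul_apply, Module.End.one_apply, sub_add_cancel, pow_succ',
          Module.End.mul_apply]
      rw [h1, map_add, map_smul, ih]
      have h2 : (LinearMap.range (w - q • (1 : Module.End ℤ (Fin l → ℤ)))).mkQ ((w - q • (1 : Module.End ℤ (Fin l → ℤ))) ((w ^ i) v)) = 0 := by
        rw [Submodule.mkQ_apply, Submodule.Quotient.mk_eq_zero]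
        exact ⟨_, rfl⟩
      rw [h2, zero_add, smul_smul, pow_succ']
  refine ⟨Multiplicative.ofAdd ((LinearMap.range (w - q • (1 : Module.End ℤ (Fin l → ℤ)))).mkQ v), fun y => ?_⟩
  obtain ⟨x, hx⟩ := (LinearMap.range (w - q • (1 : Module.End ℤ (Fin l → ℤ)))).mkQ_surjective (Multiplicative.toAdd y)
  have h3 : (LinearMap.range (w - q • (1 : Module.End ℤ (Fin l → ℤ)))).mkQ x ∈
      Submodule.span ℤ {(LinearMap.range (w - q • (1 : Module.End ℤ (Fin l → ℤ)))).mkQ v} := by
    have h4 := hv x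
    have h5 : Submodule.map (LinearMap.range (w - q • (1 : Module.End ℤ (Fin l → ℤ)))).mkQ
        (Submodule.span ℤ (Set.range fun i : ℕ => (w ^ i) v)) ≤
        Submodule.span ℤ {(LinearMap.range (w - q • (1 : Module.End ℤ (Fin l → ℤ)))).mkQ v} := by
      rw [Submodule.map_span, Submodule.span_le]
      rintro _ ⟨_, ⟨i, rfl⟩, rfl⟩
      rw [key]
      exact Submodule.smul_mem _ _ (Submodule.mem_span_singleton_self _)
    exact h5 ⟨x, h4, rfl⟩
  obtain ⟨n, hn⟩ := Submodule.mem_span_singleton.1 h3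
  refine ⟨n, ?_⟩
  show (Multiplicative.ofAdd ((LinearMap.range (w - q • (1 : Module.End ℤ (Fin l → ℤ)))).mkQ v)) ^ n = y
  rw [← ofAdd_zsmul, hn, hx]
  rfl

end

end Cfsg.Agent.H378.TorDual
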