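import Cfsg.Agent.BpExc.NChev
import Cfsg.Agent.FastGrp
import Cfsg.Agent.Prune
set_option linter.all false
prune_inst 0x7f00000000000000000000000000000000000000000000000000000000000000000000000000000000000000000000000000000000000000000000000000000000000000000000000000000000000000003fffffffffffffffffffffffffffbeffbdffffffff
open scoped Cfsg.Agent.FastGrp

/-!
# The elements of `p`-power order in the centraliser of a toral element (helper378)

`R : RGD cs h p T n X`, `t ∈ T`, `S` the roots centralised by `t`.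

* `CD.conj_mem` : every `p`-element of `C(t)` is conjugate in `C(t)` into `⟨X a : a ∈ S, a > 0⟩`, if no nontrivial
  `p`-element of `W` preserves `S ∩ Φ⁺` and is represented in `C(t)`;
* `exists_conj` : `k` locally finite of characteristic `p`, `t ∈ TT D k` (of any order): every `p`-element of `C(t)` in
  `D.group k` is conjugate in `C(t)` into `⟨X a : a ∈ S, a > 0⟩`.
-/

set_option autoImplicit false
set_option linter.unusedSectionVars false

namespace Cfsg.Agent.H378.UnipCent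

open CoxeterSystem Cfsg Cfsg.Lie Cfsg.Lie.ChevalleyDatum
open Cfsg.Agent.ChevalleyStructure Cfsg.Agent.ChevalleyStructure.Elts Cfsg.Agent.ChevalleyStructure.CoxeterGeom
  Cfsg.Agent.ChevalleyStructure.CoxeterGeomTypes Cfsg.Agent.ChevalleyStructure.NPerm
open Cfsg.Agent.Tits.Roots Cfsg.Agent.Tits.Core Cfsg.Agent.Nodes Cfsg.Agent.Nodes.Reps Cfsg.Agent.Nodes.BNOf
  Cfsg.Agent.Nodes.RGDChev Cfsg.Agent.Nodes.Bruhat Cfsg.Agent.Nodes.NormalForm Cfsg.Agent.Nodes.OppDec
open Cfsg.Agent.KFacts.RgdField Cfsg.Agent.KFacts.RgdChevCoord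
open Cfsg.Agent.BpExc Cfsg.Agent.BpExc.TorCent Cfsg.Agent.BpExc.TorChev Cfsg.Agent.BpExc.Tow
  Cfsg.Agent.BpExc.TowChev Cfsg.Agent.BpExc.Fr Cfsg.Agent.BpExc.NInst

universe u v

section Lvl

variable {I W Y : Type*} [Fintype I] [DecidableEq I] [Group W] [Group Y] {M : CoxeterMatrix I}
  {cs : CoxeterSystem M W} {A : I → I → ℤ} {h : IsCartan M A} {p : ℕ} {T : Subgroup Y} {n : I → Y}
  {X : (I → ℤ) → Subgroup Y}

/-- the data of a toral element -/
structure CD (R : RGD cs h p T n X) (t : Y) (S : Set (I → ℤ)) : Prop where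
  mem : t ∈ T
  root : ∀ a ∈ S, IsRoot cs h a
  cent : ∀ a ∈ S, X a ≤ Subgroup.centralizer {t}
  of_cent : ∀ a, IsRoot cs h a → ∀ u ∈ X a, u ≠ 1 → u ∈ Subgroup.centralizer {t} → a ∈ S
  cop : ∀ w k, Rp cs R.nsys w k → k ∈ Subgroup.centralizer {t} → (∀ a ∈ S, 0 ≤ a → 0 ≤ rep cs h w a) →
    ∀ j : ℕ, w ^ p ^ j = 1 → w = 1

variable {R : RGD cs h p T n X} {t : Y} {S : Set (I → ℤ)} (D : CD R t S)

include D

theorem CD.U_le : RGD.Sup X (SP S) ≤ RGD.Sup X (RGD.Pos cs h) :=
  RGD.Sup_mono fun a ha => ⟨D.root a ha.1, ha.2⟩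

theorem CD.U_cent : RGD.Sup X (SP S) ≤ Subgroup.centralizer {t} := RGD.Sup_le fun a ha => D.cent a ha.1

theorem CD.sup_cent : RGD.Sup (fun x => X x ⊓ Subgroup.centralizer {t}) (RGD.Pos cs h) ≤ RGD.Sup X (SP S) := by
  refine RGD.Sup_le fun a ha => ?_
  rintro u ⟨hu, hc⟩
  by_cases h1 : u = 1
  · rw [h1]; exact one_mem _
  · exact RGD.le_Sup (S := SP S) ⟨D.of_cent a ha.1 u hu h1 hc, ha.2⟩ hu

theorem CD.pos_of_norm [Finite W] {w : W} {k : Y} (hk : Rp cs R.nsys w k)
    (hn : ∀ x ∈ RGD.Sup X (SP S), k * x * k⁻¹ ∈ RGD.Sup X (SP S)) {a : I → ℤ} (ha : a ∈ SP S) :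
    0 ≤ rep cs h w a := by
  have har := D.root a ha.1
  rcases (har.act w).pos_or_neg with h1 | h1
  · exact h1
  · exfalso
    obtain ⟨u, hu, hu1⟩ : ∃ u ∈ X a, u ≠ 1 := by
      by_contra hcon
      push Not at hcon
      exact X_ne_bot R har ((Subgroup.eq_bot_iff_forall _).2 hcon)
    have h2 := R.conj_mem hk har hu
    have h3 : k * u * k⁻¹ ∈ RGD.Sup X (SP S) := hn u (RGD.le_Sup ha hu)
    have h4 : k * u * k⁻¹ ∈ RGD.Sup X (RGD.Pos cs h) ⊓ UN cs h X := ⟨D.U_le h3, X_le_UN (har.act w) h1 h2⟩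
    rw [U_inf_UN R, Subgroup.mem_bot, conj_eq_one_iff] at h4
    exact hu1 h4

omit D in
theorem rp_pow {hN : NSys M T n} {w : W} {k : Y} (hk : Rp cs hN w k) (j : ℕ) :
    Rp cs hN (w ^ j) (k ^ j) := by
  induction j with
  | zero => rw [pow_zero, pow_zero]; exact rp_one
  | succ j ih => rw [pow_succ, pow_succ]; exact ih.mul hk

/-- **The `p`-elements of the centraliser.** -/
theorem CD.conj_mem [Finite W] [Fact p.Prime] [Finite ↥(GG cs h T X)] {u : Y} (hu : u ∈ GG cs h T X)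
    (hut : u * t = t * u) {j : ℕ} (huj : u ^ p ^ j = 1) :
    ∃ g ∈ GG cs h T X, g * t = t * g ∧ g * u * g⁻¹ ∈ RGD.Sup X (SP S) := by
  set C : Subgroup Y := GG cs h T X ⊓ Subgroup.centralizer {t} with hC
  have hfinC : Finite ↥C := Finite.of_injective (Subgroup.inclusion (inf_le_left : C ≤ GG cs h T X))
    (Subgroup.inclusion_injective _)
  have hQG : RGD.Sup X (SP S) ≤ GG cs h T X := by
    refine RGD.Sup_le fun a ha => ?_
    unfold GG
    exact le_trans (RGD.le_Sup (D.root a ha.1)) le_sup_right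
  have hQC : RGD.Sup X (SP S) ≤ C := le_inf hQG D.U_cent
  have hQp : IsPGroup p ↥((RGD.Sup X (SP S)).subgroupOf C) :=
    (R.isPGroup_of_pos (S := SP S) fun a ha => ⟨D.root a ha.1, ha.2⟩).comap_subtype
  obtain ⟨P, hP⟩ := hQp.exists_le_sylow
  have hT : ∀ k ∈ T, ∀ j : ℕ, k ^ p ^ j = 1 → k = 1 := by
    intro k hk j hj
    have h1 := R.tcop
    have h2 : orderOf (⟨k, hk⟩ : ↥T) ∣ Nat.card T := orderOf_dvd_natCard _
    rw [Subgroup.orderOf_mk] at h2
    have h3 : orderOf k ∣ p ^ j := orderOf_dvd_of_pow_eq_one hj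
    have h4 : (orderOf k).Coprime (p ^ j) := Nat.Coprime.coprime_dvd_left h2 (Nat.Coprime.pow_right j h1)
    have h5 : orderOf k = 1 := Nat.eq_one_of_dvd_coprimes h4 dvd_rfl h3
    exact orderOf_eq_one_iff.1 h5
  have hPQ : (P : Subgroup ↥C) ≤ (RGD.Sup X (SP S)).subgroupOf C := by
    by_contra hcon
    have hnil := P.isPGroup'.isNilpotent
    have hlt : ((RGD.Sup X (SP S)).subgroupOf C).subgroupOf (P : Subgroup ↥C) < ⊤ := by
      rw [lt_top_iff_ne_top]
      intro h1
      exact hcon (Subgroup.subgroupOf_eq_top.1 h1)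
    have hnc : NormalizerCondition ↥(P : Subgroup ↥C) := Group.normalizerCondition_of_isNilpotent
    obtain ⟨g, hg, hg'⟩ := SetLike.exists_of_lt (hnc _ hlt)
    have hyP : ((g : ↥C) : ↥C) ∈ (P : Subgroup ↥C) := g.2
    have hyC : ((g : ↥C) : Y) ∈ C := (g : ↥C).2
    have hyQ : ((g : ↥C) : Y) ∉ RGD.Sup X (SP S) := fun h1 => hg' h1
    have hnorm : ∀ x ∈ RGD.Sup X (SP S), ((g : ↥C) : Y) * x * ((g : ↥C) : Y)⁻¹ ∈ RGD.Sup X (SP S) := by
      intro x hx
      have hxP : (⟨x, hQC hx⟩ : ↥C) ∈ (P : Subgroup ↥C) := hP hx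
      exact (Subgroup.mem_normalizer_iff.1 hg ⟨⟨x, hQC hx⟩, hxP⟩).1 hx
    obtain ⟨a, ha, w, k, hk, hkc, b, hb, e⟩ := mem_centralizer R (S := {t}) (Set.singleton_subset_iff.2 D.mem)
      hyC.1 hyC.2
    have ha' := D.sup_cent ha
    have hb' := D.sup_cent hb
    have hke : k = a⁻¹ * ((g : ↥C) : Y) * b⁻¹ := by rw [e]; group
    have hkC : k ∈ C := by
      rw [hke]
      exact mul_mem (mul_mem (inv_mem (hQC ha')) hyC) (inv_mem (hQC hb'))
    have hkP : (⟨k, hkC⟩ : ↥C) ∈ (P : Subgroup ↥C) := by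
      have h1 : (⟨k, hkC⟩ : ↥C) = ⟨a, hQC ha'⟩⁻¹ * (g : ↥C) * ⟨b, hQC hb'⟩⁻¹ := Subtype.ext hke
      rw [h1]
      exact mul_mem (mul_mem (inv_mem (hP ha')) hyP) (inv_mem (hP hb'))
    have hknorm : ∀ x ∈ RGD.Sup X (SP S), k * x * k⁻¹ ∈ RGD.Sup X (SP S) := by
      intro x hx
      have h1 : k * x * k⁻¹ = a⁻¹ * (((g : ↥C) : Y) * (b⁻¹ * x * b) * ((g : ↥C) : Y)⁻¹) * a := by
        rw [hke]; group
      rw [h1]
      exact mul_mem (mul_mem (inv_mem ha') (hnorm _ (mul_mem (mul_mem (inv_mem hb') hx) hb'))) ha'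
    obtain ⟨m, hm⟩ := P.isPGroup' ⟨⟨k, hkC⟩, hkP⟩
    have hm' : k ^ p ^ m = 1 := congrArg (fun z : ↥(P : Subgroup ↥C) => ((z : ↥C) : Y)) hm
    have hw1 : w = 1 := by
      refine D.cop w k hk hkc (fun a ha h0 => D.pos_of_norm hk hknorm ⟨ha, h0⟩) m ?_
      have h1 := rp_pow hk (p ^ m)
      rw [hm'] at h1
      exact rp_unique (R := R) h1 rp_one
    subst hw1
    have hk1 : k = 1 := hT k hk.mem_of_one m hm'
    apply hyQ
    rw [e, hk1, mul_one]
    exact mul_mem ha' hb'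
  -- conjugation
  have huC : u ∈ C := ⟨hu, Subgroup.mem_centralizer_singleton_iff.2 hut⟩
  have hup : IsPGroup p ↥(Subgroup.zpowers (⟨u, huC⟩ : ↥C)) := by
    refine IsPGroup.of_card (n := (Nat.card ↥(Subgroup.zpowers (⟨u, huC⟩ : ↥C))).factorization p) ?_
    rw [Nat.card_zpowers]
    have h1 : orderOf (⟨u, huC⟩ : ↥C) ∣ p ^ j := orderOf_dvd_of_pow_eq_one (Subtype.ext huj)
    obtain ⟨i, -, hi⟩ := (Nat.dvd_prime_pow (Fact.out : p.Prime)).1 h1
    rw [hi, Nat.Prime.factorization_pow (Fact.out : p.Prime), Finsupp.single_eq_same]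
  obtain ⟨P', hP'⟩ := hup.exists_le_sylow
  obtain ⟨g, hg⟩ := MulAction.exists_smul_eq ↥C P' P
  refine ⟨(g : Y), g.2.1, Subgroup.mem_centralizer_singleton_iff.1 g.2.2, ?_⟩
  have h1 : (⟨u, huC⟩ : ↥C) ∈ (P' : Subgroup ↥C) := hP' (Subgroup.mem_zpowers _)
  have h2 : g * ⟨u, huC⟩ * g⁻¹ ∈ (P : Subgroup ↥C) := by
    rw [← hg]
    exact ⟨⟨u, huC⟩, h1, rfl⟩
  exact hPQ h2

end Lvl

section Lim

variable {D : ChevalleyDatum} {l : ℕ} {M : CoxeterMatrix (Fin l)} (hp : IsType D l M) {k : Type u} [Field k]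
  {W : Type v} [Group W] (cs : CoxeterSystem M W)

/-- **The `p`-elements of the centraliser of a toral element.** -/
theorem exists_conj (hk : LocFin k) {p : ℕ} [Fact p.Prime] [CharP k p] {t : ↥(D.group k)} (ht : t ∈ TT D k)
    {u : ↥(D.group k)} (hut : u * t = t * u) {j : ℕ} (huj : u ^ p ^ j = 1) :
    ∃ g : ↥(D.group k), g * t = t * g ∧ g * u * g⁻¹ ∈ RGD.Sup (XX D l k) (SP (Sx cs hp.isCartan (ch hp) t)) := by
  have := finite_W hp cs
  have H := tow (k := k) hp cs hk p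
  have C := coordsL (k := k) hp cs hk p
  have hA := chAddL (k := k) hp cs hk p
  have hXL := XL_eq (k := k) hp hk
  obtain ⟨E1, hE1⟩ := exists_TT hp hk ht
  obtain ⟨E2, hE2⟩ := exists_level hp hk u
  obtain ⟨E, a1, a2⟩ := dir_lev hk E1 E2
  have hX : ∀ a, Xj hp E a ≤ XX D l k a := fun a => by rw [← hXL]; exact le_XL E a
  obtain ⟨t', ht', htt⟩ := hE1 E a1
  have htE : t ∈ Tj hp E := ⟨t', ht', htt⟩
  have huE : u ∈ GG cs hp.isCartan (Tj hp E) (Xj hp E) := by
    rw [GGj_eq hp cs]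
    exact hE2 E a2
  have hfin : Finite ↥(GG cs hp.isCartan (Tj hp E) (Xj hp E)) := finite_GG hp cs E
  have hD : CD (H.rgd E) t (Sx cs hp.isCartan (ch hp) t) :=
    { mem := htE
      root := fun a ha => ha.1
      cent := fun a ha => (hX a).trans (X_le_centralizer C ht ha)
      of_cent := fun a ha u hu hu1 hc => mem_Sx_of_centralizer C ht ha (hX a hu) hu1 hc
      cop := fun w kk hkk hkc hpos j hj => by
        by_contra hw1
        obtain ⟨a, ha, hsum⟩ := Fix.exists_root_sum_eq_zero (cs := cs) (h := hp.isCartan) hw1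
          (pow_pos (Fact.out : p.Prime).pos j) hj
        obtain ⟨φ, h0, hadd, hφ⟩ := hA t ht
        have hkk' := H.rp_up hkk
        have C' : Coords cs hp.isCartan (TL (Tj hp (k := k))) (nc hp k) (XL (Xj hp (k := k))) (xc hp) (ch hp) := by
          rw [TL_eq hp hk, XL_eq hp hk]; exact C
        have ht'' : t ∈ TL (Tj hp (k := k)) := by rw [TL_eq hp hk]; exact ht
        have hchi : ∀ a, IsRoot cs hp.isCartan a → ch hp (rep cs hp.isCartan w a) t = ch hp a t := by
          intro a ha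
          have h1 := C'.chi_rp H.nsys hkk' ha ht''
          rw [Subgroup.mem_centralizer_singleton_iff] at hkc
          have h2 : kk * t * kk⁻¹ = t := by rw [hkc]; group
          rwa [h2] at h1
        have hact : ∀ (i : ℕ) a, IsRoot cs hp.isCartan a →
            ch hp (rep cs hp.isCartan (w ^ i) a) t = ch hp a t := by
          intro i
          induction i with
          | zero => intro a _; rw [pow_zero, map_one, Module.End.one_apply]
          | succ i ih => intro a ha; rw [pow_succ, rep_mul_apply, ih _ (ha.act w), hchi a ha]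
        have h1 : ∀ m : ℕ, φ (∑ i ∈ Finset.range m, rep cs hp.isCartan (w ^ i) a) = φ a ^ m := by
          intro m
          induction m with
          | zero => rw [Finset.sum_range_zero, h0, pow_zero]
          | succ m ih => rw [Finset.sum_range_succ, hadd, ih, ← hφ _ (ha.act (w ^ m)), hact m a ha, hφ a ha, pow_succ]
        have h2 : φ a ^ p ^ j = 1 := by rw [← h1, hsum, h0]
        have h3 : φ a = 1 := by
          have h4 : (φ a - 1) ^ p ^ j = 0 := by rw [sub_pow_char_pow, h2, one_pow, sub_self]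
          exact sub_eq_zero.1 (eq_zero_of_pow_eq_zero h4)
        -- the sign
        have key : ∀ b : Fin l → ℤ, IsRoot cs hp.isCartan b → φ b = 1 → 0 ≤ b →
            ∑ i ∈ Finset.range (p ^ j), rep cs hp.isCartan (w ^ i) b ≠ 0 := by
          intro b hb hb1 hb0 hcon
          have h5 : ∀ i : ℕ, 0 ≤ rep cs hp.isCartan (w ^ i) b := by
            intro i
            induction i with
            | zero => rwa [pow_zero, map_one, Module.End.one_apply]
            | succ i ih =>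
              rw [pow_succ', rep_mul_apply]
              refine hpos _ ⟨hb.act _, ?_⟩ ih
              rw [hact i b hb, hφ b hb, hb1]
          have h6 : 0 < ∑ i ∈ Finset.range (p ^ j), Tits.Roots.ht (rep cs hp.isCartan (w ^ i) b) :=
            Finset.sum_pos (fun i _ => RGD.ht_pos (hb.act _) (h5 i))
              ⟨0, Finset.mem_range.2 (pow_pos (Fact.out : p.Prime).pos j)⟩
          have h7 : Slope.htHom (∑ i ∈ Finset.range (p ^ j), rep cs hp.isCartan (w ^ i) b) =
              ∑ i ∈ Finset.range (p ^ j), Tits.Roots.ht (rep cs hp.isCartan (w ^ i) b) := by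
            rw [map_sum]
            rfl
          rw [hcon, map_zero] at h7
          omega
        rcases ha.pos_or_neg with h5 | h5
        · exact key a ha h3 h5 hsum
        · refine key (-a) ha.neg ?_ (neg_nonneg.2 h5) ?_
          · have h6 := hadd a (-a)
            rw [add_neg_cancel, h0, h3, one_mul] at h6
            exact h6.symm
          · simp only [map_neg, Finset.sum_neg_distrib, hsum, neg_zero] }
  obtain ⟨g, hg, hgt, hgu⟩ := hD.conj_mem huE hut huj
  refine ⟨g, hgt, ?_⟩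
  have h1 : RGD.Sup (Xj hp E) (SP (Sx cs hp.isCartan (ch hp) t)) ≤
      RGD.Sup (XX D l k) (SP (Sx cs hp.isCartan (ch hp) t)) :=
    RGD.Sup_le fun a ha => (hX a).trans (RGD.le_Sup ha)
  exact h1 hgu

end Lim

end Cfsg.Agent.H378.UnipCent
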