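import Mathlib
import Cfsg.Agent.H378.UnipCent
import Cfsg.Agent.H378.Eng.Expo
import Cfsg.Agent.H129.TriD4
import Cfsg.Agent.H720.RowsNeg_m3
import Cfsg.Agent.KFacts.RgdOver
import Cfsg.Agent.Lib.FinFast
import Cfsg.Agent.H378.SmallTor_m3
import Cfsg.Agent.H135.TD.Spec
import Cfsg.Agent.FastGrp
import Cfsg.Agent.Prune
set_option linter.all false

section
prune_inst 0x7f00000000000000000000000000000000000000000000000000000000000000000000000000000000000000000000000000000000000000000000000000000000000000000000000000000000000000003fffffffffffffffffffffffffffbeffbdffffffff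

-- part: H378/OmD4Tor
section
set_option linter.all false
open scoped Cfsg.Agent.FastGrp
private noncomputable def lq262e3a155f {T : Sort _} (f :
    type_of% (@_root_.List.cons.{0}) →
    type_of% (@_root_.Prod.mk.{0, 0}) →
    type_of% (@_root_.List.nil.{0}) →
    type_of% (@_root_.Matrix.vecCons.{0}) →
    type_of% (@_root_.Matrix.vecEmpty.{0}) →
    ((Fin 4 → Fin 4 → Int) → (Fin 4 → Fin 4 → Int)) → T) : T :=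
  f (@_root_.List.cons.{0}) (@_root_.Prod.mk.{0, 0}) (@_root_.List.nil.{0}) (@_root_.Matrix.vecCons.{0}) (@_root_.Matrix.vecEmpty.{0}) (fun x => x)

-- part: H378/OmD4Tab
section
/-!
# The Weyl group of type `D₄` times the triality: tables (helper378)

`Tab` : the 192 matrices `w · tri`, `w` in the Weyl group, with words conjugating them to the seven representatives
`reps`. The lattice statements needed for the element orders of `³D₄(q)`.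
-/

set_option autoImplicit false

namespace Cfsg.Agent.H378.OmD4

/-- integral vectors with four coordinates -/
@[ext] structure V where
  a : ℤ
  b : ℤ
  c : ℤ
  d : ℤ
deriving DecidableEq

namespace V

def fn (v : V) : Fin 4 → ℤ := ![v.a, v.b, v.c, v.d]

def add (u v : V) : V := ⟨u.a + v.a, u.b + v.b, u.c + v.c, u.d + v.d⟩

def sm (n : ℤ) (v : V) : V := ⟨n * v.a, n * v.b, n * v.c, n * v.d⟩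

end V

/-- four by four matrices, given by the images of the basis vectors -/
@[ext] structure Mx where
  x : V
  y : V
  z : V
  w : V
deriving DecidableEq

namespace Mx

def ap (F : Mx) (v : V) : V :=
  ⟨v.a * F.x.a + v.b * F.y.a + v.c * F.z.a + v.d * F.w.a,
    v.a * F.x.b + v.b * F.y.b + v.c * F.z.b + v.d * F.w.b,
    v.a * F.x.c + v.b * F.y.c + v.c * F.z.c + v.d * F.w.c,
    v.a * F.x.d + v.b * F.y.d + v.c * F.z.d + v.d * F.w.d⟩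

def mul (F G : Mx) : Mx := ⟨F.ap G.x, F.ap G.y, F.ap G.z, F.ap G.w⟩

end Mx

/-- the simple reflections -/
def refl : Fin 4 → Mx
  | 0 => ⟨⟨-1, 0, 0, 0⟩, ⟨1, 1, 0, 0⟩, ⟨0, 0, 1, 0⟩, ⟨0, 0, 0, 1⟩⟩
  | 1 => ⟨⟨1, 1, 0, 0⟩, ⟨0, -1, 0, 0⟩, ⟨0, 1, 1, 0⟩, ⟨0, 1, 0, 1⟩⟩
  | 2 => ⟨⟨1, 0, 0, 0⟩, ⟨0, 1, 1, 0⟩, ⟨0, 0, -1, 0⟩, ⟨0, 0, 0, 1⟩⟩
  | 3 => ⟨⟨1, 0, 0, 0⟩, ⟨0, 1, 0, 1⟩, ⟨0, 0, 1, 0⟩, ⟨0, 0, 0, -1⟩⟩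

/-- the triality -/
def T : Mx := ⟨⟨0, 0, 1, 0⟩, ⟨0, 1, 0, 0⟩, ⟨0, 0, 0, 1⟩, ⟨1, 0, 0, 0⟩⟩

/-- conjugation by simple reflections -/
def conjw : List (Fin 4) → Mx → Mx
  | [], M => M
  | i :: u, M => conjw u ((refl i).mul (M.mul (refl i)))

/-- representatives of the classes -/
def reps : Fin 7 → Mx
  | 0 => ⟨⟨0, 0, 1, 0⟩, ⟨0, 1, 0, 0⟩, ⟨0, 0, 0, 1⟩, ⟨1, 0, 0, 0⟩⟩
  | 1 => ⟨⟨0, 0, 1, 0⟩, ⟨1, 1, 0, 0⟩, ⟨0, 0, 0, 1⟩, ⟨-1, 0, 0, 0⟩⟩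
  | 2 => ⟨⟨0, 1, 1, 0⟩, ⟨0, -1, 0, 0⟩, ⟨0, 1, 0, 1⟩, ⟨1, 1, 0, 0⟩⟩
  | 3 => ⟨⟨0, 1, 1, 0⟩, ⟨1, 0, 0, 0⟩, ⟨0, 1, 0, 1⟩, ⟨-1, -1, 0, 0⟩⟩
  | 4 => ⟨⟨1, 1, 0, 0⟩, ⟨-1, 0, 0, 0⟩, ⟨1, 1, 1, 1⟩, ⟨0, -1, -1, 0⟩⟩
  | 5 => ⟨⟨-1, 0, 0, 0⟩, ⟨0, -1, 0, 0⟩, ⟨1, 2, 1, 1⟩, ⟨0, 0, -1, 0⟩⟩
  | 6 => ⟨⟨0, 1, 1, 1⟩, ⟨0, -1, -1, 0⟩, ⟨0, 1, 0, 0⟩, ⟨-1, -1, 0, -1⟩⟩

/-- the 192 matrices -/
def Tab : List (Mx × List (Fin 4) × Fin 7) := (beta% (fun (vq0 : List (Cfsg.Agent.H378.OmD4.Mx × List (Fin 4) × Fin 7)) => (beta% delta% lq262e3a155f fun a b c _ _ _ =>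
 (let d:type_of% vq0:=(let d:type_of% vq0:=(let d:type_of% vq0:=(let d:type_of% vq0:=(let d:type_of% vq0:=(a (b ⟨⟨0, -1, -1, 0⟩, ⟨-1, 0, 0, 0⟩, ⟨0, -1, 0, -1⟩, ⟨1, 1, 0, 0⟩⟩<|b (a 2<|a 1<|a 3<|a 2<|a 1<|a 0<|c) 3)<|
 a (b ⟨⟨0, 0, -1, 0⟩, ⟨0, -1, 0, -1⟩, ⟨0, 0, 0, 1⟩, ⟨-1, 0, 0, 0⟩⟩<|b (a 0<|a 1<|a 3<|a 2<|a 0<|c) 2)<|
 a (b ⟨⟨0, 0, 1, 0⟩, ⟨0, -1, -1, 0⟩, ⟨0, 0, 0, -1⟩, ⟨-1, 0, 0, 0⟩⟩<|b (a 1<|a 3<|a 1<|a 2<|a 0<|c) 2)<|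
 a (b ⟨⟨0, -1, -1, 0⟩, ⟨0, 1, 0, 0⟩, ⟨0, -1, 0, -1⟩, ⟨-1, -1, 0, 0⟩⟩<|b (a 3<|a 0<|a 1<|a 2<|a 1<|c) 1)<|
 a (b ⟨⟨0, 0, -1, 0⟩, ⟨-1, -1, 0, 0⟩, ⟨0, 0, 0, -1⟩, ⟨1, 0, 0, 0⟩⟩<|b (a 2<|a 1<|a 3<|a 2<|a 0<|c) 2)<|
 a (b ⟨⟨0, 0, -1, 0⟩, ⟨0, -1, 0, 0⟩, ⟨0, 0, 0, -1⟩, ⟨-1, 0, 0, 0⟩⟩<|b (a 0<|a 1<|a 3<|a 2<|c) 5)<|c);
 (a (b ⟨⟨0, 1, 1, 0⟩, ⟨0, 0, -1, 0⟩, ⟨0, -1, 0, -1⟩, ⟨-1, -1, 0, 0⟩⟩<|b (a 3<|a 1<|a 2<|a 0<|c) 3)<|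
 a (b ⟨⟨0, -1, -1, -1⟩, ⟨0, 1, 0, 1⟩, ⟨0, -1, 0, 0⟩, ⟨-1, -1, 0, -1⟩⟩<|b (a 0<|a 1<|a 3<|a 2<|a 1<|c) 3)<|
 a (b ⟨⟨0, -1, 0, 0⟩, ⟨0, 1, 1, 0⟩, ⟨0, -1, -1, -1⟩, ⟨-1, -1, -1, 0⟩⟩<|b (a 1<|a 3<|a 1<|a 2<|a 0<|c) 3)<|
 a (b ⟨⟨-1, -1, -1, 0⟩, ⟨1, 1, 0, 0⟩, ⟨-1, -1, 0, -1⟩, ⟨0, -1, 0, 0⟩⟩<|b (a 2<|a 1<|a 3<|a 1<|a 0<|c) 3)<|
 a (b ⟨⟨0, 0, -1, 0⟩, ⟨-1, -1, 0, -1⟩, ⟨0, 0, 0, 1⟩, ⟨1, 0, 0, 0⟩⟩<|b (a 2<|a 1<|a 3<|a 2<|c) 5)<|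
 a (b ⟨⟨0, 0, 1, 0⟩, ⟨-1, -1, -1, 0⟩, ⟨0, 0, 0, -1⟩, ⟨1, 0, 0, 0⟩⟩<|b (a 1<|a 3<|a 2<|c) 5)<|
 d));
 (let d:type_of% d:=(a (b ⟨⟨0, 1, 1, 0⟩, ⟨-1, -1, -1, 0⟩, ⟨0, -1, 0, -1⟩, ⟨1, 1, 0, 0⟩⟩<|b (a 2<|a 0<|a 1<|a 3<|a 0<|c) 2)<|
 a (b ⟨⟨0, -1, -1, -1⟩, ⟨-1, 0, 0, 0⟩, ⟨0, -1, 0, 0⟩, ⟨1, 1, 0, 1⟩⟩<|b (a 0<|a 1<|a 2<|a 1<|c) 1)<|
 a (b ⟨⟨0, -1, 0, 0⟩, ⟨-1, 0, 0, 0⟩, ⟨0, -1, -1, -1⟩, ⟨1, 1, 1, 0⟩⟩<|b (a 1<|a 3<|a 2<|a 1<|a 0<|c) 2)<|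
 a (b ⟨⟨-1, -1, -1, 0⟩, ⟨1, 0, 0, 0⟩, ⟨-1, -1, 0, -1⟩, ⟨0, 1, 0, 0⟩⟩<|b (a 2<|a 1<|a 3<|a 0<|c) 2)<|
 a (b ⟨⟨0, -1, -1, 0⟩, ⟨0, 0, 0, -1⟩, ⟨0, 1, 0, 1⟩, ⟨-1, -1, 0, 0⟩⟩<|b (a 3<|a 0<|a 1<|a 2<|c) 3)<|
 a (b ⟨⟨0, 0, 1, 0⟩, ⟨0, -1, -1, -1⟩, ⟨0, 0, 0, 1⟩, ⟨-1, 0, 0, 0⟩⟩<|b (a 1<|a 3<|a 1<|a 2<|c) 5)<|
 d);
 (a (b ⟨⟨0, -1, 0, -1⟩, ⟨0, 1, 1, 1⟩, ⟨0, -1, -1, 0⟩, ⟨-1, -1, -1, -1⟩⟩<|b (a 2<|a 0<|a 1<|a 3<|a 2<|c) 2)<|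
 a (b ⟨⟨0, 1, 0, 0⟩, ⟨0, 0, 1, 0⟩, ⟨0, -1, -1, -1⟩, ⟨-1, -1, -1, 0⟩⟩<|b (a 3<|a 1<|a 2<|a 0<|c) 2)<|
 a (b ⟨⟨-1, -1, -1, -1⟩, ⟨1, 1, 0, 1⟩, ⟨-1, -1, 0, 0⟩, ⟨0, -1, 0, -1⟩⟩<|b (a 2<|a 1<|a 3<|a 1<|a 0<|c) 2)<|
 a (b ⟨⟨-1, -1, 0, 0⟩, ⟨1, 1, 1, 0⟩, ⟨-1, -1, -1, -1⟩, ⟨0, -1, -1, 0⟩⟩<|b (a 3<|a 0<|a 1<|a 2<|a 0<|c) 2)<|
 a (b ⟨⟨0, -1, -1, 0⟩, ⟨-1, -1, 0, -1⟩, ⟨0, 1, 0, 1⟩, ⟨1, 1, 0, 0⟩⟩<|b (a 0<|a 1<|a 3<|a 1<|a 2<|c) 2)<|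
 a (b ⟨⟨0, 0, 1, 0⟩, ⟨-1, -1, -1, -1⟩, ⟨0, 0, 0, 1⟩, ⟨1, 0, 0, 0⟩⟩<|b (a 1<|a 3<|a 2<|a 0<|c) 2)<|
 d)));
 (let d:type_of% d:=(let d:type_of% d:=(a (b ⟨⟨0, -1, 0, 0⟩, ⟨0, 0, 0, -1⟩, ⟨0, 1, 1, 1⟩, ⟨-1, -1, -1, 0⟩⟩<|b (a 3<|a 0<|a 1<|a 2<|c) 1)<|
 a (b ⟨⟨-1, -1, -1, 0⟩, ⟨0, 0, 0, -1⟩, ⟨1, 1, 0, 1⟩, ⟨0, -1, 0, 0⟩⟩<|b (a 1<|a 2<|a 0<|a 1<|a 3<|c) 2)<|
 a (b ⟨⟨0, 1, 1, 0⟩, ⟨0, -1, -1, -1⟩, ⟨0, 1, 0, 1⟩, ⟨-1, -1, 0, 0⟩⟩<|b (a 3<|a 1<|a 2<|a 1<|a 0<|c) 2)<|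
 a (b ⟨⟨0, 1, 1, 1⟩, ⟨0, 0, -1, 0⟩, ⟨0, -1, 0, 0⟩, ⟨-1, -1, 0, -1⟩⟩<|b (a 1<|a 3<|a 0<|a 1<|a 2<|c) 2)<|
 a (b ⟨⟨1, 1, 1, 0⟩, ⟨0, 0, -1, 0⟩, ⟨-1, -1, 0, -1⟩, ⟨0, -1, 0, 0⟩⟩<|b (a 3<|a 1<|a 2<|a 1<|c) 1)<|
 a (b ⟨⟨0, -1, -1, -1⟩, ⟨0, 0, 0, 1⟩, ⟨0, 1, 0, 0⟩, ⟨-1, -1, 0, -1⟩⟩<|b (a 0<|a 1<|a 3<|a 2<|c) 2)<|
 d);
 (a (b ⟨⟨1, 1, 1, 0⟩, ⟨0, -1, -1, 0⟩, ⟨-1, -1, 0, -1⟩, ⟨0, 1, 0, 0⟩⟩<|b (a 2<|a 1<|a 3<|a 0<|a 1<|c) 3)<|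
 a (b ⟨⟨0, -1, -1, -1⟩, ⟨-1, -1, 0, 0⟩, ⟨0, 1, 0, 0⟩, ⟨1, 1, 0, 1⟩⟩<|b (a 0<|a 1<|a 2<|c) 3)<|
 a (b ⟨⟨0, -1, 0, -1⟩, ⟨-1, 0, 0, 0⟩, ⟨0, -1, -1, 0⟩, ⟨1, 1, 1, 1⟩⟩<|b (a 1<|a 3<|a 2<|a 0<|c) 3)<|
 a (b ⟨⟨0, 1, 0, 0⟩, ⟨-1, -1, 0, 0⟩, ⟨0, -1, -1, -1⟩, ⟨1, 1, 1, 0⟩⟩<|b (a 3<|a 1<|c) 6)<|
 a (b ⟨⟨-1, -1, -1, -1⟩, ⟨1, 0, 0, 0⟩, ⟨-1, -1, 0, 0⟩, ⟨0, 1, 0, 1⟩⟩<|b (a 0<|a 1<|a 2<|a 0<|c) 3)<|
 a (b ⟨⟨-1, -1, 0, 0⟩, ⟨1, 0, 0, 0⟩, ⟨-1, -1, -1, -1⟩, ⟨0, 1, 1, 0⟩⟩<|b (a 2<|a 1<|a 0<|c) 6)<|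
 d));
 (let d:type_of% d:=(a (b ⟨⟨-1, -1, 0, -1⟩, ⟨1, 1, 1, 1⟩, ⟨-1, -1, -1, 0⟩, ⟨0, -1, -1, -1⟩⟩<|b (a 2<|a 0<|c) 6)<|
 a (b ⟨⟨-1, 0, 0, 0⟩, ⟨1, 1, 1, 0⟩, ⟨-1, -2, -1, -1⟩, ⟨0, 0, -1, 0⟩⟩<|b (a 3<|a 2<|c) 5)<|
 a (b ⟨⟨0, -1, 0, 0⟩, ⟨-1, -1, -1, -1⟩, ⟨0, 1, 1, 1⟩, ⟨1, 1, 1, 0⟩⟩<|b (a 1<|a 3<|a 2<|a 1<|a 0<|c) 3)<|
 a (b ⟨⟨-1, -1, -1, 0⟩, ⟨0, -1, 0, -1⟩, ⟨1, 1, 0, 1⟩, ⟨0, 1, 0, 0⟩⟩<|b (a 1<|a 0<|c) 6)<|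
 a (b ⟨⟨0, 1, 1, 0⟩, ⟨-1, -2, -1, -1⟩, ⟨0, 1, 0, 1⟩, ⟨1, 1, 0, 0⟩⟩<|b (a 3<|c) 6)<|
 a (b ⟨⟨0, 1, 1, 1⟩, ⟨-1, -1, -1, -1⟩, ⟨0, -1, 0, 0⟩, ⟨1, 1, 0, 1⟩⟩<|b (a 1<|a 2<|a 0<|c) 3)<|
 d);
 (a (b ⟨⟨0, -1, 0, -1⟩, ⟨0, 0, 0, 1⟩, ⟨0, 1, 1, 0⟩, ⟨-1, -1, -1, -1⟩⟩<|b (a 0<|a 1<|a 3<|a 0<|a 1<|a 0<|c) 3)<|
 a (b ⟨⟨-1, -1, -1, -1⟩, ⟨0, 0, 0, 1⟩, ⟨1, 1, 0, 0⟩, ⟨0, -1, 0, -1⟩⟩<|b (a 0<|c) 6)<|
 a (b ⟨⟨0, 0, 0, -1⟩, ⟨0, 1, 1, 1⟩, ⟨0, 0, -1, 0⟩, ⟨-1, -2, -1, -1⟩⟩<|b (a 3<|a 1<|a 2<|c) 5)<|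
 a (b ⟨⟨0, 1, 0, 1⟩, ⟨0, 0, 1, 0⟩, ⟨0, -1, -1, 0⟩, ⟨-1, -1, -1, -1⟩⟩<|b (a 1<|c) 6)<|
 a (b ⟨⟨1, 1, 0, 0⟩, ⟨0, 0, 1, 0⟩, ⟨-1, -1, -1, -1⟩, ⟨0, -1, -1, 0⟩⟩<|b (a 3<|a 1<|a 2<|a 1<|c) 3)<|
 a (b ⟨⟨-1, -2, -1, -1⟩, ⟨1, 1, 0, 1⟩, ⟨-1, 0, 0, 0⟩, ⟨0, 0, 0, -1⟩⟩<|b (a 2<|a 1<|a 3<|c) 5)<|
 d))));
 (let d:type_of% d:=(let d:type_of% d:=(let d:type_of% d:=(a (b ⟨⟨-1, 0, 0, 0⟩, ⟨1, 1, 0, 0⟩, ⟨-1, -2, -1, -1⟩, ⟨0, 0, 1, 0⟩⟩<|b (a 3<|a 2<|a 1<|a 0<|c) 2)<|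
 a (b ⟨⟨-1, -1, 0, 0⟩, ⟨0, 0, 0, -1⟩, ⟨1, 1, 1, 1⟩, ⟨0, -1, -1, 0⟩⟩<|b (a 1<|a 3<|a 1<|a 0<|c) 3)<|
 a (b ⟨⟨0, 1, 0, 0⟩, ⟨0, -1, 0, -1⟩, ⟨0, 1, 1, 1⟩, ⟨-1, -1, -1, 0⟩⟩<|b (a 3<|a 1<|a 2<|a 1<|a 0<|c) 3)<|
 a (b ⟨⟨1, 1, 1, 0⟩, ⟨-1, -1, -1, -1⟩, ⟨1, 1, 0, 1⟩, ⟨0, -1, 0, 0⟩⟩<|b (a 3<|a 1<|a 2<|c) 3)<|
 a (b ⟨⟨0, 1, 1, 1⟩, ⟨0, -1, -1, 0⟩, ⟨0, 1, 0, 0⟩, ⟨-1, -1, 0, -1⟩⟩<|b c 6)<|
 a (b ⟨⟨1, 1, 1, 1⟩, ⟨0, 0, -1, 0⟩, ⟨-1, -1, 0, 0⟩, ⟨0, -1, 0, -1⟩⟩<|b (a 1<|a 3<|a 2<|a 1<|c) 3)<|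
 d);
 (a (b ⟨⟨-1, -1, -1, -1⟩, ⟨0, -1, 0, 0⟩, ⟨1, 1, 0, 0⟩, ⟨0, 1, 0, 1⟩⟩<|b (a 0<|a 1<|a 2<|a 1<|a 0<|c) 2)<|
 a (b ⟨⟨0, 0, 0, -1⟩, ⟨-1, -1, 0, 0⟩, ⟨0, 0, -1, 0⟩, ⟨1, 2, 1, 1⟩⟩<|b (a 0<|a 1<|a 2<|c) 2)<|
 a (b ⟨⟨0, 1, 0, 1⟩, ⟨-1, -1, 0, -1⟩, ⟨0, -1, -1, 0⟩, ⟨1, 1, 1, 1⟩⟩<|b (a 1<|a 2<|a 0<|c) 2)<|
 a (b ⟨⟨1, 1, 0, 0⟩, ⟨0, -1, 0, 0⟩, ⟨-1, -1, -1, -1⟩, ⟨0, 1, 1, 0⟩⟩<|b (a 2<|a 1<|a 3<|a 1<|a 2<|c) 2)<|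
 a (b ⟨⟨-1, -2, -1, -1⟩, ⟨1, 1, 0, 0⟩, ⟨-1, 0, 0, 0⟩, ⟨0, 0, 0, 1⟩⟩<|b (a 0<|a 1<|a 2<|a 0<|a 1<|c) 1)<|
 a (b ⟨⟨-1, -1, 0, -1⟩, ⟨1, 0, 0, 0⟩, ⟨-1, -1, -1, 0⟩, ⟨0, 1, 1, 1⟩⟩<|b (a 0<|a 1<|a 2<|a 0<|c) 2)<|
 d));
 (let d:type_of% d:=(a (b ⟨⟨-1, -1, 0, 0⟩, ⟨0, -1, -1, -1⟩, ⟨1, 1, 1, 1⟩, ⟨0, 1, 1, 0⟩⟩<|b (a 1<|a 3<|a 0<|c) 2)<|
 a (b ⟨⟨0, 1, 0, 0⟩, ⟨-1, -2, -1, -1⟩, ⟨0, 1, 1, 1⟩, ⟨1, 1, 1, 0⟩⟩<|b (a 0<|a 1<|a 3<|a 0<|c) 2)<|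
 a (b ⟨⟨1, 1, 1, 0⟩, ⟨-1, -2, -1, -1⟩, ⟨1, 1, 0, 1⟩, ⟨0, 1, 0, 0⟩⟩<|b (a 1<|a 3<|a 1<|a 2<|c) 2)<|
 a (b ⟨⟨0, 1, 1, 1⟩, ⟨-1, -2, -1, -1⟩, ⟨0, 1, 0, 0⟩, ⟨1, 1, 0, 1⟩⟩<|b (a 1<|a 2<|a 1<|a 0<|c) 2)<|
 a (b ⟨⟨1, 1, 1, 1⟩, ⟨0, -1, -1, -1⟩, ⟨-1, -1, 0, 0⟩, ⟨0, 1, 0, 1⟩⟩<|b (a 1<|a 2<|a 1<|c) 1)<|
 a (b ⟨⟨0, -1, 0, -1⟩, ⟨-1, -1, -1, 0⟩, ⟨0, 1, 1, 0⟩, ⟨1, 1, 1, 1⟩⟩<|b (a 0<|a 1<|a 2<|c) 1)<|
 d);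
 (a (b ⟨⟨1, 1, 0, 1⟩, ⟨0, 0, 1, 0⟩, ⟨-1, -1, -1, 0⟩, ⟨0, -1, -1, -1⟩⟩<|b (a 2<|a 1<|a 3<|a 2<|c) 2)<|
 a (b ⟨⟨-1, -2, -1, -1⟩, ⟨1, 1, 1, 1⟩, ⟨-1, 0, 0, 0⟩, ⟨0, 0, 0, -1⟩⟩<|b (a 0<|a 1<|a 3<|c) 2)<|
 a (b ⟨⟨-1, -2, -1, -1⟩, ⟨0, 1, 0, 1⟩, ⟨1, 0, 0, 0⟩, ⟨0, 0, 0, -1⟩⟩<|b (a 2<|a 0<|a 1<|a 3<|c) 2)<|
 a (b ⟨⟨-1, -1, 0, -1⟩, ⟨1, 2, 1, 1⟩, ⟨-1, -1, -1, 0⟩, ⟨0, -1, -1, -1⟩⟩<|b (a 3<|a 2<|a 0<|c) 2)<|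
 a (b ⟨⟨-1, 0, 0, 0⟩, ⟨1, 1, 1, 1⟩, ⟨-1, -2, -1, -1⟩, ⟨0, 0, -1, 0⟩⟩<|b (a 2<|a 1<|a 0<|c) 2)<|
 a (b ⟨⟨1, 0, 0, 0⟩, ⟨0, 1, 1, 0⟩, ⟨-1, -2, -1, -1⟩, ⟨0, 0, -1, 0⟩⟩<|b (a 1<|a 3<|a 1<|a 2<|a 1<|c) 1)<|
 d)));
 (let d:type_of% d:=(let d:type_of% d:=(a (b ⟨⟨1, 1, 1, 1⟩, ⟨-1, -1, -1, 0⟩, ⟨1, 1, 0, 0⟩, ⟨0, -1, 0, -1⟩⟩<|b (a 1<|a 3<|a 2<|c) 2)<|
 a (b ⟨⟨1, 2, 1, 1⟩, ⟨0, -1, -1, 0⟩, ⟨-1, 0, 0, 0⟩, ⟨0, 0, 0, -1⟩⟩<|b (a 2<|a 1<|a 3<|c) 2)<|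
 a (b ⟨⟨-1, -1, 0, -1⟩, ⟨0, 0, 0, 1⟩, ⟨1, 1, 1, 0⟩, ⟨0, -1, -1, -1⟩⟩<|b (a 1<|a 3<|a 1<|a 0<|c) 2)<|
 a (b ⟨⟨0, 0, 0, -1⟩, ⟨0, 1, 0, 1⟩, ⟨0, 0, 1, 0⟩, ⟨-1, -2, -1, -1⟩⟩<|b (a 1<|a 3<|a 0<|a 1<|a 2<|c) 1)<|
 a (b ⟨⟨0, 0, 0, -1⟩, ⟨1, 1, 1, 1⟩, ⟨0, 0, -1, 0⟩, ⟨-1, -2, -1, -1⟩⟩<|b (a 3<|a 1<|a 2<|c) 2)<|
 a (b ⟨⟨0, 0, 0, 1⟩, ⟨0, 1, 1, 0⟩, ⟨0, 0, -1, 0⟩, ⟨-1, -2, -1, -1⟩⟩<|b (a 3<|a 0<|a 1<|a 2<|c) 2)<|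
 d);
 (a (b ⟨⟨-1, -1, 0, -1⟩, ⟨1, 1, 0, 0⟩, ⟨-1, -1, -1, 0⟩, ⟨0, 1, 1, 1⟩⟩<|b (a 3<|a 2<|a 0<|c) 3)<|
 a (b ⟨⟨-1, 0, 0, 0⟩, ⟨1, 1, 0, 1⟩, ⟨-1, -2, -1, -1⟩, ⟨0, 0, 1, 0⟩⟩<|b (a 2<|c) 5)<|
 a (b ⟨⟨1, 0, 0, 0⟩, ⟨0, 1, 0, 0⟩, ⟨-1, -2, -1, -1⟩, ⟨0, 0, 1, 0⟩⟩<|b (a 3<|a 2<|a 1<|a 0<|c) 0)<|
 a (b ⟨⟨-1, 0, 0, 0⟩, ⟨0, -1, 0, -1⟩, ⟨1, 2, 1, 1⟩, ⟨0, 0, -1, 0⟩⟩<|b (a 3<|a 1<|a 0<|c) 2)<|
 a (b ⟨⟨1, 1, 0, 0⟩, ⟨-1, -1, 0, -1⟩, ⟨1, 1, 1, 1⟩, ⟨0, -1, -1, 0⟩⟩<|b (a 3<|a 1<|a 2<|c) 1)<|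
 a (b ⟨⟨0, 1, 0, 1⟩, ⟨0, -1, 0, 0⟩, ⟨0, 1, 1, 0⟩, ⟨-1, -1, -1, -1⟩⟩<|b (a 0<|a 1<|a 3<|a 1<|a 0<|c) 2)<|
 d));
 (let d:type_of% d:=(a (b ⟨⟨0, 0, 0, -1⟩, ⟨-1, -1, -1, 0⟩, ⟨0, 0, 1, 0⟩, ⟨1, 2, 1, 1⟩⟩<|b (a 0<|a 1<|a 2<|c) 0)<|
 a (b ⟨⟨0, 0, 0, -1⟩, ⟨0, -1, 0, 0⟩, ⟨0, 0, -1, 0⟩, ⟨1, 2, 1, 1⟩⟩<|b (a 0<|a 1<|a 2<|c) 5)<|
 a (b ⟨⟨0, 0, 0, 1⟩, ⟨-1, -1, 0, -1⟩, ⟨0, 0, -1, 0⟩, ⟨1, 2, 1, 1⟩⟩<|b (a 1<|a 2<|c) 5)<|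
 a (b ⟨⟨1, 1, 0, 1⟩, ⟨0, -1, 0, -1⟩, ⟨-1, -1, -1, 0⟩, ⟨0, 1, 1, 1⟩⟩<|b (a 1<|a 2<|a 1<|c) 3)<|
 a (b ⟨⟨-1, -2, -1, -1⟩, ⟨1, 1, 1, 0⟩, ⟨-1, 0, 0, 0⟩, ⟨0, 0, 0, 1⟩⟩<|b (a 0<|a 1<|a 3<|c) 0)<|
 a (b ⟨⟨-1, -2, -1, -1⟩, ⟨0, 1, 0, 0⟩, ⟨1, 0, 0, 0⟩, ⟨0, 0, 0, 1⟩⟩<|b (a 2<|a 0<|a 1<|a 3<|c) 0)<|
 d);
 (a (b ⟨⟨-1, 0, 0, 0⟩, ⟨0, -1, -1, -1⟩, ⟨1, 2, 1, 1⟩, ⟨0, 0, 1, 0⟩⟩<|b (a 3<|c) 5)<|
 a (b ⟨⟨1, 1, 0, 0⟩, ⟨-1, -2, -1, -1⟩, ⟨1, 1, 1, 1⟩, ⟨0, 1, 1, 0⟩⟩<|b (a 1<|a 3<|a 0<|a 1<|c) 3)<|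
 a (b ⟨⟨0, 1, 0, 1⟩, ⟨-1, -2, -1, -1⟩, ⟨0, 1, 1, 0⟩, ⟨1, 1, 1, 1⟩⟩<|b (a 1<|a 2<|a 1<|a 0<|c) 3)<|
 a (b ⟨⟨1, 1, 1, 1⟩, ⟨-1, -2, -1, -1⟩, ⟨1, 1, 0, 0⟩, ⟨0, 1, 0, 1⟩⟩<|b (a 1<|a 2<|c) 3)<|
 a (b ⟨⟨1, 2, 1, 1⟩, ⟨0, -1, -1, -1⟩, ⟨-1, 0, 0, 0⟩, ⟨0, 0, 0, 1⟩⟩<|b (a 2<|a 1<|a 3<|c) 0)<|
 a (b ⟨⟨-1, -1, 0, -1⟩, ⟨0, -1, -1, 0⟩, ⟨1, 1, 1, 0⟩, ⟨0, 1, 1, 1⟩⟩<|b (a 1<|a 3<|a 0<|c) 3)<|
 d)))));
 (let d:type_of% d:=(let d:type_of% d:=(let d:type_of% d:=(let d:type_of% d:=(a (b ⟨⟨1, 1, 0, 1⟩, ⟨0, 1, 1, 0⟩, ⟨-1, -1, -1, 0⟩, ⟨0, -1, -1, -1⟩⟩<|b (a 3<|a 2<|a 1<|c) 3)<|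
 a (b ⟨⟨-1, -2, -1, -1⟩, ⟨0, 1, 1, 1⟩, ⟨1, 0, 0, 0⟩, ⟨0, 0, 0, -1⟩⟩<|b (a 1<|a 3<|c) 5)<|
 a (b ⟨⟨-1, -1, -1, -1⟩, ⟨1, 2, 1, 1⟩, ⟨-1, -1, 0, 0⟩, ⟨0, -1, 0, -1⟩⟩<|b (a 3<|a 2<|a 1<|a 0<|c) 3)<|
 a (b ⟨⟨0, -1, 0, -1⟩, ⟨1, 2, 1, 1⟩, ⟨0, -1, -1, 0⟩, ⟨-1, -1, -1, -1⟩⟩<|b (a 3<|a 2<|a 0<|a 1<|c) 3)<|
 a (b ⟨⟨-1, -1, 0, 0⟩, ⟨1, 2, 1, 1⟩, ⟨-1, -1, -1, -1⟩, ⟨0, -1, -1, 0⟩⟩<|b (a 2<|a 0<|c) 3)<|
 a (b ⟨⟨1, 0, 0, 0⟩, ⟨0, 1, 1, 1⟩, ⟨-1, -2, -1, -1⟩, ⟨0, 0, -1, 0⟩⟩<|b (a 2<|a 1<|a 0<|c) 0)<|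
 d);
 (a (b ⟨⟨1, 2, 1, 1⟩, ⟨0, -1, 0, 0⟩, ⟨-1, 0, 0, 0⟩, ⟨0, 0, 0, -1⟩⟩<|b (a 0<|a 1<|a 3<|c) 5)<|
 a (b ⟨⟨1, 2, 1, 1⟩, ⟨-1, -1, -1, 0⟩, ⟨1, 0, 0, 0⟩, ⟨0, 0, 0, -1⟩⟩<|b (a 2<|a 0<|a 1<|a 3<|c) 5)<|
 a (b ⟨⟨-1, -1, 0, -1⟩, ⟨0, 1, 0, 1⟩, ⟨1, 1, 1, 0⟩, ⟨0, -1, -1, -1⟩⟩<|b (a 3<|a 1<|a 0<|c) 3)<|
 a (b ⟨⟨0, 0, 0, -1⟩, ⟨1, 1, 0, 1⟩, ⟨0, 0, 1, 0⟩, ⟨-1, -2, -1, -1⟩⟩<|b (a 3<|a 1<|a 2<|c) 0)<|
 a (b ⟨⟨0, 0, 0, 1⟩, ⟨0, 1, 0, 0⟩, ⟨0, 0, 1, 0⟩, ⟨-1, -2, -1, -1⟩⟩<|b (a 3<|a 0<|a 1<|a 2<|c) 0)<|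
 a (b ⟨⟨0, 0, 0, 1⟩, ⟨1, 1, 1, 0⟩, ⟨0, 0, -1, 0⟩, ⟨-1, -2, -1, -1⟩⟩<|b (a 3<|a 0<|a 1<|a 2<|c) 5)<|
 d));
 (let d:type_of% d:=(a (b ⟨⟨0, -1, 0, -1⟩, ⟨0, 1, 0, 0⟩, ⟨0, -1, -1, 0⟩, ⟨1, 1, 1, 1⟩⟩<|b (a 3<|a 2<|a 0<|a 1<|c) 1)<|
 a (b ⟨⟨-1, -1, 0, 0⟩, ⟨1, 1, 0, 1⟩, ⟨-1, -1, -1, -1⟩, ⟨0, 1, 1, 0⟩⟩<|b (a 2<|a 0<|c) 2)<|
 a (b ⟨⟨1, 0, 0, 0⟩, ⟨0, 1, 0, 1⟩, ⟨-1, -2, -1, -1⟩, ⟨0, 0, 1, 0⟩⟩<|b (a 1<|a 3<|a 2<|a 1<|c) 1)<|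
 a (b ⟨⟨-1, 0, 0, 0⟩, ⟨0, -1, 0, 0⟩, ⟨1, 2, 1, 1⟩, ⟨0, 0, -1, 0⟩⟩<|b c 5)<|
 a (b ⟨⟨1, 0, 0, 0⟩, ⟨-1, -1, 0, -1⟩, ⟨1, 2, 1, 1⟩, ⟨0, 0, -1, 0⟩⟩<|b (a 3<|a 1<|a 0<|c) 0)<|
 a (b ⟨⟨1, 1, 0, 1⟩, ⟨-1, -1, 0, 0⟩, ⟨1, 1, 1, 0⟩, ⟨0, -1, -1, -1⟩⟩<|b (a 1<|a 3<|a 0<|a 1<|a 0<|c) 3)<|
 d);
 (a (b ⟨⟨0, 0, 0, -1⟩, ⟨0, -1, -1, 0⟩, ⟨0, 0, 1, 0⟩, ⟨1, 2, 1, 1⟩⟩<|b (a 1<|a 3<|a 0<|a 1<|c) 1)<|
 a (b ⟨⟨0, 0, 0, 1⟩, ⟨-1, -1, -1, -1⟩, ⟨0, 0, 1, 0⟩, ⟨1, 2, 1, 1⟩⟩<|b (a 0<|a 1<|a 3<|a 0<|a 1<|c) 1)<|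
 a (b ⟨⟨0, 0, 0, 1⟩, ⟨0, -1, 0, -1⟩, ⟨0, 0, -1, 0⟩, ⟨1, 2, 1, 1⟩⟩<|b (a 1<|a 2<|c) 2)<|
 a (b ⟨⟨1, 1, 0, 1⟩, ⟨0, 0, 0, -1⟩, ⟨-1, -1, -1, 0⟩, ⟨0, 1, 1, 1⟩⟩<|b (a 3<|a 2<|a 1<|c) 1)<|
 a (b ⟨⟨-1, -2, -1, -1⟩, ⟨0, 1, 1, 0⟩, ⟨1, 0, 0, 0⟩, ⟨0, 0, 0, 1⟩⟩<|b (a 1<|a 2<|a 0<|a 1<|a 3<|c) 1)<|
 a (b ⟨⟨-1, -1, -1, -1⟩, ⟨1, 1, 1, 0⟩, ⟨-1, -1, 0, 0⟩, ⟨0, 1, 0, 1⟩⟩<|b (a 0<|a 1<|a 3<|c) 1)<|
 d)));
 (let d:type_of% d:=(let d:type_of% d:=(a (b ⟨⟨-1, 0, 0, 0⟩, ⟨0, -1, -1, 0⟩, ⟨1, 2, 1, 1⟩, ⟨0, 0, 1, 0⟩⟩<|b (a 1<|a 0<|c) 2)<|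
 a (b ⟨⟨1, 0, 0, 0⟩, ⟨-1, -1, -1, -1⟩, ⟨1, 2, 1, 1⟩, ⟨0, 0, 1, 0⟩⟩<|b (a 1<|a 3<|a 2<|a 1<|a 0<|c) 1)<|
 a (b ⟨⟨1, 1, 0, 1⟩, ⟨-1, -2, -1, -1⟩, ⟨1, 1, 1, 0⟩, ⟨0, 1, 1, 1⟩⟩<|b (a 1<|a 2<|c) 1)<|
 a (b ⟨⟨1, 2, 1, 1⟩, ⟨0, -1, 0, -1⟩, ⟨-1, 0, 0, 0⟩, ⟨0, 0, 0, 1⟩⟩<|b (a 1<|a 2<|a 0<|a 1<|a 0<|c) 1)<|
 a (b ⟨⟨1, 2, 1, 1⟩, ⟨-1, -1, -1, -1⟩, ⟨1, 0, 0, 0⟩, ⟨0, 0, 0, 1⟩⟩<|b (a 1<|a 2<|a 0<|a 1<|c) 1)<|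
 a (b ⟨⟨-1, -1, 0, -1⟩, ⟨0, 0, -1, 0⟩, ⟨1, 1, 1, 0⟩, ⟨0, 1, 1, 1⟩⟩<|b (a 2<|a 0<|a 1<|a 3<|c) 1)<|
 d);
 (a (b ⟨⟨0, 1, 0, 1⟩, ⟨1, 1, 1, 0⟩, ⟨0, -1, -1, 0⟩, ⟨-1, -1, -1, -1⟩⟩<|b (a 3<|a 2<|c) 2)<|
 a (b ⟨⟨-1, -1, -1, -1⟩, ⟨0, 1, 1, 1⟩, ⟨1, 1, 0, 0⟩, ⟨0, -1, 0, -1⟩⟩<|b (a 3<|a 0<|c) 2)<|
 a (b ⟨⟨0, -1, -1, -1⟩, ⟨1, 2, 1, 1⟩, ⟨0, -1, 0, 0⟩, ⟨-1, -1, 0, -1⟩⟩<|b (a 3<|a 2<|a 1<|a 0<|c) 1)<|
 a (b ⟨⟨-1, -1, -1, 0⟩, ⟨1, 2, 1, 1⟩, ⟨-1, -1, 0, -1⟩, ⟨0, -1, 0, 0⟩⟩<|b (a 0<|a 1<|a 3<|a 1<|c) 1)<|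
 a (b ⟨⟨0, -1, 0, 0⟩, ⟨1, 2, 1, 1⟩, ⟨0, -1, -1, -1⟩, ⟨-1, -1, -1, 0⟩⟩<|b (a 2<|a 0<|a 1<|c) 1)<|
 a (b ⟨⟨1, 1, 0, 0⟩, ⟨0, 1, 1, 1⟩, ⟨-1, -1, -1, -1⟩, ⟨0, -1, -1, 0⟩⟩<|b (a 2<|a 1<|c) 1)<|
 d));
 (let d:type_of% d:=(a (b ⟨⟨1, 1, 0, 1⟩, ⟨-1, 0, 0, 0⟩, ⟨1, 1, 1, 0⟩, ⟨0, -1, -1, -1⟩⟩<|b (a 3<|a 0<|a 1<|a 0<|c) 1)<|
 a (b ⟨⟨1, 2, 1, 1⟩, ⟨-1, -1, 0, 0⟩, ⟨1, 0, 0, 0⟩, ⟨0, 0, 0, -1⟩⟩<|b (a 1<|a 3<|c) 2)<|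
 a (b ⟨⟨-1, -1, 0, 0⟩, ⟨0, 1, 0, 0⟩, ⟨1, 1, 1, 1⟩, ⟨0, -1, -1, 0⟩⟩<|b (a 2<|a 0<|a 1<|a 3<|a 1<|c) 1)<|
 a (b ⟨⟨0, -1, 0, -1⟩, ⟨1, 1, 0, 1⟩, ⟨0, 1, 1, 0⟩, ⟨-1, -1, -1, -1⟩⟩<|b (a 3<|a 1<|a 0<|c) 1)<|
 a (b ⟨⟨0, 0, 0, 1⟩, ⟨1, 1, 0, 0⟩, ⟨0, 0, 1, 0⟩, ⟨-1, -2, -1, -1⟩⟩<|b (a 1<|a 3<|a 0<|a 1<|a 0<|c) 1)<|
 a (b ⟨⟨1, 1, 1, 1⟩, ⟨0, 1, 0, 0⟩, ⟨-1, -1, 0, 0⟩, ⟨0, -1, 0, -1⟩⟩<|b (a 3<|a 2<|a 0<|a 1<|a 0<|c) 1)<|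
 d);
 (a (b ⟨⟨-1, -1, -1, -1⟩, ⟨0, 0, 1, 0⟩, ⟨1, 1, 0, 0⟩, ⟨0, 1, 0, 1⟩⟩<|b (a 3<|a 0<|c) 3)<|
 a (b ⟨⟨0, -1, -1, -1⟩, ⟨0, 1, 1, 0⟩, ⟨0, -1, 0, 0⟩, ⟨1, 1, 0, 1⟩⟩<|b (a 3<|a 2<|a 0<|c) 4)<|
 a (b ⟨⟨-1, -1, -1, 0⟩, ⟨1, 1, 1, 1⟩, ⟨-1, -1, 0, -1⟩, ⟨0, 1, 0, 0⟩⟩<|b (a 2<|a 1<|a 0<|c) 3)<|
 a (b ⟨⟨0, -1, 0, 0⟩, ⟨0, 1, 0, 1⟩, ⟨0, -1, -1, -1⟩, ⟨1, 1, 1, 0⟩⟩<|b (a 2<|a 0<|a 1<|c) 3)<|
 a (b ⟨⟨1, 1, 0, 0⟩, ⟨0, 0, 0, 1⟩, ⟨-1, -1, -1, -1⟩, ⟨0, 1, 1, 0⟩⟩<|b (a 2<|a 1<|c) 3)<|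
 a (b ⟨⟨1, 0, 0, 0⟩, ⟨-1, -1, 0, 0⟩, ⟨1, 2, 1, 1⟩, ⟨0, 0, -1, 0⟩⟩<|b (a 2<|a 1<|a 3<|a 2<|a 1<|c) 1)<|
 d))));
 (let d:type_of% d:=(let d:type_of% d:=(let d:type_of% d:=(a (b ⟨⟨1, 2, 1, 1⟩, ⟨-1, -1, 0, -1⟩, ⟨1, 0, 0, 0⟩, ⟨0, 0, 0, 1⟩⟩<|b (a 1<|a 3<|c) 0)<|
 a (b ⟨⟨-1, -1, 0, 0⟩, ⟨0, 0, -1, 0⟩, ⟨1, 1, 1, 1⟩, ⟨0, 1, 1, 0⟩⟩<|b (a 1<|a 0<|c) 3)<|
 a (b ⟨⟨0, -1, 0, -1⟩, ⟨0, 0, -1, 0⟩, ⟨0, 1, 1, 0⟩, ⟨1, 1, 1, 1⟩⟩<|b (a 3<|a 0<|c) 4)<|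
 a (b ⟨⟨0, 0, 0, 1⟩, ⟨0, -1, -1, -1⟩, ⟨0, 0, 1, 0⟩, ⟨1, 2, 1, 1⟩⟩<|b (a 1<|a 2<|c) 0)<|
 a (b ⟨⟨1, 1, 1, 1⟩, ⟨0, 0, 0, -1⟩, ⟨-1, -1, 0, 0⟩, ⟨0, 1, 0, 1⟩⟩<|b (a 1<|a 2<|c) 4)<|
 a (b ⟨⟨0, 1, 0, 1⟩, ⟨0, 0, 0, -1⟩, ⟨0, -1, -1, 0⟩, ⟨1, 1, 1, 1⟩⟩<|b (a 3<|a 2<|c) 3)<|
 d);
 (a (b ⟨⟨0, -1, -1, -1⟩, ⟨1, 1, 1, 1⟩, ⟨0, 1, 0, 0⟩, ⟨-1, -1, 0, -1⟩⟩<|b (a 3<|a 0<|a 1<|c) 3)<|
 a (b ⟨⟨0, -1, -1, 0⟩, ⟨1, 2, 1, 1⟩, ⟨0, -1, 0, -1⟩, ⟨-1, -1, 0, 0⟩⟩<|b (a 2<|a 0<|c) 4)<|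
 a (b ⟨⟨1, 1, 1, 0⟩, ⟨0, 1, 0, 1⟩, ⟨-1, -1, 0, -1⟩, ⟨0, -1, 0, 0⟩⟩<|b (a 2<|c) 4)<|
 a (b ⟨⟨0, 1, 0, 0⟩, ⟨1, 1, 1, 1⟩, ⟨0, -1, -1, -1⟩, ⟨-1, -1, -1, 0⟩⟩<|b (a 2<|c) 3)<|
 a (b ⟨⟨1, 0, 0, 0⟩, ⟨-1, -1, -1, 0⟩, ⟨1, 2, 1, 1⟩, ⟨0, 0, 1, 0⟩⟩<|b (a 1<|a 0<|c) 0)<|
 a (b ⟨⟨1, 1, 0, 1⟩, ⟨-1, -1, -1, -1⟩, ⟨1, 1, 1, 0⟩, ⟨0, 1, 1, 1⟩⟩<|b (a 3<|c) 4)<|
 d));
 (let d:type_of% d:=(a (b ⟨⟨1, 1, 0, 0⟩, ⟨-1, 0, 0, 0⟩, ⟨1, 1, 1, 1⟩, ⟨0, -1, -1, 0⟩⟩<|b c 4)<|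
 a (b ⟨⟨1, 1, 1, 1⟩, ⟨-1, 0, 0, 0⟩, ⟨1, 1, 0, 0⟩, ⟨0, -1, 0, -1⟩⟩<|b (a 3<|a 1<|c) 3)<|
 a (b ⟨⟨0, -1, 0, 0⟩, ⟨1, 1, 0, 0⟩, ⟨0, 1, 1, 1⟩, ⟨-1, -1, -1, 0⟩⟩<|b (a 0<|c) 4)<|
 a (b ⟨⟨0, 1, 0, 1⟩, ⟨1, 0, 0, 0⟩, ⟨0, 1, 1, 0⟩, ⟨-1, -1, -1, -1⟩⟩<|b (a 3<|a 0<|a 1<|a 0<|c) 3)<|
 a (b ⟨⟨0, 1, 1, 1⟩, ⟨1, 1, 0, 0⟩, ⟨0, -1, 0, 0⟩, ⟨-1, -1, 0, -1⟩⟩<|b (a 1<|a 3<|a 1<|c) 3)<|
 a (b ⟨⟨-1, -1, -1, 0⟩, ⟨0, 1, 1, 0⟩, ⟨1, 1, 0, 1⟩, ⟨0, -1, 0, 0⟩⟩<|b (a 0<|c) 3)<|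
 d);
 (a (b ⟨⟨0, 1, 1, 1⟩, ⟨0, 0, 0, -1⟩, ⟨0, -1, 0, 0⟩, ⟨1, 1, 0, 1⟩⟩<|b (a 1<|a 3<|c) 1)<|
 a (b ⟨⟨-1, -1, -1, 0⟩, ⟨0, 0, 1, 0⟩, ⟨1, 1, 0, 1⟩, ⟨0, 1, 0, 0⟩⟩<|b (a 0<|c) 2)<|
 a (b ⟨⟨0, -1, -1, -1⟩, ⟨0, 0, 1, 0⟩, ⟨0, 1, 0, 0⟩, ⟨1, 1, 0, 1⟩⟩<|b (a 3<|a 0<|a 1<|c) 1)<|
 a (b ⟨⟨0, -1, -1, 0⟩, ⟨0, 1, 1, 1⟩, ⟨0, -1, 0, -1⟩, ⟨1, 1, 0, 0⟩⟩<|b (a 2<|a 1<|a 0<|c) 1)<|
 a (b ⟨⟨1, 1, 1, 0⟩, ⟨0, 0, 0, 1⟩, ⟨-1, -1, 0, -1⟩, ⟨0, 1, 0, 0⟩⟩<|b (a 2<|a 0<|a 1<|a 0<|c) 1)<|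
 a (b ⟨⟨0, 1, 0, 0⟩, ⟨0, 0, 0, 1⟩, ⟨0, -1, -1, -1⟩, ⟨1, 1, 1, 0⟩⟩<|b (a 2<|c) 2)<|
 d)));
 (let d:type_of% d:=(let d:type_of% d:=(a (b ⟨⟨0, 0, -1, 0⟩, ⟨1, 1, 1, 1⟩, ⟨0, 0, 0, -1⟩, ⟨-1, 0, 0, 0⟩⟩<|b (a 2<|c) 1)<|
 a (b ⟨⟨0, 1, 1, 0⟩, ⟨1, 1, 0, 1⟩, ⟨0, -1, 0, -1⟩, ⟨-1, -1, 0, 0⟩⟩<|b (a 1<|a 3<|a 1<|c) 1)<|
 a (b ⟨⟨1, 1, 0, 0⟩, ⟨-1, -1, -1, 0⟩, ⟨1, 1, 1, 1⟩, ⟨0, 1, 1, 0⟩⟩<|b (a 0<|a 1<|a 0<|c) 1)<|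
 a (b ⟨⟨1, 1, 1, 1⟩, ⟨-1, -1, 0, -1⟩, ⟨1, 1, 0, 0⟩, ⟨0, 1, 0, 1⟩⟩<|b (a 3<|a 1<|c) 1)<|
 a (b ⟨⟨0, -1, 0, 0⟩, ⟨0, 0, -1, 0⟩, ⟨0, 1, 1, 1⟩, ⟨1, 1, 1, 0⟩⟩<|b (a 1<|a 0<|c) 1)<|
 a (b ⟨⟨0, 1, 0, 1⟩, ⟨0, -1, -1, -1⟩, ⟨0, 1, 1, 0⟩, ⟨1, 1, 1, 1⟩⟩<|b (a 2<|a 1<|a 3<|c) 1)<|
 d);
 (a (b ⟨⟨0, 0, -1, 0⟩, ⟨0, 1, 1, 1⟩, ⟨0, 0, 0, -1⟩, ⟨1, 0, 0, 0⟩⟩<|b (a 2<|c) 0)<|
 a (b ⟨⟨0, 1, 1, 0⟩, ⟨0, 0, 0, 1⟩, ⟨0, -1, 0, -1⟩, ⟨1, 1, 0, 0⟩⟩<|b (a 1<|a 3<|c) 3)<|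
 a (b ⟨⟨1, 1, 1, 0⟩, ⟨-1, 0, 0, 0⟩, ⟨1, 1, 0, 1⟩, ⟨0, -1, 0, 0⟩⟩<|b (a 1<|c) 1)<|
 a (b ⟨⟨0, 1, 0, 0⟩, ⟨1, 0, 0, 0⟩, ⟨0, 1, 1, 1⟩, ⟨-1, -1, -1, 0⟩⟩<|b (a 2<|a 1<|a 3<|a 1<|c) 1)<|
 a (b ⟨⟨0, 1, 1, 1⟩, ⟨1, 0, 0, 0⟩, ⟨0, 1, 0, 0⟩, ⟨-1, -1, 0, -1⟩⟩<|b (a 3<|c) 2)<|
 a (b ⟨⟨0, -1, -1, 0⟩, ⟨1, 1, 1, 0⟩, ⟨0, 1, 0, 1⟩, ⟨-1, -1, 0, 0⟩⟩<|b (a 0<|a 1<|c) 1)<|
 d));
 (let d:type_of% d:=(a (b ⟨⟨0, 0, -1, 0⟩, ⟨1, 1, 1, 0⟩, ⟨0, 0, 0, 1⟩, ⟨-1, 0, 0, 0⟩⟩<|b (a 0<|c) 0)<|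
 a (b ⟨⟨0, 0, 1, 0⟩, ⟨1, 1, 0, 1⟩, ⟨0, 0, 0, -1⟩, ⟨-1, 0, 0, 0⟩⟩<|b (a 3<|c) 0)<|
 a (b ⟨⟨1, 1, 1, 0⟩, ⟨-1, -1, 0, 0⟩, ⟨1, 1, 0, 1⟩, ⟨0, 1, 0, 0⟩⟩<|b (a 1<|c) 3)<|
 a (b ⟨⟨0, 1, 0, 0⟩, ⟨0, -1, -1, 0⟩, ⟨0, 1, 1, 1⟩, ⟨1, 1, 1, 0⟩⟩<|b (a 0<|a 1<|a 0<|c) 3)<|
 a (b ⟨⟨0, 1, 1, 1⟩, ⟨0, -1, 0, -1⟩, ⟨0, 1, 0, 0⟩, ⟨1, 1, 0, 1⟩⟩<|b (a 3<|c) 3)<|
 a (b ⟨⟨0, -1, -1, 0⟩, ⟨0, 0, 1, 0⟩, ⟨0, 1, 0, 1⟩, ⟨1, 1, 0, 0⟩⟩<|b (a 0<|a 1<|c) 3)<|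
 d);
 (a (b ⟨⟨0, 0, 1, 0⟩, ⟨0, 1, 0, 0⟩, ⟨0, 0, 0, 1⟩, ⟨1, 0, 0, 0⟩⟩<|b c 0)<|
 a (b ⟨⟨0, 0, 1, 0⟩, ⟨1, 1, 0, 0⟩, ⟨0, 0, 0, 1⟩, ⟨-1, 0, 0, 0⟩⟩<|b c 1)<|
 a (b ⟨⟨0, 1, 1, 0⟩, ⟨0, -1, 0, 0⟩, ⟨0, 1, 0, 1⟩, ⟨1, 1, 0, 0⟩⟩<|b c 2)<|
 a (b ⟨⟨0, 0, -1, 0⟩, ⟨0, 1, 1, 0⟩, ⟨0, 0, 0, 1⟩, ⟨1, 0, 0, 0⟩⟩<|b (a 0<|c) 1)<|
 a (b ⟨⟨0, 0, 1, 0⟩, ⟨0, 1, 0, 1⟩, ⟨0, 0, 0, -1⟩, ⟨1, 0, 0, 0⟩⟩<|b (a 3<|c) 1)<|
 a (b ⟨⟨0, 1, 1, 0⟩, ⟨1, 0, 0, 0⟩, ⟨0, 1, 0, 1⟩, ⟨-1, -1, 0, 0⟩⟩<|b c 3)<|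
 d)))))) :
 List (Cfsg.Agent.H378.OmD4.Mx × List (Fin 4) × Fin 7))) _)

theorem tab_T : T ∈ Tab.map (·.1) := by decide +kernel

private def wj (n : ℕ) : ℕ := Nat.mod (Nat.shiftRight
  0xbbb8b5b3bfafadbeaaa8bda5bca7a09eba9bb99d96b793b6b28fb48e919089b186b0ac82ae8184837cab8878a977a3a2a6a47271746da195699f6899989c9a6362655f975e6b6a949259588b648d8c5351508a4f7a7987854a497e73807f44427d7b403f4c4176753a38464570356f6e6c33325b3467662d2b55546128605a5d5c252327265720562a1e524b4e4d1b191d1c4816473714433c3b3e113d130f390e362f2e310b300d092c082922062405211f18031a021715011210000c0a0704bcb9b6bfb3b0beadabbda8a9bba2a1ba9e9fb898b796b4b59094938c8bb2b189aeaf8387867f7eac8aaa79a6a57574a7787170a4a397a06a9c9b66659d6962619a996e6d5c5b958f5857929154538e8d607d7c4d4c888249488584454481806f503f3e7b7a3b3a77763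d37737243425f32316c6b2e2d6867302a6463525126255e5d56225a592423551f281c1b4f4e47184b4a1a1946153513414039383c1011360e0d34332c2b2f0a0b290827072021051e1d041617021412010f0c00090603bdbabfb4b2beaeacb1a9a7bca4bbb79f9db99ab89795b692b59c8eb3998c8a88b085afa681ada37fab7baa7d77a87a7573a580a26fa16ca06e689e6b66649b8d9860945e96915c5a935d90568f5558528b874f89844d4b864e8347824649437e417c76793d783c713974723b367038346d676a30692f622c65632e29612b5f2732245b59542157511f531e501d3f1a4c4a45174842154414401c123e19103a0f373533260c31230a2d092a28072506222008041b0318160e1311010d0b000502bebfb7b9b8b1bcbbbdabaaa6ada3baa1a09cb399b6b5949691b48f8db28bb0af878984ae8280ac7e7da87aa97876a774a572a470a26e9e6b9f69679d659b639a6198975f5d955b9359925790558e538c528a504e884c864a8548834681447f437c407b3e793c773a75397337716f356d336c316a2f682d662c642a626028275e255c245a225856205421511d4f1b4d1a4b1849471645174241133f3d113b3638100f340d32300b2e292b0a09260c231f1e051c121915140204030e0706080001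
  (Nat.mul 8 n)) 256

private noncomputable def _root_.Cfsg.Agent.LsF.f330e69_0 : {f // @Cfsg.Agent.H378.OmD4.Mx.ap = f} := ⟨_, by first | (delta Cfsg.Agent.H378.OmD4.Mx.ap; rewrite [Cfsg.Agent.LsF.iadd_pat, Cfsg.Agent.LsF.imul_pat]; exact rfl) | exact rfl⟩
private noncomputable def _root_.Cfsg.Agent.LsF.f330e69_1 : {f // @Cfsg.Agent.H378.OmD4.Mx.mul = f} := ⟨_, by first | (delta Cfsg.Agent.H378.OmD4.Mx.mul; rewrite [Cfsg.Agent.LsF.f330e69_0.2]; exact rfl) | exact rfl⟩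
private noncomputable def _root_.Cfsg.Agent.LsF.f330e69_2 : {f // @Cfsg.Agent.H378.OmD4.refl = f} := ⟨_, by first | (delta Cfsg.Agent.H378.OmD4.refl; rewrite [Cfsg.Agent.LsF.ineg_pat]; (try delta Cfsg.Agent.H378.OmD4.refl.match_1); (try delta Fin.casesOn Nat.casesOn Nat.le.casesOn); exact rfl) | exact rfl⟩
private noncomputable def _root_.Cfsg.Agent.LsF.f330e69_3 : {f // @Cfsg.Agent.H378.OmD4.instDecidableEqV.decEq = f} := ⟨_, by first | (delta Cfsg.Agent.H378.OmD4.instDecidableEqV.decEq; rewrite [Cfsg.Agent.LsF.instIDecEq_eq, Cfsg.Agent.LsF.dite_eq]; (try delta Cfsg.Agent.H378.OmD4.instDecidableEqV.decEq.match_1); (try delta Cfsg.Agent.H378.OmD4.V.casesOn); exact rfl) | exact rfl⟩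
private noncomputable def _root_.Cfsg.Agent.LsF.f330e69_4 : {f // @Cfsg.Agent.H378.OmD4.instDecidableEqV = f} := ⟨_, by first | (delta Cfsg.Agent.H378.OmD4.instDecidableEqV; rewrite [Cfsg.Agent.LsF.f330e69_3.2]; exact rfl) | exact rfl⟩
private noncomputable def _root_.Cfsg.Agent.LsF.f330e69_5 : {f // @Cfsg.Agent.H378.OmD4.instDecidableEqMx.decEq = f} := ⟨_, by first | (delta Cfsg.Agent.H378.OmD4.instDecidableEqMx.decEq; rewrite [Cfsg.Agent.LsF.f330e69_4.2, Cfsg.Agent.LsF.dite_eq]; (try delta Cfsg.Agent.H378.OmD4.instDecidableEqMx.decEq.match_1); (try delta Cfsg.Agent.H378.OmD4.Mx.casesOn); exact rfl) | exact rfl⟩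
private noncomputable def _root_.Cfsg.Agent.LsF.f330e69_6 : {f // @Cfsg.Agent.H378.OmD4.instDecidableEqMx = f} := ⟨_, by first | (delta Cfsg.Agent.H378.OmD4.instDecidableEqMx; rewrite [Cfsg.Agent.LsF.f330e69_5.2]; exact rfl) | exact rfl⟩
private theorem tab_cl0 : ∀ i : Fin 4, ∀ k : Fin 192, wj (192 * i + k) < 192 ∧
    (refl i).mul (Tab.getD k (T, [], 0)).1 = (Tab.getD (wj (192 * i + k)) (T, [], 0)).1 := by (refine of_decide_eq_true ?_; (try (rewrite [Cfsg.Agent.LsF.f330e69_1.2, Cfsg.Agent.LsF.f330e69_2.2, Cfsg.Agent.LsF.f330e69_6.2, Cfsg.Agent.LsF.nadd_pat, Cfsg.Agent.LsF.nmul_pat, Cfsg.Agent.LsF.decLt_eq, Cfsg.Agent.LsF.getD_eq, Cfsg.Agent.LsF.dAnd_eq, Cfsg.Agent.LsF.dForallFin_eq, Cfsg.Agent.LsF.decide_eq])); decide +kernel)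

theorem tab_cl : ∀ i : Fin 4, ∀ e ∈ Tab, (refl i).mul e.1 ∈ Tab.map (·.1) := by
  intro i e he
  have hl : Tab.length = 192 := by decide +kernel
  obtain ⟨k, hk, rfl⟩ := List.getElem_of_mem he
  obtain ⟨h1, h2⟩ := tab_cl0 i ⟨k, hl ▸ hk⟩
  generalize wj _ = j at h1 h2
  rw [← hl] at h1
  generalize Tab = L at *
  rw [List.getD_eq_getElem _ _ hk, List.getD_eq_getElem _ _ h1] at h2
  rw [h2]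
  exact List.mem_map_of_mem (List.getElem_mem h1)

private noncomputable def _root_.Cfsg.Agent.KO03179cd.k0 : ((x0 : Prop) → ((@Decidable @x0) → @Bool)) := @(fun (x0 : Prop) (x1 : @Decidable @x0) => @Decidable.rec.{1} @x0 @(fun (x2 : @Decidable @x0) => @Bool) @(fun (x2 : @Not @x0) => @Bool.false) @(fun (x2 : x0) => @Bool.true) @x1)
private theorem _root_.Cfsg.Agent.KO03179cd.e0 : @Decidable.decide = @_root_.Cfsg.Agent.KO03179cd.k0 := by delta _root_.Cfsg.Agent.KO03179cd.k0; rfl'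
private theorem _root_.Cfsg.Agent.KO03179cd.e3.{ku, kv} {α : Type kv} {M : List α → Sort ku} (φ : ∀ l, M l) {z : M List.nil} {s : ∀ a l, M l → M (List.cons a l)} (h0 : φ List.nil = z) (hs : ∀ a l, φ (List.cons a l) = s a l (φ l)) (l : List α) : φ l = @List.rec α M z s l := List.rec h0 (fun a l ih => (hs a l).trans (congrArg (s a l) ih)) l
private noncomputable def _root_.Cfsg.Agent.KO03179cd.k4.{ku0} : ((x0 : Sort (ku0+1)) → ((x1 : (x0 → Prop)) → ((@DecidablePred.{(ku0+1)} @x0 @x1) → ((x3 : @List.{ku0} @x0) → @Decidable ((x4 : x0) → ((@Membership.mem.{ku0, ku0} @x0 (@List.{ku0} @x0) (@List.instMembership.{ku0} @x0) @x3 @x4) → @x1 @x4)))))) := @(fun (x0 : Sort (ku0+1)) (x1 : (x0 → Prop)) (x2 : @DecidablePred.{(ku0+1)} @x0 @x1) (x3 : @List.{ku0} @x0) => @List.rec.{1, ku0} @x0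 @(fun (x4 : @List.{ku0} @x0) => @Decidable ((x5 : x0) → ((@Membership.mem.{ku0, ku0} @x0 (@List.{ku0} @x0) (@List.instMembership.{ku0} @x0) @x4 @x5) → @x1 @x5))) (@Decidable.isTrue ((x4 : x0) → ((@Membership.mem.{ku0, ku0} @x0 (@List.{ku0} @x0) (@List.instMembership.{ku0} @x0) (@List.nil.{ku0} @x0) @x4) → @x1 @x4)) (@List.decidableBAll._proof_1.{ku0} @x0 @x1)) @(fun (x4 : x0) (x5 : @List.{ku0} @x0) (x6 : @Decidable ((x6 : x0) → ((@Membership.mem.{ku0, ku0} @x0 (@List.{ku0} @x0) (@List.instMembership.{ku0} @x0) @x5 @x6) → @x1 @x6))) => @Decidable.rec.{1} (@x1 @x4) @(fun (x7 : @Decidable (@x1 @x4)) => @Decidable ((x8 : x0) → ((@Membership.mem.{ku0, ku0} @x0 (@List.{ku0} @x0) (@List.instMembership.{ku0} @x0) (@List.cons.{ku0} @x0 @x4 @x5) @x8) → @x1 @x8))) @(fun (x7 : @Not (@x1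 @x4)) => @Decidable.isFalse ((x8 : x0) → ((@Membership.mem.{ku0, ku0} @x0 (@List.{ku0} @x0) (@List.instMembership.{ku0} @x0) (@List.cons.{ku0} @x0 @x4 @x5) @x8) → @x1 @x8)) (@List.decidableBAll._proof_4.{ku0} @x0 @x1 @x4 @x5 @x7)) @(fun (x7 : @x1 @x4) => @Decidable.rec.{1} ((x8 : x0) → ((@Membership.mem.{ku0, ku0} @x0 (@List.{ku0} @x0) (@List.instMembership.{ku0} @x0) @x5 @x8) → @x1 @x8)) @(fun (x8 : @Decidable ((x8 : x0) → ((@Membership.mem.{ku0, ku0} @x0 (@List.{ku0} @x0) (@List.instMembership.{ku0} @x0) @x5 @x8) → @x1 @x8))) => @Decidable ((x9 : x0) → ((@Membership.mem.{ku0, ku0} @x0 (@List.{ku0} @x0) (@List.instMembership.{ku0} @x0) (@List.cons.{ku0} @x0 @x4 @x5) @x9) → @x1 @x9))) @(fun (x8 : @Not ((x8 : x0) → ((@Membership.mem.{ku0, ku0} @x0 (@List.{ku0} @x0) (@List.instMembership.{ku0}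 @x0) @x5 @x8) → @x1 @x8))) => @Decidable.isFalse ((x9 : x0) → ((@Membership.mem.{ku0, ku0} @x0 (@List.{ku0} @x0) (@List.instMembership.{ku0} @x0) (@List.cons.{ku0} @x0 @x4 @x5) @x9) → @x1 @x9)) (@List.decidableBAll._proof_3.{ku0} @x0 @x1 @x4 @x5 @x8)) @(fun (x8 : ((x8 : x0) → ((@Membership.mem.{ku0, ku0} @x0 (@List.{ku0} @x0) (@List.instMembership.{ku0} @x0) @x5 @x8) → @x1 @x8))) => @Decidable.isTrue ((x9 : x0) → ((@Membership.mem.{ku0, ku0} @x0 (@List.{ku0} @x0) (@List.instMembership.{ku0} @x0) (@List.cons.{ku0} @x0 @x4 @x5) @x9) → @x1 @x9)) (@List.decidableBAll._proof_2.{ku0} @x0 @x1 @x4 @x5 @x7 @x8)) @x6) (@x2 @x4)) @x3)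
private theorem _root_.Cfsg.Agent.KO03179cd.e4.{ku0} : @List.decidableBAll.{ku0} = @_root_.Cfsg.Agent.KO03179cd.k4.{ku0} := by delta _root_.Cfsg.Agent.KO03179cd.k4; funext a0 a1 a2 a3; refine (_root_.Cfsg.Agent.KO03179cd.e3 (fun a3 => @List.decidableBAll.{ku0} a0 a1 a2 a3) ?_ (fun c0 c1 => ?_) a3 :) <;> (rfl')
private noncomputable def _root_.Cfsg.Agent.KO03179cd.k10 : ((@Int) → ((@Int) → @Int)) := @(fun (x0 : @Int) (x1 : @Int) => @Int.rec.{1} @(fun (x2 : @Int) => @Int) @(fun (x2 : @Nat) => @Int.rec.{1} @(fun (x3 : @Int) => @Int) @(fun (x3 : @Nat) => @Int.ofNat (@Nat.add @x2 @x3)) @(fun (x3 : @Nat) => @Nat.rec.{1} @(fun (x4 : @Nat) => @Int) (@Int.ofNat (@Nat.sub @x2 (@Nat.succ @x3))) @(fun (x4 : @Nat) (x5 : @Int) => @Int.negSucc @x4) (@Nat.sub (@Nat.succ @x3) @x2)) @x1) @(fun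 (x2 : @Nat) => @Int.rec.{1} @(fun (x3 : @Int) => @Int) @(fun (x3 : @Nat) => @Nat.rec.{1} @(fun (x4 : @Nat) => @Int) (@Int.ofNat (@Nat.sub @x3 (@Nat.succ @x2))) @(fun (x4 : @Nat) (x5 : @Int) => @Int.negSucc @x4) (@Nat.sub (@Nat.succ @x2) @x3)) @(fun (x3 : @Nat) => @Int.negSucc (@Nat.succ (@Nat.add @x2 @x3))) @x1) @x0)
private theorem _root_.Cfsg.Agent.KO03179cd.e10 : @Int.add = @_root_.Cfsg.Agent.KO03179cd.k10 := by delta _root_.Cfsg.Agent.KO03179cd.k10; rfl'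
private noncomputable def _root_.Cfsg.Agent.KO03179cd.k11 : ((@Int) → ((@Int) → @Int)) := @(fun (x0 : @Int) (x1 : @Int) => @Int.rec.{1} @(fun (x2 : @Int) => @Int) @(fun (x2 : @Nat) => @Int.rec.{1} @(fun (x3 : @Int) => @Int) @(fun (x3 : @Nat) => @Int.ofNat (@Nat.mul @x2 @x3)) @(fun (x3 : @Nat) => @Nat.rec.{1} @(fun (x4 : @Nat) => @Int) (@Int.ofNat (nat_lit 0)) @(fun (x4 : @Nat) (x5 : @Int) => @Int.negSucc @x4) (@Nat.mul @x2 (@Nat.succ @x3))) @x1) @(fun (x2 : @Nat) => @Int.rec.{1} @(fun (x3 : @Int) => @Int) @(fun (x3 : @Nat) => @Nat.rec.{1} @(fun (x4 : @Nat) => @Int) (@Int.ofNat (nat_lit 0)) @(fun (x4 : @Nat) (x5 : @Int) => @Int.negSucc @x4) (@Nat.mul (@Nat.succ @x2) @x3)) @(fun (x3 : @Nat) => @Int.ofNat (@Nat.mul (@Nat.succ @x2) (@Nat.succ @x3))) @x1) @x0)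
private theorem _root_.Cfsg.Agent.KO03179cd.e11 : @Int.mul = @_root_.Cfsg.Agent.KO03179cd.k11 := by delta _root_.Cfsg.Agent.KO03179cd.k11; rfl'
private noncomputable def _root_.Cfsg.Agent.KO03179cd.k12 : (by first | exact type_of% @Cfsg.Agent.H378.OmD4.Mx.ap | exact Unit : Sort _) := by first | (refine @Subtype.val _ (fun g => @Cfsg.Agent.H378.OmD4.Mx.ap = @g) (@Subtype.mk _ _ (@(fun (x0 : @Cfsg.Agent.H378.OmD4.Mx) (x1 : @Cfsg.Agent.H378.OmD4.V) => @Cfsg.Agent.H378.OmD4.V.mk (@Cfsg.Agent.KO03179cd.k10 (@Cfsg.Agent.KO03179cd.k10 (@Cfsg.Agent.KO03179cd.k10 (@Cfsg.Agent.KO03179cd.k11 (@Cfsg.Agent.H378.OmD4.V.a @x1) (@Cfsg.Agent.H378.OmD4.V.a (@Cfsg.Agent.H378.OmD4.Mx.x @x0))) (@Cfsg.Agent.KO03179cd.k11 (@Cfsg.Agent.H378.OmD4.V.b @x1) (@Cfsg.Agent.H378.OmD4.V.a (@Cfsg.Agent.H378.OmD4.Mx.y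 @x0)))) (@Cfsg.Agent.KO03179cd.k11 (@Cfsg.Agent.H378.OmD4.V.c @x1) (@Cfsg.Agent.H378.OmD4.V.a (@Cfsg.Agent.H378.OmD4.Mx.z @x0)))) (@Cfsg.Agent.KO03179cd.k11 (@Cfsg.Agent.H378.OmD4.V.d @x1) (@Cfsg.Agent.H378.OmD4.V.a (@Cfsg.Agent.H378.OmD4.Mx.w @x0)))) (@Cfsg.Agent.KO03179cd.k10 (@Cfsg.Agent.KO03179cd.k10 (@Cfsg.Agent.KO03179cd.k10 (@Cfsg.Agent.KO03179cd.k11 (@Cfsg.Agent.H378.OmD4.V.a @x1) (@Cfsg.Agent.H378.OmD4.V.b (@Cfsg.Agent.H378.OmD4.Mx.x @x0))) (@Cfsg.Agent.KO03179cd.k11 (@Cfsg.Agent.H378.OmD4.V.b @x1) (@Cfsg.Agent.H378.OmD4.V.b (@Cfsg.Agent.H378.OmD4.Mx.y @x0)))) (@Cfsg.Agent.KO03179cd.k11 (@Cfsg.Agent.H378.OmD4.V.c @x1) (@Cfsg.Agent.H378.OmD4.V.b (@Cfsg.Agent.H378.OmD4.Mx.z @x0)))) (@Cfsg.Agent.KO03179cd.k11 (@Cfsg.Agent.H378.OmD4.V.d @x1) (@Cfsg.Agent.H378.OmD4.V.b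 (@Cfsg.Agent.H378.OmD4.Mx.w @x0)))) (@Cfsg.Agent.KO03179cd.k10 (@Cfsg.Agent.KO03179cd.k10 (@Cfsg.Agent.KO03179cd.k10 (@Cfsg.Agent.KO03179cd.k11 (@Cfsg.Agent.H378.OmD4.V.a @x1) (@Cfsg.Agent.H378.OmD4.V.c (@Cfsg.Agent.H378.OmD4.Mx.x @x0))) (@Cfsg.Agent.KO03179cd.k11 (@Cfsg.Agent.H378.OmD4.V.b @x1) (@Cfsg.Agent.H378.OmD4.V.c (@Cfsg.Agent.H378.OmD4.Mx.y @x0)))) (@Cfsg.Agent.KO03179cd.k11 (@Cfsg.Agent.H378.OmD4.V.c @x1) (@Cfsg.Agent.H378.OmD4.V.c (@Cfsg.Agent.H378.OmD4.Mx.z @x0)))) (@Cfsg.Agent.KO03179cd.k11 (@Cfsg.Agent.H378.OmD4.V.d @x1) (@Cfsg.Agent.H378.OmD4.V.c (@Cfsg.Agent.H378.OmD4.Mx.w @x0)))) (@Cfsg.Agent.KO03179cd.k10 (@Cfsg.Agent.KO03179cd.k10 (@Cfsg.Agent.KO03179cd.k10 (@Cfsg.Agent.KO03179cd.k11 (@Cfsg.Agent.H378.OmD4.V.a @x1) (@Cfsg.Agent.H378.OmD4.V.d (@Cfsg.Agent.H378.OmD4.Mx.x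 @x0))) (@Cfsg.Agent.KO03179cd.k11 (@Cfsg.Agent.H378.OmD4.V.b @x1) (@Cfsg.Agent.H378.OmD4.V.d (@Cfsg.Agent.H378.OmD4.Mx.y @x0)))) (@Cfsg.Agent.KO03179cd.k11 (@Cfsg.Agent.H378.OmD4.V.c @x1) (@Cfsg.Agent.H378.OmD4.V.d (@Cfsg.Agent.H378.OmD4.Mx.z @x0)))) (@Cfsg.Agent.KO03179cd.k11 (@Cfsg.Agent.H378.OmD4.V.d @x1) (@Cfsg.Agent.H378.OmD4.V.d (@Cfsg.Agent.H378.OmD4.Mx.w @x0)))))) ?_); rewrite [← Cfsg.Agent.KO03179cd.e11, ← Cfsg.Agent.KO03179cd.e10]; rfl') | exact @Cfsg.Agent.H378.OmD4.Mx.ap | exact ()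
private theorem _root_.Cfsg.Agent.KO03179cd.e12 : (by first | exact @Cfsg.Agent.H378.OmD4.Mx.ap = @_root_.Cfsg.Agent.KO03179cd.k12 | exact True : Prop) := by first | (delta _root_.Cfsg.Agent.KO03179cd.k12; exact @Subtype.property _ (fun g => @Cfsg.Agent.H378.OmD4.Mx.ap = @g) _) | rfl | trivial
private noncomputable def _root_.Cfsg.Agent.KO03179cd.k13 : (by first | exact type_of% @Cfsg.Agent.H378.OmD4.Mx.mul | exact Unit : Sort _) := by first | (refine @Subtype.val _ (fun g => @Cfsg.Agent.H378.OmD4.Mx.mul = @g) (@Subtype.mk _ _ (@(fun (x0 : @Cfsg.Agent.H378.OmD4.Mx) (x1 : @Cfsg.Agent.H378.OmD4.Mx) => @Cfsg.Agent.H378.OmD4.Mx.mk (@Cfsg.Agent.KO03179cd.k12 @x0 (@Cfsg.Agent.H378.OmD4.Mx.x @x1)) (@Cfsg.Agent.KO03179cd.k12 @x0 (@Cfsg.Agent.H378.OmD4.Mx.y @x1)) (@Cfsg.Agent.KO03179cd.k12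 @x0 (@Cfsg.Agent.H378.OmD4.Mx.z @x1)) (@Cfsg.Agent.KO03179cd.k12 @x0 (@Cfsg.Agent.H378.OmD4.Mx.w @x1)))) ?_); rewrite [← Cfsg.Agent.KO03179cd.e12]; (try delta Cfsg.Agent.H378.OmD4.Mx.mul); (try generalize @Cfsg.Agent.H378.OmD4.Mx.ap = g0); rfl') | exact @Cfsg.Agent.H378.OmD4.Mx.mul | exact ()
private theorem _root_.Cfsg.Agent.KO03179cd.e13 : (by first | exact @Cfsg.Agent.H378.OmD4.Mx.mul = @_root_.Cfsg.Agent.KO03179cd.k13 | exact True : Prop) := by first | (delta _root_.Cfsg.Agent.KO03179cd.k13; exact @Subtype.property _ (fun g => @Cfsg.Agent.H378.OmD4.Mx.mul = @g) _) | rfl | trivial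
private noncomputable def _root_.Cfsg.Agent.KO03179cd.k15 : (by first | exact type_of% @Cfsg.Agent.H378.OmD4.conjw | exact Unit : Sort _) := by first | (refine @Subtype.val _ (fun g => @Cfsg.Agent.H378.OmD4.conjw = @g) (@Subtype.mk _ _ (@(fun (x0 : @List.{0} (@Fin (@OfNat.ofNat.{0} @Nat (nat_lit 4) (@instOfNatNat (nat_lit 4))))) (x1 : @Cfsg.Agent.H378.OmD4.Mx) => @List.rec.{1, 0} (@Fin (@OfNat.ofNat.{0} @Nat (nat_lit 4) (@instOfNatNat (nat_lit 4)))) @(fun (x2 : @List.{0} (@Fin (@OfNat.ofNat.{0} @Nat (nat_lit 4) (@instOfNatNat (nat_lit 4))))) => (@Cfsg.Agent.H378.OmD4.Mx → @Cfsg.Agent.H378.OmD4.Mx)) @(fun (x2 : @Cfsg.Agent.H378.OmD4.Mx) => x2) @(fun (x2 : @Fin (@OfNat.ofNat.{0} @Nat (nat_lit 4) (@instOfNatNat (nat_lit 4)))) (x3 : @List.{0} (@Fin (@OfNat.ofNat.{0} @Nat (nat_lit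 4) (@instOfNatNat (nat_lit 4))))) (x4 : (@Cfsg.Agent.H378.OmD4.Mx → @Cfsg.Agent.H378.OmD4.Mx)) (x5 : @Cfsg.Agent.H378.OmD4.Mx) => @x4 (@Cfsg.Agent.KO03179cd.k13 (@Cfsg.Agent.H378.OmD4.refl @x2) (@Cfsg.Agent.KO03179cd.k13 @x5 (@Cfsg.Agent.H378.OmD4.refl @x2)))) @x0 @x1)) ?_); rewrite [← Cfsg.Agent.KO03179cd.e13]; funext a0 a1; refine (congrFun (_root_.Cfsg.Agent.KO03179cd.e3 (fun a0 a1 => @Cfsg.Agent.H378.OmD4.conjw a0 a1) ?_ (fun c0 c1 => ?_) a0) a1 :) <;> ((try delta Cfsg.Agent.H378.OmD4.conjw Cfsg.Agent.H378.OmD4.conjw._f); (try generalize @Cfsg.Agent.H378.OmD4.Mx.mul = g0); (try generalize @Cfsg.Agent.H378.OmD4.refl = g1); rfl')) | exact @Cfsg.Agent.H378.OmD4.conjw | exact ()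
private theorem _root_.Cfsg.Agent.KO03179cd.e15 : (by first | exact @Cfsg.Agent.H378.OmD4.conjw = @_root_.Cfsg.Agent.KO03179cd.k15 | exact True : Prop) := by first | (delta _root_.Cfsg.Agent.KO03179cd.k15; exact @Subtype.property _ (fun g => @Cfsg.Agent.H378.OmD4.conjw = @g) _) | rfl | trivial

theorem tab_conj : ∀ e ∈ Tab, conjw e.2.1 e.1 = reps e.2.2 := by (first | (refine of_decide_eq_true ?_; rewrite [Cfsg.Agent.KO03179cd.e0, Cfsg.Agent.KO03179cd.e4.{0}, Cfsg.Agent.KO03179cd.e15]; decide +kernel) | decide +kernel)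

end Cfsg.Agent.H378.OmD4
end

-- part: H378/OmD4Lat
section
/-!
# The root lattice of type `D₄` under the twisted Weyl group elements: lattice statements (helper378)

Statements about the seven representatives `reps i` and the positive roots `pos`.
-/

set_option autoImplicit false

namespace Cfsg.Agent.H378.OmD4

/-- the positive roots -/
def pos : List V := [⟨1, 0, 0, 0⟩, ⟨0, 1, 0, 0⟩, ⟨0, 0, 1, 0⟩, ⟨0, 0, 0, 1⟩, ⟨1, 1, 0, 0⟩, ⟨0, 1, 1, 0⟩, ⟨0, 1, 0, 1⟩,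
  ⟨1, 1, 1, 0⟩, ⟨1, 1, 0, 1⟩, ⟨0, 1, 1, 1⟩, ⟨1, 1, 1, 1⟩, ⟨1, 2, 1, 1⟩]

/-- the basis -/
def bas : Fin 4 → V
  | 0 => ⟨1, 0, 0, 0⟩
  | 1 => ⟨0, 1, 0, 0⟩
  | 2 => ⟨0, 0, 1, 0⟩
  | 3 => ⟨0, 0, 0, 1⟩

def det3 (a b c d e f g h i : ℤ) : ℤ := a * (e * i - f * h) - b * (d * i - f * g) + c * (d * h - e * g)

def det4 (u v w x : V) : ℤ :=
  u.a * det3 v.b v.c v.d w.b w.c w.d x.b x.c x.d - u.b * det3 v.a v.c v.d w.a w.c w.d x.a x.c x.d +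
    u.c * det3 v.a v.b v.d w.a w.b w.d x.a x.b x.d - u.d * det3 v.a v.b v.c w.a w.b w.c x.a x.b x.c

/-- `±1` -/
def IsU (n : ℤ) : Prop := n = 1 ∨ n = -1

instance (n : ℤ) : Decidable (IsU n) := inferInstanceAs (Decidable (_ ∨ _))

/-! ### subgroups of the lattice -/

/-- subgroups of the lattice stable under `R` -/
structure KK (R : Mx) (P : V → Prop) : Prop where
  add : ∀ u v, P u → P v → P (u.add v)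
  sm : ∀ (n : ℤ) u, P u → P (u.sm n)
  ap : ∀ u, P u → P (R.ap u)

variable {R : Mx} {P : V → Prop} (K : KK R P)

include K

theorem KK.of_bas (h : ∀ i, P (bas i)) (v : V) : P v := by
  have e : v = (((bas 0).sm v.a).add ((bas 1).sm v.b)).add (((bas 2).sm v.c).add ((bas 3).sm v.d)) := by
    ext <;> simp [bas, V.sm, V.add]
  rw [e]
  exact K.add _ _ (K.add _ _ (K.sm _ _ (h 0)) (K.sm _ _ (h 1))) (K.add _ _ (K.sm _ _ (h 2)) (K.sm _ _ (h 3)))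

theorem KK.of_det {u v w x : V} (hu : P u) (hv : P v) (hw : P w) (hx : P x) (hd : IsU (det4 u v w x)) (y : V) :
    P y := by
  have key : ∀ i, P ((bas i).sm (det4 u v w x)) := by
    intro i
    fin_cases i
    · have e : (bas 0).sm (det4 u v w x) =
          ((u.sm (det3 v.b v.c v.d w.b w.c w.d x.b x.c x.d)).add
            (v.sm (-det3 u.b u.c u.d w.b w.c w.d x.b x.c x.d))).add
          ((w.sm (det3 u.b u.c u.d v.b v.c v.d x.b x.c x.d)).add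
            (x.sm (-det3 u.b u.c u.d v.b v.c v.d w.b w.c w.d))) := by
        ext <;> simp only [bas, V.sm, V.add, det4, det3] <;> ring
      show P ((bas 0).sm (det4 u v w x))
      rw [e]
      exact K.add _ _ (K.add _ _ (K.sm _ _ hu) (K.sm _ _ hv)) (K.add _ _ (K.sm _ _ hw) (K.sm _ _ hx))
    · have e : (bas 1).sm (det4 u v w x) =
          ((u.sm (-det3 v.a v.c v.d w.a w.c w.d x.a x.c x.d)).add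
            (v.sm (det3 u.a u.c u.d w.a w.c w.d x.a x.c x.d))).add
          ((w.sm (-det3 u.a u.c u.d v.a v.c v.d x.a x.c x.d)).add
            (x.sm (det3 u.a u.c u.d v.a v.c v.d w.a w.c w.d))) := by
        ext <;> simp only [bas, V.sm, V.add, det4, det3] <;> ring
      show P ((bas 1).sm (det4 u v w x))
      rw [e]
      exact K.add _ _ (K.add _ _ (K.sm _ _ hu) (K.sm _ _ hv)) (K.add _ _ (K.sm _ _ hw) (K.sm _ _ hx))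
    · have e : (bas 2).sm (det4 u v w x) =
          ((u.sm (det3 v.a v.b v.d w.a w.b w.d x.a x.b x.d)).add
            (v.sm (-det3 u.a u.b u.d w.a w.b w.d x.a x.b x.d))).add
          ((w.sm (det3 u.a u.b u.d v.a v.b v.d x.a x.b x.d)).add
            (x.sm (-det3 u.a u.b u.d v.a v.b v.d w.a w.b w.d))) := by
        ext <;> simp only [bas, V.sm, V.add, det4, det3] <;> ring
      show P ((bas 2).sm (det4 u v w x))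
      rw [e]
      exact K.add _ _ (K.add _ _ (K.sm _ _ hu) (K.sm _ _ hv)) (K.add _ _ (K.sm _ _ hw) (K.sm _ _ hx))
    · have e : (bas 3).sm (det4 u v w x) =
          ((u.sm (-det3 v.a v.b v.c w.a w.b w.c x.a x.b x.c)).add
            (v.sm (det3 u.a u.b u.c w.a w.b w.c x.a x.b x.c))).add
          ((w.sm (-det3 u.a u.b u.c v.a v.b v.c x.a x.b x.c)).add
            (x.sm (det3 u.a u.b u.c v.a v.b v.c w.a w.b w.c))) := by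
        ext <;> simp only [bas, V.sm, V.add, det4, det3] <;> ring
      show P ((bas 3).sm (det4 u v w x))
      rw [e]
      exact K.add _ _ (K.add _ _ (K.sm _ _ hu) (K.sm _ _ hv)) (K.add _ _ (K.sm _ _ hw) (K.sm _ _ hx))
  refine K.of_bas (fun i => ?_) y
  rcases hd with h | h
  · have h1 := key i
    rw [h] at h1
    have e : (bas i).sm 1 = bas i := by ext <;> simp [V.sm]
    rwa [e] at h1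
  · have h1 := K.sm (-1) _ (key i)
    rw [h] at h1
    have e : ((bas i).sm (-1)).sm (-1) = bas i := by ext <;> simp [V.sm]
    rwa [e] at h1

omit K

/-! ### (C0) -/

private noncomputable def _root_.Cfsg.Agent.KO03179cd.k1l (n : Nat) (P : ∀ k, k < n → Prop) (H : ∀ k h, Decidable (P k h)) (m : Nat) : m ≤ n → Bool := @Nat.rec (fun m => m ≤ n → Bool) (fun _ => true) (fun k ih h => @Decidable.rec (P k h) (fun _ => Bool) (fun _ => false) (fun _ => ih (Nat.le_of_succ_le h)) (H k h)) m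
private theorem _root_.Cfsg.Agent.KO03179cd.k1ls (n : Nat) (P : ∀ k, k < n → Prop) (H : ∀ k h, Decidable (P k h)) (m : Nat) : ∀ h : m ≤ n, _root_.Cfsg.Agent.KO03179cd.k1l n P H m h = true ↔ ∀ k (g : k < m), P k (Nat.lt_of_lt_of_le g h) := by induction m with | zero => exact fun _ => ⟨fun _ _ g => absurd g (Nat.not_lt_zero _), fun _ => rfl⟩ | succ m ih => intro h; show @Decidable.rec (P m h) (fun _ => Bool) (fun _ => false) (fun _ => _root_.Cfsg.Agent.KO03179cd.k1l n P H m (Nat.le_of_succ_le h)) (H m h) = true ↔ _; cases H m h with | isFalse q => exact ⟨fun g => absurd g Bool.false_ne_true, fun g => absurd (g m (Nat.lt_succ_self m)) q⟩ | isTrue q => exact ⟨fun g k hk => (Nat.lt_succ_iff_lt_or_eq.1 hk).elim ((ih _).1 g k) fun e => by subst e; exact q, fun g => (ih _).2 fun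 k hk => g k (Nat.lt_succ_of_lt hk)⟩
private noncomputable def _root_.Cfsg.Agent.KO03179cd.k1 (n : Nat) (P : ∀ k, k < n → Prop) (H : ∀ k h, Decidable (P k h)) : Decidable (∀ k h, P k h) := @Bool.rec (fun b => _root_.Cfsg.Agent.KO03179cd.k1l n P H n (Nat.le_refl n) = b → Decidable (∀ k h, P k h)) (fun g => isFalse fun q => Bool.false_ne_true (g.symm.trans ((_root_.Cfsg.Agent.KO03179cd.k1ls n P H n _).2 fun k h => q k h))) (fun g => isTrue fun k h => (_root_.Cfsg.Agent.KO03179cd.k1ls n P H n _).1 g k h) (_root_.Cfsg.Agent.KO03179cd.k1l n P H n (Nat.le_refl n)) rfl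
private theorem _root_.Cfsg.Agent.KO03179cd.e1 : @Nat.decidableBallLT = @_root_.Cfsg.Agent.KO03179cd.k1 := funext fun _ => funext fun _ => funext fun _ => Subsingleton.elim _ _
private noncomputable def _root_.Cfsg.Agent.KO03179cd.k2 : ((x0 : @Nat) → ((x1 : ((@Fin @x0) → Prop)) → ((@DecidablePred.{1} (@Fin @x0) @x1) → @Decidable ((x3 : @Fin @x0) → @x1 @x3)))) := @(fun (x0 : @Nat) (x1 : ((@Fin @x0) → Prop)) (x2 : @DecidablePred.{1} (@Fin @x0) @x1) => @Decidable.rec.{1} ((x3 : @Nat) → ((x4 : @LT.lt.{0} @Nat @instLTNat @x3 @x0) → @x1 (@Fin.mk @x0 @x3 @x4))) @(fun (x3 : @Decidable ((x3 : @Nat) → ((x4 : @LT.lt.{0} @Nat @instLTNat @x3 @x0) → @x1 (@Fin.mk @x0 @x3 @x4)))) => @Decidable ((x4 : @Fin @x0) → @x1 @x4)) @(fun (x3 : @Not ((x3 : @Nat) → ((x4 : @LT.lt.{0} @Nat @instLTNat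 @x3 @x0) → @x1 (@Fin.mk @x0 @x3 @x4)))) => @Decidable.isFalse ((x4 : @Fin @x0) → @x1 @x4) (@decidable_of_decidable_of_iff._proof_1 ((x4 : @Nat) → ((x5 : @LT.lt.{0} @Nat @instLTNat @x4 @x0) → @x1 (@Fin.mk @x0 @x4 @x5))) ((x4 : @Fin @x0) → @x1 @x4) (@Nat.decidableForallFin._proof_1 @x0 @x1) @x3)) @(fun (x3 : ((x3 : @Nat) → ((x4 : @LT.lt.{0} @Nat @instLTNat @x3 @x0) → @x1 (@Fin.mk @x0 @x3 @x4)))) => @Decidable.isTrue ((x4 : @Fin @x0) → @x1 @x4) (@Iff.mp ((x4 : @Nat) → ((x5 : @LT.lt.{0} @Nat @instLTNat @x4 @x0) → @x1 (@Fin.mk @x0 @x4 @x5))) ((x4 : @Fin @x0) → @x1 @x4) (@Nat.decidableForallFin._proof_1 @x0 @x1) @x3)) (@Cfsg.Agent.KO03179cd.k1 @x0 @(fun (x3 : @Nat) (x4 : @LT.lt.{0} @Nat @instLTNat @x3 @x0) => @x1 (@Fin.mk @x0 @x3 @x4)) @(fun (x3 : @Nat) (x4 : @LT.lt.{0} @Nat @instLTNat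 @x3 @x0) => @x2 (@Fin.mk @x0 @x3 @x4))))
private theorem _root_.Cfsg.Agent.KO03179cd.e2 : @Nat.decidableForallFin = @_root_.Cfsg.Agent.KO03179cd.k2 := by delta _root_.Cfsg.Agent.KO03179cd.k2; rewrite [← Cfsg.Agent.KO03179cd.e1]; rfl'
private noncomputable def _root_.Cfsg.Agent.KO03179cd.k16 : ((x0 : Prop) → ((x1 : Prop) → ((@Decidable @x0) → ((@Decidable @x1) → @Decidable (@Or @x0 @x1))))) := @(fun (x0 : Prop) (x1 : Prop) (x2 : @Decidable @x0) (x3 : @Decidable @x1) => @Decidable.rec.{1} @x0 @(fun (x4 : @Decidable @x0) => @Decidable (@Or @x0 @x1)) @(fun (x4 : @Not @x0) => @Decidable.rec.{1} @x1 @(fun (x5 : @Decidable @x1) => @Decidable (@Or @x0 @x1)) @(fun (x5 : @Not @x1) => @Decidable.isFalse (@Or @x0 @x1) (@instDecidableOr._proof_1 @x0 @x1 @x4 @x5)) @(fun (x5 : x1) => @Decidable.isTrue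 (@Or @x0 @x1) (@Or.inr @x0 @x1 @x5)) @x3) @(fun (x4 : x0) => @Decidable.isTrue (@Or @x0 @x1) (@Or.inl @x0 @x1 @x4)) @x2)
private theorem _root_.Cfsg.Agent.KO03179cd.e16 : @instDecidableOr = @_root_.Cfsg.Agent.KO03179cd.k16 := by delta _root_.Cfsg.Agent.KO03179cd.k16; rfl'
private noncomputable def _root_.Cfsg.Agent.KO03179cd.k17 : (by first | exact type_of% @Cfsg.Agent.H378.OmD4.V.add | exact Unit : Sort _) := by first | (refine @Subtype.val _ (fun g => @Cfsg.Agent.H378.OmD4.V.add = @g) (@Subtype.mk _ _ (@(fun (x0 : @Cfsg.Agent.H378.OmD4.V) (x1 : @Cfsg.Agent.H378.OmD4.V) => @Cfsg.Agent.H378.OmD4.V.mk (@Cfsg.Agent.KO03179cd.k10 (@Cfsg.Agent.H378.OmD4.V.a @x0) (@Cfsg.Agent.H378.OmD4.V.a @x1)) (@Cfsg.Agent.KO03179cd.k10 (@Cfsg.Agent.H378.OmD4.V.b @x0) (@Cfsg.Agent.H378.OmD4.V.b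 @x1)) (@Cfsg.Agent.KO03179cd.k10 (@Cfsg.Agent.H378.OmD4.V.c @x0) (@Cfsg.Agent.H378.OmD4.V.c @x1)) (@Cfsg.Agent.KO03179cd.k10 (@Cfsg.Agent.H378.OmD4.V.d @x0) (@Cfsg.Agent.H378.OmD4.V.d @x1)))) ?_); rewrite [← Cfsg.Agent.KO03179cd.e10]; rfl') | exact @Cfsg.Agent.H378.OmD4.V.add | exact ()
private theorem _root_.Cfsg.Agent.KO03179cd.e17 : (by first | exact @Cfsg.Agent.H378.OmD4.V.add = @_root_.Cfsg.Agent.KO03179cd.k17 | exact True : Prop) := by first | (delta _root_.Cfsg.Agent.KO03179cd.k17; exact @Subtype.property _ (fun g => @Cfsg.Agent.H378.OmD4.V.add = @g) _) | rfl | trivial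

/-- the minimal polynomials -/
theorem c0 (i : Fin 7) :
    (∀ j, ((reps i).ap ((reps i).ap ((reps i).ap ((reps i).ap (bas j))))).add
        ((reps i).ap ((reps i).ap ((reps i).ap (bas j)))) = ((reps i).ap (bas j)).add (bas j)) ∨
    (∀ j, ((reps i).ap ((reps i).ap ((reps i).ap ((reps i).ap (bas j))))).add ((reps i).ap (bas j)) =
        ((reps i).ap ((reps i).ap ((reps i).ap (bas j)))).add (bas j)) ∨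
    (∀ j, ((reps i).ap ((reps i).ap ((reps i).ap ((reps i).ap (bas j))))).add (bas j) =
        (reps i).ap ((reps i).ap (bas j))) := by
  revert i
  (first | (refine of_decide_eq_true ?_; rewrite [Cfsg.Agent.KO03179cd.e0, Cfsg.Agent.KO03179cd.e2, Cfsg.Agent.KO03179cd.e16, Cfsg.Agent.KO03179cd.e17, Cfsg.Agent.KO03179cd.e12]; decide +kernel) | decide +kernel)

/-! ### (C1) -/

/-- `c₀ α + c₁ R α + c₂ R² α + c₃ R³ α` -/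
def comb (R : Mx) (v c : V) : V :=
  ((v.sm c.a).add ((R.ap v).sm c.b)).add (((R.ap (R.ap v)).sm c.c).add ((R.ap (R.ap (R.ap v))).sm c.d))

theorem KK.comb (K : KK R P) {v : V} (hv : P v) (c : V) : P (comb R v c) :=
  K.add _ _ (K.add _ _ (K.sm _ _ hv) (K.sm _ _ (K.ap _ hv)))
    (K.add _ _ (K.sm _ _ (K.ap _ (K.ap _ hv))) (K.sm _ _ (K.ap _ (K.ap _ (K.ap _ hv)))))

/-- the coefficient vectors -/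
def coefs : List V := (beta% (fun (vq0 : List Cfsg.Agent.H378.OmD4.V) => (beta% delta% lq262e3a155f fun a _ c _ _ _ =>
 (let d:type_of% vq0:=(let d:type_of% vq0:=(let d:type_of% vq0:=(a ⟨1, 0, -2, -1⟩<|a ⟨0, -1, 1, -1⟩<|a ⟨0, 1,
 -1, -1⟩<|a ⟨-1, -1, -1, 0⟩<|a ⟨-1, 1, -1, 0⟩<|c);
 (a ⟨2, -1, -1,
 1⟩<|a ⟨-1, -2, 0, 1⟩<|a ⟨1, 1, -1, -2⟩<|a ⟨-2, -1, 1, 1⟩<|a ⟨0, -1, -1, -1⟩<|d));
 (let d:type_of% d:=(a ⟨0, -1, -1, 1⟩<|a ⟨1, -1, 1, 0⟩<|a ⟨-1, 0, 0, -1⟩<|a ⟨-2, 1, 1, -1⟩<|a ⟨0, 1, -1, 1⟩<|d);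
 (a ⟨-1, -1, 1, 0⟩<|a ⟨1, -1, -1, 2⟩<|a ⟨1, 0, -2,
 1⟩<|a ⟨-1, 1, 1, 0⟩<|d)));
 (let d:type_of% d:=(let d:type_of% d:=(a ⟨-2, 2,
 0, 0⟩<|a ⟨0, -2, 2, 0⟩<|a ⟨0, 0, -2, 2⟩<|a ⟨2, 0, 0, -2⟩<|a ⟨-2, 0, 0, 2⟩<|d);
 (a ⟨2, -2, 0, 0⟩<|a ⟨0, 2, -2, 0⟩<|a ⟨1, 0, 0, 1⟩<|a ⟨1, -1, -1, 0⟩<|a ⟨0, 0, 2, -2⟩<|d));
 (let d:type_of% d:=(a ⟨-1, 0, 2, -1⟩<|a ⟨0, -1, 1, 1⟩<|a ⟨1, 1, -1, 0⟩<|a ⟨-1,
 2, 0, -1⟩<|a ⟨1, -2, 0, 1⟩<|d);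
 (a ⟨0, 0, 0, 0⟩<|a ⟨-1, 0, 0, 1⟩<|a ⟨1, 0, 0, -1⟩<|a ⟨0, 1, 1, -1⟩<|d)))) :
 List Cfsg.Agent.H378.OmD4.V)) _)

private noncomputable def _root_.Cfsg.Agent.KO03179cd.k18.{ku0} : ((x0 : Sort (ku0+1)) → ((x1 : (x0 → Prop)) → ((@DecidablePred.{(ku0+1)} @x0 @x1) → ((x3 : @List.{ku0} @x0) → @Decidable (@Exists.{(ku0+1)} @x0 @(fun (x4 : x0) => @And (@Membership.mem.{ku0, ku0} @x0 (@List.{ku0} @x0) (@List.instMembership.{ku0} @x0) @x3 @x4) (@x1 @x4))))))) := @(fun (x0 : Sort (ku0+1)) (x1 : (x0 → Prop)) (x2 : @DecidablePred.{(ku0+1)} @x0 @x1) (x3 : @List.{ku0} @x0) => @List.rec.{1, ku0} @x0 @(fun (x4 : @List.{ku0} @x0) => @Decidable (@Exists.{(ku0+1)} @x0 @(fun (x5 : x0) => @And (@Membership.mem.{ku0, ku0} @x0 (@List.{ku0} @x0) (@List.instMembership.{ku0} @x0) @x4 @x5) (@x1 @x5))))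 (@Decidable.isFalse (@Exists.{(ku0+1)} @x0 @(fun (x4 : x0) => @And (@Membership.mem.{ku0, ku0} @x0 (@List.{ku0} @x0) (@List.instMembership.{ku0} @x0) (@List.nil.{ku0} @x0) @x4) (@x1 @x4))) (@List.decidableBEx._proof_1.{ku0} @x0 @x1)) @(fun (x4 : x0) (x5 : @List.{ku0} @x0) (x6 : @Decidable (@Exists.{(ku0+1)} @x0 @(fun (x6 : x0) => @And (@Membership.mem.{ku0, ku0} @x0 (@List.{ku0} @x0) (@List.instMembership.{ku0} @x0) @x5 @x6) (@x1 @x6)))) => @Decidable.rec.{1} (@x1 @x4) @(fun (x7 : @Decidable (@x1 @x4)) => @Decidable (@Exists.{(ku0+1)} @x0 @(fun (x8 : x0) => @And (@Membership.mem.{ku0, ku0} @x0 (@List.{ku0} @x0) (@List.instMembership.{ku0} @x0) (@List.cons.{ku0} @x0 @x4 @x5) @x8) (@x1 @x8)))) @(fun (x7 : @Not (@x1 @x4)) => @Decidable.rec.{1} (@Exists.{(ku0+1)} @x0 @(fun (x8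 : x0) => @And (@Membership.mem.{ku0, ku0} @x0 (@List.{ku0} @x0) (@List.instMembership.{ku0} @x0) @x5 @x8) (@x1 @x8))) @(fun (x8 : @Decidable (@Exists.{(ku0+1)} @x0 @(fun (x8 : x0) => @And (@Membership.mem.{ku0, ku0} @x0 (@List.{ku0} @x0) (@List.instMembership.{ku0} @x0) @x5 @x8) (@x1 @x8)))) => @Decidable (@Exists.{(ku0+1)} @x0 @(fun (x9 : x0) => @And (@Membership.mem.{ku0, ku0} @x0 (@List.{ku0} @x0) (@List.instMembership.{ku0} @x0) (@List.cons.{ku0} @x0 @x4 @x5) @x9) (@x1 @x9)))) @(fun (x8 : @Not (@Exists.{(ku0+1)} @x0 @(fun (x8 : x0) => @And (@Membership.mem.{ku0, ku0} @x0 (@List.{ku0} @x0) (@List.instMembership.{ku0} @x0) @x5 @x8) (@x1 @x8)))) => @Decidable.isFalse (@Exists.{(ku0+1)} @x0 @(fun (x9 : x0) => @And (@Membership.mem.{ku0, ku0} @x0 (@List.{ku0} @x0) (@List.instMembership.{ku0}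 @x0) (@List.cons.{ku0} @x0 @x4 @x5) @x9) (@x1 @x9))) (@List.decidableBEx._proof_4.{ku0} @x0 @x1 @x4 @x5 @x7 @x8)) @(fun (x8 : @Exists.{(ku0+1)} @x0 @(fun (x8 : x0) => @And (@Membership.mem.{ku0, ku0} @x0 (@List.{ku0} @x0) (@List.instMembership.{ku0} @x0) @x5 @x8) (@x1 @x8))) => @Decidable.isTrue (@Exists.{(ku0+1)} @x0 @(fun (x9 : x0) => @And (@Membership.mem.{ku0, ku0} @x0 (@List.{ku0} @x0) (@List.instMembership.{ku0} @x0) (@List.cons.{ku0} @x0 @x4 @x5) @x9) (@x1 @x9))) (@List.decidableBEx._proof_3.{ku0} @x0 @x1 @x4 @x5 @x8)) @x6) @(fun (x7 : @x1 @x4) => @Decidable.isTrue (@Exists.{(ku0+1)} @x0 @(fun (x8 : x0) => @And (@Membership.mem.{ku0, ku0} @x0 (@List.{ku0} @x0) (@List.instMembership.{ku0} @x0) (@List.cons.{ku0} @x0 @x4 @x5) @x8) (@x1 @x8))) (@List.decidableBEx._proof_2.{ku0}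 @x0 @x1 @x4 @x5 @x7)) (@x2 @x4)) @x3)
private theorem _root_.Cfsg.Agent.KO03179cd.e18.{ku0} : @List.decidableBEx.{ku0} = @_root_.Cfsg.Agent.KO03179cd.k18.{ku0} := by delta _root_.Cfsg.Agent.KO03179cd.k18; funext a0 a1 a2 a3; refine (_root_.Cfsg.Agent.KO03179cd.e3 (fun a3 => @List.decidableBEx.{ku0} a0 a1 a2 a3) ?_ (fun c0 c1 => ?_) a3 :) <;> (rfl')
private noncomputable def _root_.Cfsg.Agent.KO03179cd.k19 : (by first | exact type_of% @Cfsg.Agent.H378.OmD4.V.sm | exact Unit : Sort _) := by first | (refine @Subtype.val _ (fun g => @Cfsg.Agent.H378.OmD4.V.sm = @g) (@Subtype.mk _ _ (@(fun (x0 : @Int) (x1 : @Cfsg.Agent.H378.OmD4.V) => @Cfsg.Agent.H378.OmD4.V.mk (@Cfsg.Agent.KO03179cd.k11 @x0 (@Cfsg.Agent.H378.OmD4.V.a @x1)) (@Cfsg.Agent.KO03179cd.k11 @x0 (@Cfsg.Agent.H378.OmD4.V.b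 @x1)) (@Cfsg.Agent.KO03179cd.k11 @x0 (@Cfsg.Agent.H378.OmD4.V.c @x1)) (@Cfsg.Agent.KO03179cd.k11 @x0 (@Cfsg.Agent.H378.OmD4.V.d @x1)))) ?_); rewrite [← Cfsg.Agent.KO03179cd.e11]; rfl') | exact @Cfsg.Agent.H378.OmD4.V.sm | exact ()
private theorem _root_.Cfsg.Agent.KO03179cd.e19 : (by first | exact @Cfsg.Agent.H378.OmD4.V.sm = @_root_.Cfsg.Agent.KO03179cd.k19 | exact True : Prop) := by first | (delta _root_.Cfsg.Agent.KO03179cd.k19; exact @Subtype.property _ (fun g => @Cfsg.Agent.H378.OmD4.V.sm = @g) _) | rfl | trivial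
private noncomputable def _root_.Cfsg.Agent.KO03179cd.k20 : (by first | exact type_of% @Cfsg.Agent.H378.OmD4.comb | exact Unit : Sort _) := by first | (refine @Subtype.val _ (fun g => @Cfsg.Agent.H378.OmD4.comb = @g) (@Subtype.mk _ _ (@(fun (x0 : @Cfsg.Agent.H378.OmD4.Mx) (x1 : @Cfsg.Agent.H378.OmD4.V) (x2 : @Cfsg.Agent.H378.OmD4.V) => @Cfsg.Agent.KO03179cd.k17 (@Cfsg.Agent.KO03179cd.k17 (@Cfsg.Agent.KO03179cd.k19 (@Cfsg.Agent.H378.OmD4.V.a @x2) @x1) (@Cfsg.Agent.KO03179cd.k19 (@Cfsg.Agent.H378.OmD4.V.b @x2) (@Cfsg.Agent.KO03179cd.k12 @x0 @x1))) (@Cfsg.Agent.KO03179cd.k17 (@Cfsg.Agent.KO03179cd.k19 (@Cfsg.Agent.H378.OmD4.V.c @x2) (@Cfsg.Agent.KO03179cd.k12 @x0 (@Cfsg.Agent.KO03179cd.k12 @x0 @x1))) (@Cfsg.Agent.KO03179cd.k19 (@Cfsg.Agent.H378.OmD4.V.d @x2) (@Cfsg.Agent.KO03179cd.k12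 @x0 (@Cfsg.Agent.KO03179cd.k12 @x0 (@Cfsg.Agent.KO03179cd.k12 @x0 @x1))))))) ?_); rewrite [← Cfsg.Agent.KO03179cd.e12, ← Cfsg.Agent.KO03179cd.e19, ← Cfsg.Agent.KO03179cd.e17]; (try delta Cfsg.Agent.H378.OmD4.comb); (try generalize @Cfsg.Agent.H378.OmD4.V.add = g0); (try generalize @Cfsg.Agent.H378.OmD4.V.sm = g1); (try generalize @Cfsg.Agent.H378.OmD4.Mx.ap = g2); rfl') | exact @Cfsg.Agent.H378.OmD4.comb | exact ()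
private theorem _root_.Cfsg.Agent.KO03179cd.e20 : (by first | exact @Cfsg.Agent.H378.OmD4.comb = @_root_.Cfsg.Agent.KO03179cd.k20 | exact True : Prop) := by first | (delta _root_.Cfsg.Agent.KO03179cd.k20; exact @Subtype.property _ (fun g => @Cfsg.Agent.H378.OmD4.comb = @g) _) | rfl | trivial

theorem c1 : ∀ i : Fin 7, ∀ v ∈ pos, ∃ ε ∈ [(1 : ℤ), -1], ∀ j : Fin 4, ∃ c ∈ coefs,
    ((reps i).ap ((reps i).ap ((reps i).ap (bas j)))).add ((bas j).sm (-ε)) = comb (reps i) v c := by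
  (first | (refine of_decide_eq_true ?_; rewrite [Cfsg.Agent.KO03179cd.e0, Cfsg.Agent.KO03179cd.e2, Cfsg.Agent.KO03179cd.e4.{0}, Cfsg.Agent.KO03179cd.e18.{0}, Cfsg.Agent.KO03179cd.e17, Cfsg.Agent.KO03179cd.e12, Cfsg.Agent.KO03179cd.e19, Cfsg.Agent.KO03179cd.e20]; decide +kernel) | decide +kernel)

/-! ### (C2) -/

/-- the span of `u, v, R u, R v, R² u, R² v` is the lattice -/
def Full2 (R : Mx) (u v : V) : Prop :=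
  IsU (det4 u v (R.ap u) (R.ap v)) ∨ IsU (det4 u v (R.ap u) (R.ap (R.ap u))) ∨
    IsU (det4 u v (R.ap v) (R.ap (R.ap v))) ∨ IsU (det4 u v (R.ap u) (R.ap (R.ap v))) ∨
    IsU (det4 u v (R.ap v) (R.ap (R.ap u)))

instance (R : Mx) (u v : V) : Decidable (Full2 R u v) := inferInstanceAs (Decidable (_ ∨ _))

theorem KK.full2 (K : KK R P) {u v : V} (hu : P u) (hv : P v) (h : Full2 R u v) (y : V) : P y := by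
  have h1 := K.ap _ hu
  have h2 := K.ap _ hv
  have h3 := K.ap _ h1
  have h4 := K.ap _ h2
  rcases h with h | h | h | h | h
  · exact K.of_det hu hv h1 h2 h y
  · exact K.of_det hu hv h1 h3 h y
  · exact K.of_det hu hv h2 h4 h y
  · exact K.of_det hu hv h1 h4 h y
  · exact K.of_det hu hv h2 h3 h y

/-- the span of `u, v, x, R x, R² x` is the lattice -/
def Full3 (R : Mx) (u v x : V) : Prop :=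
  IsU (det4 u v x (R.ap x)) ∨ IsU (det4 u v x (R.ap (R.ap x))) ∨ IsU (det4 u v (R.ap x) (R.ap (R.ap x)))

instance (R : Mx) (u v x : V) : Decidable (Full3 R u v x) := inferInstanceAs (Decidable (_ ∨ _))

theorem KK.full3 (K : KK R P) {u v x : V} (hu : P u) (hv : P v) (hx : P x) (h : Full3 R u v x) (y : V) : P y := by
  have h1 := K.ap _ hx
  have h2 := K.ap _ h1
  rcases h with h | h | h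
  · exact K.of_det hu hv hx h1 h y
  · exact K.of_det hu hv hx h2 h y
  · exact K.of_det hu hv h1 h2 h y

private noncomputable def _root_.Cfsg.Agent.KO03179cd.k5 : ((x0 : @Bool) → ((x1 : @Bool) → @Decidable (@Eq.{1} @Bool @x0 @x1))) := @(fun (x0 : @Bool) (x1 : @Bool) => @Bool.rec.{1} @(fun (x2 : @Bool) => @Decidable (@Eq.{1} @Bool @x2 @x1)) (@Bool.rec.{1} @(fun (x2 : @Bool) => @Decidable (@Eq.{1} @Bool @Bool.false @x2)) (@Decidable.isTrue (@Eq.{1} @Bool @Bool.false @Bool.false) (@rfl.{1} @Bool @Bool.false)) (@Decidable.isFalse (@Eq.{1} @Bool @Bool.false @Bool.true) @(fun (x2 : @Eq.{1} @Bool @Bool.false @Bool.true) => @Bool.noConfusion.{0} @False @Bool.false @Bool.true @x2)) @x1) (@Bool.rec.{1} @(fun (x2 : @Bool) => @Decidable (@Eq.{1} @Bool @Bool.true @x2)) (@Decidable.isFalse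 (@Eq.{1} @Bool @Bool.true @Bool.false) @(fun (x2 : @Eq.{1} @Bool @Bool.true @Bool.false) => @Bool.noConfusion.{0} @False @Bool.true @Bool.false @x2)) (@Decidable.isTrue (@Eq.{1} @Bool @Bool.true @Bool.true) (@rfl.{1} @Bool @Bool.true)) @x1) @x0)
private theorem _root_.Cfsg.Agent.KO03179cd.e5 : @Bool.decEq = @_root_.Cfsg.Agent.KO03179cd.k5 := by delta _root_.Cfsg.Agent.KO03179cd.k5; rfl'
private noncomputable def _root_.Cfsg.Agent.KO03179cd.k7.{ku0} : ((x0 : Sort (ku0+1)) → ((x1 : @BEq.{ku0} @x0) → ((@LawfulBEq.{ku0} @x0 @x1) → ((x3 : x0) → ((x4 : @List.{ku0} @x0) → @Decidable (@Membership.mem.{ku0, ku0} @x0 (@List.{ku0} @x0) (@List.instMembership.{ku0} @x0) @x4 @x3)))))) := @(fun (x0 : Sort (ku0+1)) (x1 : @BEq.{ku0} @x0) (x2 : @LawfulBEq.{ku0} @x0 @x1) (x3 : x0) (x4 : @List.{ku0}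 @x0) => @Decidable.rec.{1} (@Eq.{1} @Bool (@List.elem.{ku0} @x0 @x1 @x3 @x4) @Bool.true) @(fun (x5 : @Decidable (@Eq.{1} @Bool (@List.elem.{ku0} @x0 @x1 @x3 @x4) @Bool.true)) => @Decidable (@Membership.mem.{ku0, ku0} @x0 (@List.{ku0} @x0) (@List.instMembership.{ku0} @x0) @x4 @x3)) @(fun (x5 : @Not (@Eq.{1} @Bool (@List.elem.{ku0} @x0 @x1 @x3 @x4) @Bool.true)) => @Decidable.isFalse (@Membership.mem.{ku0, ku0} @x0 (@List.{ku0} @x0) (@List.instMembership.{ku0} @x0) @x4 @x3) (@decidable_of_decidable_of_iff._proof_1 (@Eq.{1} @Bool (@List.elem.{ku0} @x0 @x1 @x3 @x4) @Bool.true) (@Membership.mem.{ku0, ku0} @x0 (@List.{ku0} @x0) (@List.instMembership.{ku0} @x0) @x4 @x3) (@List.instDecidableMemOfLawfulBEq._proof_1.{ku0} @x0 @x1 @x2 @x3 @x4) @x5)) @(fun (x5 : @Eq.{1} @Bool (@List.elem.{ku0}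 @x0 @x1 @x3 @x4) @Bool.true) => @Decidable.isTrue (@Membership.mem.{ku0, ku0} @x0 (@List.{ku0} @x0) (@List.instMembership.{ku0} @x0) @x4 @x3) (@Iff.mp (@Eq.{1} @Bool (@List.elem.{ku0} @x0 @x1 @x3 @x4) @Bool.true) (@Membership.mem.{ku0, ku0} @x0 (@List.{ku0} @x0) (@List.instMembership.{ku0} @x0) @x4 @x3) (@List.instDecidableMemOfLawfulBEq._proof_1.{ku0} @x0 @x1 @x2 @x3 @x4) @x5)) (@Cfsg.Agent.KO03179cd.k5 (@List.elem.{ku0} @x0 @x1 @x3 @x4) @Bool.true))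
private theorem _root_.Cfsg.Agent.KO03179cd.e7.{ku0} : @List.instDecidableMemOfLawfulBEq.{ku0} = @_root_.Cfsg.Agent.KO03179cd.k7.{ku0} := by delta _root_.Cfsg.Agent.KO03179cd.k7; rewrite [← Cfsg.Agent.KO03179cd.e5]; rfl'
private noncomputable def _root_.Cfsg.Agent.KO03179cd.k21 : ((x0 : Prop) → ((x1 : (x0 → Prop)) → ((@Decidable @x0) → (((x3 : x0) → @Decidable (@x1 @x3)) → @Decidable ((x4 : x0) → @x1 @x4))))) := @(fun (x0 : Prop) (x1 : (x0 → Prop)) (x2 : @Decidable @x0) (x3 : ((x3 : x0) → @Decidable (@x1 @x3))) => @Decidable.rec.{1} @x0 @(fun (x4 : @Decidable @x0) => @Decidable ((x5 : x0) → @x1 @x5)) @(fun (x4 : @Not @x0) => @Decidable.isTrue ((x5 : x0) → @x1 @x5) (@forall_prop_decidable._proof_2 @x0 @x1 @x4)) @(fun (x4 : x0) => @Decidable.rec.{1} (@x1 @x4) @(fun (x5 : @Decidable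 (@x1 @x4)) => @Decidable ((x6 : x0) → @x1 @x6)) @(fun (x5 : @Not (@x1 @x4)) => @Decidable.isFalse ((x6 : x0) → @x1 @x6) (@decidable_of_decidable_of_iff._proof_1 (@x1 @x4) ((x6 : x0) → @x1 @x6) (@forall_prop_decidable._proof_1 @x0 @x1 @x4) @x5)) @(fun (x5 : @x1 @x4) => @Decidable.isTrue ((x6 : x0) → @x1 @x6) (@Iff.mp (@x1 @x4) ((x6 : x0) → @x1 @x6) (@forall_prop_decidable._proof_1 @x0 @x1 @x4) @x5)) (@x3 @x4)) @x2)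
private theorem _root_.Cfsg.Agent.KO03179cd.e21 : @forall_prop_decidable = @_root_.Cfsg.Agent.KO03179cd.k21 := by delta _root_.Cfsg.Agent.KO03179cd.k21; rfl'
private noncomputable def _root_.Cfsg.Agent.KO03179cd.k22 : ((x0 : Prop) → ((x1 : Prop) → ((@Decidable @x0) → ((@Decidable @x1) → @Decidable (@And @x0 @x1))))) := @(fun (x0 : Prop) (x1 : Prop) (x2 : @Decidable @x0) (x3 : @Decidable @x1) => @Decidable.rec.{1} @x0 @(fun (x4 : @Decidable @x0) => @Decidable (@And @x0 @x1)) @(fun (x4 : @Not @x0) => @Decidable.isFalse (@And @x0 @x1) (@instDecidableAnd._proof_2 @x0 @x1 @x4)) @(fun (x4 : x0) => @Decidable.rec.{1} @x1 @(fun (x5 : @Decidable @x1) => @Decidable (@And @x0 @x1)) @(fun (x5 : @Not @x1) => @Decidable.isFalse (@And @x0 @x1) (@instDecidableAnd._proof_1 @x0 @x1 @x5)) @(fun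 (x5 : x1) => @Decidable.isTrue (@And @x0 @x1) (@And.intro @x0 @x1 @x4 @x5)) @x3) @x2)
private theorem _root_.Cfsg.Agent.KO03179cd.e22 : @instDecidableAnd = @_root_.Cfsg.Agent.KO03179cd.k22 := by delta _root_.Cfsg.Agent.KO03179cd.k22; rfl'

private noncomputable def _root_.Cfsg.Agent.LsF.f330e69_9 : {f // @Cfsg.Agent.H378.OmD4.det3 = f} := ⟨_, by first | (delta Cfsg.Agent.H378.OmD4.det3; rewrite [Cfsg.Agent.LsF.iadd_pat, Cfsg.Agent.LsF.imul_pat, Cfsg.Agent.LsF.isub_pat]; exact rfl) | exact rfl⟩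
private noncomputable def _root_.Cfsg.Agent.LsF.f330e69_10 : {f // @Cfsg.Agent.H378.OmD4.det4 = f} := ⟨_, by first | (delta Cfsg.Agent.H378.OmD4.det4; rewrite [Cfsg.Agent.LsF.f330e69_9.2, Cfsg.Agent.LsF.iadd_pat, Cfsg.Agent.LsF.imul_pat, Cfsg.Agent.LsF.isub_pat]; exact rfl) | exact rfl⟩
private noncomputable def _root_.Cfsg.Agent.LsF.f330e69_8 : {f // @Cfsg.Agent.H378.OmD4.reps = f} := ⟨_, by first | (delta Cfsg.Agent.H378.OmD4.reps; rewrite [Cfsg.Agent.LsF.ineg_pat]; (try delta Cfsg.Agent.H378.OmD4.reps.match_1); (try delta Fin.casesOn Nat.casesOn Nat.le.casesOn); exact rfl) | exact rfl⟩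
theorem c2 : ∀ i : Fin 7, ∀ u ∈ pos, ∀ v ∈ pos, u.add v ∈ pos → Full2 (reps i) u v ∨
    ((∃ ε ∈ [(1 : ℤ), -1], ∀ j : Fin 4, ∃ c ∈ [(-3 : ℤ), -2, -1, 0, 1, 2, 3], ∃ d ∈ [(-3 : ℤ), -2, -1, 0, 1, 2, 3],
      (((reps i).ap ((reps i).ap (bas j))).add (((reps i).ap (bas j)).sm ε)).add (bas j) =
        (u.sm c).add (v.sm d)) ∧
    ∀ x ∈ pos, (u.add v).add x ∈ pos → Full3 (reps i) u v x) := by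
  (refine of_decide_eq_true ?_; rewrite [Cfsg.Agent.KO03179cd.e0, Cfsg.Agent.KO03179cd.e2, Cfsg.Agent.KO03179cd.e4.{0}, Cfsg.Agent.KO03179cd.e21, Cfsg.Agent.KO03179cd.e7.{0}, Cfsg.Agent.KO03179cd.e17, Cfsg.Agent.KO03179cd.e16, Cfsg.Agent.KO03179cd.e22, Cfsg.Agent.KO03179cd.e18.{0}, Cfsg.Agent.KO03179cd.e12, Cfsg.Agent.KO03179cd.e19]; ((try (delta Cfsg.Agent.H378.OmD4.Full2 Cfsg.Agent.H378.OmD4.Full3 Cfsg.Agent.H378.OmD4.IsU Cfsg.Agent.H378.OmD4.instDecidableFull2 Cfsg.Agent.H378.OmD4.instDecidableFull2._aux_1 Cfsg.Agent.H378.OmD4.instDecidableFull3 Cfsg.Agent.H378.OmD4.instDecidableFull3._aux_1 Cfsg.Agent.H378.OmD4.instDecidableIsU Cfsg.Agent.H378.OmD4.instDecidableIsU._aux_1 Cfsg.Agent.KO03179cd.k7; rewrite [Cfsg.Agent.LsF.f330e69_10.2, Cfsg.Agent.LsF.f330e69_0.2, Cfsg.Agent.LsF.f330e69_8.2,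 Cfsg.Agent.LsF.f330e69_4.2, Cfsg.Agent.LsF.ineg_pat, Cfsg.Agent.LsF.instIDecEq_eq, Cfsg.Agent.LsF.dOr_eq])); decide +kernel))

/-- heights -/
theorem ht_le : ∀ v ∈ pos, v.a + v.b + v.c + v.d ≤ 5 := by decide +kernel

end Cfsg.Agent.H378.OmD4
end

-- part: H378/OmD4Tor
section
/-!
# Pairs of commuting semisimple and unipotent elements of `³D₄(q)` (helper378)

* `exists_conj_rep` : every `w · tri` is conjugate to one of the seven representatives;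
* `main` : `Y = chevD4.group k`, `σ = tau k p e`, `q = p ^ e`, `x, u ∈ Y^σ` commuting, `x` of order prime to `p`, `u` of
  `p`-power order.
-/

set_option autoImplicit false
set_option linter.unusedSectionVars false

namespace Cfsg.Agent.H378.OmD4

open CoxeterSystem Cfsg Cfsg.Lie Cfsg.Lie.ChevalleyDatum
open Cfsg.Agent.ChevalleyStructure Cfsg.Agent.ChevalleyStructure.Elts Cfsg.Agent.ChevalleyStructure.CoxeterGeom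
  Cfsg.Agent.ChevalleyStructure.CoxeterGeomTypes Cfsg.Agent.ChevalleyStructure.NPerm
open Cfsg.Agent.Tits.Roots Cfsg.Agent.Tits.Core Cfsg.Agent.Nodes Cfsg.Agent.Nodes.Reps Cfsg.Agent.Nodes.BNOf
  Cfsg.Agent.Nodes.RGDChev Cfsg.Agent.Nodes.Bruhat
open Cfsg.Agent.KFacts.RgdField Cfsg.Agent.KFacts.RgdChevCoord
open Cfsg.Agent.BpExc Cfsg.Agent.BpExc.TorCent Cfsg.Agent.BpExc.TorChev Cfsg.Agent.BpExc.Tow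
  Cfsg.Agent.BpExc.TowChev Cfsg.Agent.BpExc.Fr Cfsg.Agent.BpExc.NInst
open Cfsg.Agent.H129.TorusChar Cfsg.Agent.H129.TriD4
open scoped commutatorElement

universe u v

/-! ### vectors -/

theorem fn_add (u v : V) : (u.add v).fn = u.fn + v.fn := by
  funext i; fin_cases i <;> rfl

theorem fn_sm (n : ℤ) (v : V) : (v.sm n).fn = n • v.fn := by
  funext i; fin_cases i <;> rfl

theorem exists_fn (x : Fin 4 → ℤ) : ∃ v : V, v.fn = x :=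
  ⟨⟨x 0, x 1, x 2, x 3⟩, by funext i; fin_cases i <;> rfl⟩

theorem fn_inj {u v : V} (h : u.fn = v.fn) : u = v := by
  have h0 := congrFun h 0
  have h1 := congrFun h 1
  have h2 := congrFun h 2
  have h3 := congrFun h 3
  exact V.ext h0 h1 h2 h3

theorem fn_bas : ∀ j : Fin 4, (bas j).fn = sr j := by
  intro j; funext i; fin_cases j <;> fin_cases i <;> rfl

theorem Mx.ap_mul (F G : Mx) (v : V) : (F.mul G).ap v = F.ap (G.ap v) := by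
  ext <;> simp only [Mx.ap, Mx.mul] <;> ring

/-- `F` is the matrix of `φ` -/
def IsM (F : Mx) (φ : (Fin 4 → ℤ) → (Fin 4 → ℤ)) : Prop := ∀ v : V, φ v.fn = (F.ap v).fn

theorem IsM.mul {F G : Mx} {φ ψ : (Fin 4 → ℤ) → (Fin 4 → ℤ)} (hF : IsM F φ) (hG : IsM G ψ) :
    IsM (F.mul G) (fun x => φ (ψ x)) := fun v => by
  show φ (ψ v.fn) = _
  rw [hG, hF, Mx.ap_mul]

theorem isM_tri : IsM T tri := fun v => by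
  funext i
  rw [tri_apply]
  fin_cases i <;> simp [T, Mx.ap, V.fn]

theorem cartan_D4 : ∀ i j : Fin 4, cartanOf chevD4 4 i j =
    (beta% delta% lq262e3a155f fun _ _ _ e f g =>
 ((e (e 2<|e (-1)<|e 0<|e 0<|f)<|e (e (-1)<|e 2<|e (-1)<|e (-1)<|f)<|e (e 0<|e (-1)<|e 2<|e 0<|f)<|e (e 0<|e (-1)<|e 0<|e 2<|f)<|f) :type_of% (g _)) i j :
 ℤ) := by
  decide +kernel

variable {W : Type v} [Group W] (cs : CoxeterSystem coxeterD4 W)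

theorem isM_refl (i : Fin 4) : IsM (refl i) (rep cs RGDTwD4.hp.isCartan (cs.simple i)) := fun v => by
  rw [rep_simple_eq]
  have h1 : pairing (cartanOf chevD4 4) i v.fn = cartanOf chevD4 4 i 0 * v.a + cartanOf chevD4 4 i 1 * v.b +
      cartanOf chevD4 4 i 2 * v.c + cartanOf chevD4 4 i 3 * v.d := by
    rw [pairing, Fin.sum_univ_four]; rfl
  rw [h1, cartan_D4, cartan_D4, cartan_D4, cartan_D4, ← fn_bas]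
  funext m
  fin_cases i <;> fin_cases m <;> simp [refl, Mx.ap, V.fn, bas] <;> ring

theorem exists_tab (w : W) : ∃ e ∈ Tab, IsM e.1 (fun x => rep cs RGDTwD4.hp.isCartan w (tri x)) := by
  obtain ⟨ω, rfl⟩ := cs.wordProd_surjective w
  induction ω with
  | nil =>
    obtain ⟨e, he, h⟩ := List.mem_map.1 tab_T
    refine ⟨e, he, ?_⟩
    rw [h, wordProd_nil]
    intro v
    show rep cs RGDTwD4.hp.isCartan 1 (tri v.fn) = _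
    rw [map_one, Module.End.one_apply]
    exact isM_tri v
  | cons i ω ih =>
    obtain ⟨e, he, h⟩ := ih
    obtain ⟨e', he', h'⟩ := List.mem_map.1 (tab_cl i e he)
    refine ⟨e', he', ?_⟩
    rw [h']
    intro v
    show rep cs RGDTwD4.hp.isCartan (cs.wordProd (i :: ω)) (tri v.fn) = _
    rw [wordProd_cons, rep_mul_apply]
    exact (isM_refl cs i).mul h v

theorem conjw_spec (u : List (Fin 4)) : ∀ (F : Mx) (φ : (Fin 4 → ℤ) → (Fin 4 → ℤ)), IsM F φ →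
    ∃ v : W, IsM (conjw u F) (fun x => rep cs RGDTwD4.hp.isCartan v (φ (rep cs RGDTwD4.hp.isCartan v⁻¹ x))) := by
  induction u with
  | nil =>
    intro F φ h
    refine ⟨1, fun x => ?_⟩
    show rep cs RGDTwD4.hp.isCartan 1 (φ (rep cs RGDTwD4.hp.isCartan (1 : W)⁻¹ x.fn)) = _
    rw [inv_one, map_one, Module.End.one_apply, Module.End.one_apply]
    exact h x
  | cons i u ih =>
    intro F φ h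
    obtain ⟨v, hv⟩ := ih _ _ ((isM_refl cs i).mul (h.mul (isM_refl cs i)))
    refine ⟨v * cs.simple i, fun x => ?_⟩
    have h1 := hv x
    show rep cs RGDTwD4.hp.isCartan (v * cs.simple i)
      (φ (rep cs RGDTwD4.hp.isCartan (v * cs.simple i)⁻¹ x.fn)) = _
    rw [mul_inv_rev, cs.inv_simple, rep_mul_apply, rep_mul_apply]
    exact h1

/-- **Every twisted element of the Weyl group is conjugate to a representative.** -/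
theorem exists_conj_rep (w : W) : ∃ (v : W) (i : Fin 7), IsM (reps i) (fun x => rep cs RGDTwD4.hp.isCartan v
    (rep cs RGDTwD4.hp.isCartan w (tri (rep cs RGDTwD4.hp.isCartan v⁻¹ x)))) := by
  obtain ⟨e, he, h⟩ := exists_tab cs w
  obtain ⟨v, hv⟩ := conjw_spec cs e.2.1 _ _ h
  rw [tab_conj e he] at hv
  exact ⟨v, e.2.2, hv⟩

/-! ### roots -/

private noncomputable def _root_.Cfsg.Agent.LsF.f330e69_11 : {f // @Cfsg.Agent.ChevalleyStructure.RootVecTab.dig = f} := ⟨_, by first | (delta Cfsg.Agent.ChevalleyStructure.RootVecTab.dig; rewrite [Cfsg.Agent.LsF.nmul_pat]; exact rfl) | exact rfl⟩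
private noncomputable def _root_.Cfsg.Agent.LsF.f330e69_12 : {f // @Cfsg.Agent.ChevalleyStructure.RootVecTab.packTab = f} := ⟨_, by first | (delta Cfsg.Agent.ChevalleyStructure.RootVecTab.packTab; rewrite [Cfsg.Agent.LsF.instDecEq_eq, Cfsg.Agent.LsF.ite_eq]; exact rfl) | exact rfl⟩
private noncomputable def _root_.Cfsg.Agent.LsF.f330e69_13 : {f // @Cfsg.Agent.ChevalleyStructure.RootVecTab.code = f} := ⟨_, by first | (delta Cfsg.Agent.ChevalleyStructure.RootVecTab.code; rewrite [Cfsg.Agent.LsF.f330e69_12.2, Cfsg.Agent.LsF.nmul_pat, Cfsg.Agent.LsF.npow_pat]; exact rfl) | exact rfl⟩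
private noncomputable def _root_.Cfsg.Agent.LsF.f330e69_14 : {f // @Cfsg.Agent.ChevalleyStructure.RootVec.rt = f} := ⟨_, by first | (delta Cfsg.Agent.ChevalleyStructure.RootVec.rt; rewrite [Cfsg.Agent.LsF.f330e69_11.2, Cfsg.Agent.LsF.f330e69_13.2, Cfsg.Agent.LsF.nsub_pat, Cfsg.Agent.LsF.isub_pat, Cfsg.Agent.LsF.icast_pat, Cfsg.Agent.LsF.decLt_eq, Cfsg.Agent.LsF.dAnd_eq, Cfsg.Agent.LsF.ite_eq]; exact rfl) | exact rfl⟩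
private noncomputable def _root_.Cfsg.Agent.LsF.f330e69_15 : {f // @Cfsg.Agent.Nodes.RGDChev.vec = f} := ⟨_, by first | (delta Cfsg.Agent.Nodes.RGDChev.vec; rewrite [Cfsg.Agent.LsF.f330e69_14.2]; exact rfl) | exact rfl⟩
private noncomputable def _root_.Cfsg.Agent.LsF.f330e69_16 : {f // @Cfsg.Agent.H378.OmD4.V.fn = f} := ⟨_, by first | (delta Cfsg.Agent.H378.OmD4.V.fn; rewrite [Cfsg.Agent.LsF.vecCons_eq]; exact rfl) | exact rfl⟩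
theorem vec_cases : ∀ r : Fin 24, (∃ v ∈ pos, ∀ i, vec chevD4 4 r.val i = v.fn i) ∨
    ∃ i, vec chevD4 4 r.val i < 0 := by (refine of_decide_eq_true ?_; (try (rewrite [Cfsg.Agent.LsF.f330e69_15.2, Cfsg.Agent.LsF.f330e69_16.2, Cfsg.Agent.LsF.instIDecEq_eq, Cfsg.Agent.LsF.idecLt_eq, Cfsg.Agent.LsF.dOr_eq, Cfsg.Agent.LsF.dBEx_eq, Cfsg.Agent.LsF.dForallFin_eq, Cfsg.Agent.LsF.dExistsFin_eq, Cfsg.Agent.LsF.decide_eq])); decide +kernel)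

theorem mem_pos {x : Fin 4 → ℤ} (hx : IsRoot cs RGDTwD4.hp.isCartan x) (h0 : 0 ≤ x) : ∃ v ∈ pos, v.fn = x := by
  obtain ⟨r, hr, rfl⟩ := (isRoot_iff RGDTwD4.hp cs x).1 hx
  have hr' : r < 24 := hr
  rcases vec_cases ⟨r, hr'⟩ with ⟨v, hv, h⟩ | ⟨i, hi⟩
  · exact ⟨v, hv, (funext h).symm⟩
  · exact absurd (h0 i) (not_le.2 hi)

theorem ht_fn (v : V) : Tits.Roots.ht v.fn = v.a + v.b + v.c + v.d := by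
  rw [Tits.Roots.ht, Fin.sum_univ_four]
  rfl

/-! ### characters -/

section Char

variable {k : Type u} [Field k] {χ : (Fin 4 → ℤ) → k} (hχ : IsMC χ) {q : ℕ} {i : Fin 7}
  (hR : ∀ v : V, χ ((reps i).ap v).fn = χ v.fn ^ q)

include hχ

theorem chi_add (u v : V) : χ (u.add v).fn = χ u.fn * χ v.fn := by rw [fn_add, hχ.add]

include hR

theorem kk_of : KK (reps i) (fun v => χ v.fn = 1) where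
  add u v hu hv := by rw [chi_add hχ, hu, hv, one_mul]
  sm n u hu := by rw [fn_sm, hχ.zsmul, hu, one_zpow]
  ap u hu := by rw [hR, hu, one_pow]

theorem c0' : (∀ j, χ (sr j) ^ q ^ 4 * χ (sr j) ^ q ^ 3 = χ (sr j) ^ q * χ (sr j)) ∨
    (∀ j, χ (sr j) ^ q ^ 4 * χ (sr j) ^ q = χ (sr j) ^ q ^ 3 * χ (sr j)) ∨
    (∀ j, χ (sr j) ^ q ^ 4 * χ (sr j) = χ (sr j) ^ q ^ 2) := by
  have h2 : ∀ v : V, χ ((reps i).ap ((reps i).ap v)).fn = χ v.fn ^ q ^ 2 := fun v => by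
    rw [hR, hR, ← pow_mul, pow_two]
  have h3 : ∀ v : V, χ ((reps i).ap ((reps i).ap ((reps i).ap v))).fn = χ v.fn ^ q ^ 3 := fun v => by
    rw [hR, h2, ← pow_mul, ← pow_succ]
  have h4 : ∀ v : V, χ ((reps i).ap ((reps i).ap ((reps i).ap ((reps i).ap v)))).fn = χ v.fn ^ q ^ 4 := fun v => by
    rw [hR, h3, ← pow_mul, ← pow_succ]
  rcases c0 i with h | h | h
  · left
    intro j
    have h1 := congrArg (fun v : V => χ v.fn) (h j)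
    simp only [chi_add hχ, h4, h3, hR] at h1
    rwa [fn_bas] at h1
  · right; left
    intro j
    have h1 := congrArg (fun v : V => χ v.fn) (h j)
    simp only [chi_add hχ, h4, h3, hR] at h1
    rwa [fn_bas] at h1
  · right; right
    intro j
    have h1 := congrArg (fun v : V => χ v.fn) (h j)
    simp only [chi_add hχ, h4, h2] at h1
    rwa [fn_bas] at h1

theorem c1' {v : V} (hv : v ∈ pos) (h1 : χ v.fn = 1) :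
    (∀ j, χ (sr j) ^ q ^ 3 = χ (sr j)) ∨ (∀ j, χ (sr j) ^ q ^ 3 * χ (sr j) = 1) := by
  have h3 : ∀ v : V, χ ((reps i).ap ((reps i).ap ((reps i).ap v))).fn = χ v.fn ^ q ^ 3 := fun v => by
    rw [hR, hR, hR, ← pow_mul, ← pow_mul, pow_succ, pow_two, mul_assoc]
  have K := kk_of hχ hR
  obtain ⟨ε, hε, h⟩ := c1 i v hv
  have key : ∀ j, χ (sr j) ^ q ^ 3 * χ (sr j) ^ (-ε) = 1 := by
    intro j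
    obtain ⟨c, -, e⟩ := h j
    have h4 : χ (comb (reps i) v c).fn = 1 := K.comb h1 c
    rw [← e, chi_add hχ, h3, fn_sm, hχ.zsmul, fn_bas] at h4
    exact h4
  simp only [List.mem_cons, List.not_mem_nil, or_false] at hε
  rcases hε with rfl | rfl
  · left
    intro j
    have h4 := key j
    rw [zpow_neg, zpow_one] at h4
    exact (mul_inv_eq_one₀ (hχ.ne_zero _)).1 h4
  · right
    intro j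
    have h4 := key j
    rwa [neg_neg, zpow_one] at h4

theorem c2' {u v : V} (hu : u ∈ pos) (hv : v ∈ pos) (huv : u.add v ∈ pos) (hu1 : χ u.fn = 1) (hv1 : χ v.fn = 1) :
    (∀ y : V, χ y.fn = 1) ∨
    (((∀ j, χ (sr j) ^ q ^ 2 * χ (sr j) ^ q * χ (sr j) = 1) ∨ (∀ j, χ (sr j) ^ q ^ 2 * χ (sr j) = χ (sr j) ^ q)) ∧
      ∀ x ∈ pos, (u.add v).add x ∈ pos → χ x.fn ≠ 1) := by
  have h2 : ∀ v : V, χ ((reps i).ap ((reps i).ap v)).fn = χ v.fn ^ q ^ 2 := fun v => by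
    rw [hR, hR, ← pow_mul, pow_two]
  have K := kk_of hχ hR
  by_cases hall : ∀ y : V, χ y.fn = 1
  · exact Or.inl hall
  right
  rcases c2 i u hu v hv huv with h | ⟨⟨ε, hε, h⟩, h'⟩
  · exact absurd (K.full2 hu1 hv1 h) hall
  refine ⟨?_, fun x hx hx' hx1 => hall (K.full3 hu1 hv1 hx1 (h' x hx hx'))⟩
  have key : ∀ j, χ (sr j) ^ q ^ 2 * (χ (sr j) ^ q) ^ ε * χ (sr j) = 1 := by
    intro j
    obtain ⟨c, -, d, -, e⟩ := h j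
    have h4 : χ ((u.sm c).add (v.sm d)).fn = 1 := K.add _ _ (K.sm _ _ hu1) (K.sm _ _ hv1)
    rw [← e, chi_add hχ, chi_add hχ, h2, fn_sm, hχ.zsmul, hR, fn_bas] at h4
    exact h4
  simp only [List.mem_cons, List.not_mem_nil, or_false] at hε
  rcases hε with rfl | rfl
  · left
    intro j
    have h4 := key j
    rwa [zpow_one] at h4
  · right
    intro j
    have h4 := key j
    rw [zpow_neg, zpow_one] at h4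
    have h5 : χ (sr j) ^ q ≠ 0 := pow_ne_zero _ (hχ.ne_zero _)
    field_simp at h4
    exact h4

end Char

/-! ### unipotent elements -/

section Unip

variable {k : Type u} [Field k] (hk : LocFin k) (p : ℕ) [Fact p.Prime] [CharP k p]

/-- the positive roots of height at least `n` -/
def Hn (n : ℤ) : Set (Fin 4 → ℤ) := {x | IsRoot cs RGDTwD4.hp.isCartan x ∧ 0 ≤ x ∧ n ≤ Tits.Roots.ht x}

theorem Hn_empty {n : ℤ} (hn : 5 < n) : Hn cs n = ∅ := by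
  rw [Set.eq_empty_iff_forall_notMem]
  rintro x ⟨hx, h0, h1⟩
  obtain ⟨v, hv, rfl⟩ := mem_pos cs hx h0
  rw [ht_fn] at h1
  have := ht_le v hv
  omega

theorem sl_D4 [Finite W] : KFacts.RgdSL.SL cs RGDTwD4.hp.isCartan :=
  KFacts.RgdKap.sl_of (fun i j => by fin_cases i <;> fin_cases j <;> decide)
    (fun i j => by fin_cases i <;> fin_cases j <;> decide)

theorem Sup_empty {Y : Type*} [Group Y] (X : (Fin 4 → ℤ) → Subgroup Y) : RGD.Sup X (∅ : Set (Fin 4 → ℤ)) = ⊥ := by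
  rw [eq_bot_iff]
  exact RGD.Sup_le fun a ha => absurd ha (Set.notMem_empty a)

variable {x : ↥(chevD4.group k)}

include hk p

theorem comm_Hn [Finite W] {m n : ℤ} {a b : Fin 4 → ℤ} (ha : a ∈ Hn cs m) (hb : b ∈ Hn cs n)
    {x y : ↥(chevD4.group k)} (hx : x ∈ XX chevD4 4 k a) (hy : y ∈ XX chevD4 4 k b) {l : ℤ} (hl : l ≤ m + n) :
    ⁅x, y⁆ ∈ RGD.Sup (XX chevD4 4 k) (Hn cs l) := by
  refine NilExp.comm_pos RGDTwD4.hp cs (sl_D4 cs) hk p (S := Hn cs l) ha.1 ha.2.1 hb.1 hb.2.1 (fun h => ⟨h, ?_, ?_⟩) hx hy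
  · exact add_nonneg ha.2.1 hb.2.1
  · rw [RGD.ht_add]
    have := ha.2.2
    have := hb.2.2
    omega

/-- squares -/
theorem sq_Hn [Finite W] (h2 : p = 2) {n : ℤ} (hn : 0 ≤ n) (hx : x ∈ RGD.Sup (XX chevD4 4 k) (Hn cs n)) :
    x ^ 2 ∈ RGD.Sup (XX chevD4 4 k) (Hn cs (2 * n)) := by
  subst h2
  refine NilExp.pow_mem (S := Hn cs n) (S' := Hn cs (2 * n)) ?_ ?_ ?_ hx
  · rintro a ⟨h1, h2, h3⟩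
    exact ⟨h1, h2, by omega⟩
  · intro a ha b hb y hy z hz
    exact comm_Hn cs hk 2 ha hb hy hz (by omega)
  · intro a ha y hy
    exact NilExp.pow_root RGDTwD4.hp cs hk 2 ha.1 hy

/-- cubes -/
theorem cube_Hn [Finite W] (h3 : p = 3) {n : ℤ} (hn : 0 ≤ n) (hx : x ∈ RGD.Sup (XX chevD4 4 k) (Hn cs n)) :
    x ^ 3 ∈ RGD.Sup (XX chevD4 4 k) (Hn cs (3 * n)) := by
  subst h3
  refine NilExp.cube_mem (S := Hn cs n) (S₁ := Hn cs (2 * n)) (S' := Hn cs (3 * n)) ?_ ?_ ?_ ?_ ?_ hx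
  · rintro a ⟨h1, h2, h3⟩
    exact ⟨h1, h2, by omega⟩
  · rintro a ⟨h1, h2, h3⟩
    exact ⟨h1, h2, by omega⟩
  · intro a ha b hb y hy z hz
    exact comm_Hn cs hk 3 ha hb hy hz (by omega)
  · intro a ha b hb y hy z hz
    exact comm_Hn cs hk 3 ha hb hy hz (by omega)
  · intro a ha y hy
    exact NilExp.pow_root RGDTwD4.hp cs hk 3 ha.1 hy

/-- the elements of `U` -/
theorem U_exp [Finite W] (hx : x ∈ RGD.Sup (XX chevD4 4 k) (Hn cs 1)) :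
    (p = 2 → x ^ 8 = 1) ∧ (p = 3 → x ^ 9 = 1) := by
  constructor
  · intro h2
    have h3 := sq_Hn cs hk p h2 (by norm_num) (sq_Hn cs hk p h2 (by norm_num) (sq_Hn cs hk p h2 (by norm_num) hx))
    rw [Hn_empty cs (by norm_num), Sup_empty, Subgroup.mem_bot, ← pow_mul, ← pow_mul] at h3
    exact h3
  · intro h2
    have h3 := cube_Hn cs hk p h2 (by norm_num) (cube_Hn cs hk p h2 (by norm_num) hx)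
    rw [Hn_empty cs (by norm_num), Sup_empty, Subgroup.mem_bot, ← pow_mul] at h3
    exact h3

/-- no sums -/
theorem exp_one [Finite W] {S : Set (Fin 4 → ℤ)} (hS : ∀ a ∈ S, IsRoot cs RGDTwD4.hp.isCartan a ∧ 0 ≤ a)
    (hsum : ∀ a ∈ S, ∀ b ∈ S, ¬ IsRoot cs RGDTwD4.hp.isCartan (a + b)) (hx : x ∈ RGD.Sup (XX chevD4 4 k) S) :
    x ^ p = 1 := by
  have h1 := NilExp.pow_mem (S := S) (S' := ∅) (X := XX chevD4 4 k) (Set.empty_subset _)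
    (fun a ha b hb y hy z hz => NilExp.comm_pos RGDTwD4.hp cs (sl_D4 cs) hk p (hS a ha).1 (hS a ha).2 (hS b hb).1
      (hS b hb).2 (fun h => absurd h (hsum a ha b hb)) hy hz)
    (fun a ha y hy => NilExp.pow_root RGDTwD4.hp cs hk p (hS a ha).1 hy) hx
  rwa [Sup_empty, Subgroup.mem_bot] at h1

/-- no sums of three roots -/
theorem exp_two [Finite W] {S : Set (Fin 4 → ℤ)} (hS : ∀ a ∈ S, IsRoot cs RGDTwD4.hp.isCartan a ∧ 0 ≤ a)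
    (hcl : ∀ a ∈ S, ∀ b ∈ S, IsRoot cs RGDTwD4.hp.isCartan (a + b) → a + b ∈ S)
    (hsum : ∀ a ∈ S, ∀ b ∈ S, ∀ c ∈ S, IsRoot cs RGDTwD4.hp.isCartan (a + b) →
      ¬ IsRoot cs RGDTwD4.hp.isCartan (a + b + c)) (hx : x ∈ RGD.Sup (XX chevD4 4 k) S) :
    (p = 2 → x ^ 4 = 1) ∧ (p = 3 → x ^ 3 = 1) := by
  set S₁ : Set (Fin 4 → ℤ) := {z | z ∈ S ∧ ∃ a ∈ S, ∃ b ∈ S, z = a + b} with hS₁
  have hle : S₁ ⊆ S := fun z hz => hz.1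
  have hc : ∀ a ∈ S, ∀ b ∈ S, ∀ y ∈ XX chevD4 4 k a, ∀ z ∈ XX chevD4 4 k b,
      ⁅y, z⁆ ∈ RGD.Sup (XX chevD4 4 k) S₁ := fun a ha b hb y hy z hz =>
    NilExp.comm_pos RGDTwD4.hp cs (sl_D4 cs) hk p (S := S₁) (hS a ha).1 (hS a ha).2 (hS b hb).1 (hS b hb).2
      (fun h => ⟨hcl a ha b hb h, a, ha, b, hb, rfl⟩) hy hz
  have hc' : ∀ a ∈ S₁, ∀ b ∈ S, ∀ y ∈ XX chevD4 4 k a, ∀ z ∈ XX chevD4 4 k b,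
      ⁅y, z⁆ ∈ RGD.Sup (XX chevD4 4 k) (∅ : Set (Fin 4 → ℤ)) := fun a ha b hb y hy z hz =>
    NilExp.comm_pos RGDTwD4.hp cs (sl_D4 cs) hk p (hS a ha.1).1 (hS a ha.1).2 (hS b hb).1 (hS b hb).2
      (fun h => by
        obtain ⟨haS, c, hc, d, hd, rfl⟩ := ha
        exact absurd h (hsum c hc d hd b hb (hS _ haS).1)) hy hz
  constructor
  · rintro rfl
    have h1 := NilExp.pow_mem hle hc (p := 2)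
      (fun a ha y hy => NilExp.pow_root RGDTwD4.hp cs hk 2 (hS a ha).1 hy) hx
    have h2 := NilExp.pow_mem (Set.empty_subset S₁) (fun a ha b hb => hc' a ha b hb.1) (p := 2)
      (fun a ha y hy => NilExp.pow_root RGDTwD4.hp cs hk 2 (hS a ha.1).1 hy) h1
    rw [Sup_empty, Subgroup.mem_bot, ← pow_mul] at h2
    exact h2
  · rintro rfl
    have h1 := NilExp.cube_mem hle (Set.empty_subset S₁) hc hc'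
      (fun a ha y hy => NilExp.pow_root RGDTwD4.hp cs hk 3 (hS a ha).1 hy) hx
    rwa [Sup_empty, Subgroup.mem_bot] at h1

end Unip

/-! ### the main theorem -/

section Main

variable {k : Type u} [Field k] [IsAlgClosed k] (hk : LocFin k) {p e : ℕ} [Fact p.Prime] [CharP k p]

theorem fr_conj_tau [Finite W] (hk : LocFin k) {hN : NSys coxeterD4 (TT chevD4 k) (nc RGDTwD4.hp k)} {w : W}
    {n t : ↥(chevD4.group k)} (hn : Rp cs hN w n) (ht : t ∈ TT chevD4 k) (hnt : n * tau k p e t * n⁻¹ = t)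
    (x : Fin 4 → ℤ) :
    cX RGDTwD4.hp t (rep cs RGDTwD4.hp.isCartan w (tri x)) = cX RGDTwD4.hp t x ^ p ^ e := by
  have F1 := H720.TorusReal.fr_conj RGDTwD4.hp cs hk p hn
  have F2 : Fr cs RGDTwD4.hp.isCartan (TT chevD4 k) (XX chevD4 4 k) (MulAut.conj n * tau k p e)
      (tri.trans (repAut cs RGDTwD4.hp.isCartan w)) := F1.mul (fr_tau cs)
  have h1 := cX_sigma RGDTwD4.hp cs ((isFrob_tau (k := k) (p := p) (e := e)).conj_mul n) F2 ht x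
  have h2 : (MulAut.conj n * tau k p e) t = t := hnt
  rw [h2] at h1
  exact h1

/-- **Pairs of commuting elements.** -/
theorem main (hk : LocFin k) (hka : BpExc.TorAll.HAlg p k) {s u : ↥(chevD4.group k)} (hσs : tau k p e s = s)
    (hsu : u * s = s * u) {m : ℕ} (hm : m ≠ 0) (hmp : m.Coprime p) (hsm : s ^ m = 1) {j : ℕ} (huj : u ^ p ^ j = 1) :
    (u = 1 ∧ (s ^ ((p ^ e) ^ 4 + (p ^ e) ^ 3) = s ^ (p ^ e + 1) ∨ s ^ ((p ^ e) ^ 4 + p ^ e) = s ^ ((p ^ e) ^ 3 + 1) ∨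
      s ^ ((p ^ e) ^ 4 + 1) = s ^ (p ^ e) ^ 2)) ∨
    (s = 1 ∧ (p = 2 → u ^ 8 = 1) ∧ (p = 3 → u ^ 9 = 1)) ∨
    (u ^ p = 1 ∧ (s ^ (p ^ e) ^ 3 = s ∨ s ^ ((p ^ e) ^ 3 + 1) = 1)) ∨
    (((p = 2 → u ^ 4 = 1) ∧ (p = 3 → u ^ 3 = 1)) ∧
      (s ^ ((p ^ e) ^ 2 + p ^ e + 1) = 1 ∨ s ^ ((p ^ e) ^ 2 + 1) = s ^ p ^ e)) := by
  set cs := coxeterD4.toCoxeterSystem
  have hfin := finite_W RGDTwD4.hp cs
  have H := tow (k := k) RGDTwD4.hp cs hk p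
  have hN : NSys coxeterD4 (TT chevD4 k) (nc RGDTwD4.hp k) := by
    have h1 := H.nsys
    rwa [TL_eq RGDTwD4.hp hk] at h1
  obtain ⟨z₁, t, n, w, hx, ht, hn, hnt⟩ := H720.TorusReal.exists_toral RGDTwD4.hp cs hka hk (fr_tau cs) hN hσs hm hmp
    hsm
  have hchi := fr_conj_tau cs hk hn ht hnt
  obtain ⟨v, i, hi⟩ := exists_conj_rep cs w
  obtain ⟨g, hg⟩ := exists_rp cs hN v
  set t' := g * t * g⁻¹ with ht'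
  have htT : t' ∈ TT chevD4 k := (Subgroup.mem_normalizer_iff.1 hg.mem_normalizer t).1 ht
  have hR : ∀ y : V, cX RGDTwD4.hp t' ((reps i).ap y).fn = cX RGDTwD4.hp t' y.fn ^ p ^ e := by
    intro y
    have h1 := hi y
    rw [← h1]
    show cX RGDTwD4.hp t' (rep cs RGDTwD4.hp.isCartan v
      (rep cs RGDTwD4.hp.isCartan w (tri (rep cs RGDTwD4.hp.isCartan v⁻¹ y.fn)))) = _
    rw [ht', cX_rp RGDTwD4.hp cs hk p hg ht, hchi, ← cX_rp RGDTwD4.hp cs hk p hg ht, rep_apply_inv]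
  have hmc := isMC_cX RGDTwD4.hp htT
  set z := z₁ * g⁻¹ with hz
  have hs : s = z * t' * z⁻¹ := by rw [hx, ht', hz]; group
  have hpow : ∀ a b : ℕ, (∀ j, cX RGDTwD4.hp t' (sr j) ^ a = cX RGDTwD4.hp t' (sr j) ^ b) → s ^ a = s ^ b := by
    intro a b h1
    have h2 : t' ^ a = t' ^ b := cX_inj RGDTwD4.hp (pow_mem htT a) (pow_mem htT b) fun j => by
      rw [cX_pow RGDTwD4.hp htT, cX_pow RGDTwD4.hp htT, h1]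
    have h3 : ∀ n : ℕ, s ^ n = z * t' ^ n * z⁻¹ := fun n => by rw [hs]; exact conj_pow
    rw [h3, h3, h2]
  obtain ⟨g₂, hg₂, hU⟩ := UnipCent.exists_conj RGDTwD4.hp cs hk (p := p) htT (u := z⁻¹ * u * z) (j := j) (by
      have h1 : t' = z⁻¹ * s * z := by rw [hs]; group
      rw [h1]
      calc z⁻¹ * u * z * (z⁻¹ * s * z) = z⁻¹ * (u * s) * z := by group
        _ = z⁻¹ * (s * u) * z := by rw [hsu]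
        _ = _ := by group) (by
      have h1 := conj_pow (a := z⁻¹) (b := u) (i := p ^ j)
      rw [inv_inv] at h1
      rw [h1, huj]; group)
  set u' := g₂ * (z⁻¹ * u * z) * g₂⁻¹ with hu'
  have hupow : ∀ a : ℕ, u' ^ a = 1 → u ^ a = 1 := by
    intro a h1
    have h2 : u = (g₂ * z⁻¹)⁻¹ * u' * (g₂ * z⁻¹) := by rw [hu']; group
    have h3 := conj_pow (a := (g₂ * z⁻¹)⁻¹) (b := u') (i := a)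
    rw [inv_inv] at h3
    rw [h2, h3, h1]; group
  set S := SP (Sx cs RGDTwD4.hp.isCartan (ch RGDTwD4.hp) t') with hS
  have hSr : ∀ a ∈ S, IsRoot cs RGDTwD4.hp.isCartan a ∧ 0 ≤ a := fun a ha => ⟨ha.1.1, ha.2⟩
  have hSv : ∀ a ∈ S, ∃ y ∈ pos, y.fn = a ∧ cX RGDTwD4.hp t' y.fn = 1 := by
    intro a ha
    obtain ⟨y, hy, e⟩ := mem_pos cs ha.1.1 ha.2
    exact ⟨y, hy, e, by rw [e, cX_root RGDTwD4.hp cs htT ha.1.1]; exact ha.1.2⟩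
  have hadd : ∀ {x y : V}, x ∈ pos → y ∈ pos → 0 ≤ x.fn → 0 ≤ y.fn →
      IsRoot cs RGDTwD4.hp.isCartan (x.fn + y.fn) → x.add y ∈ pos := by
    intro x y hx hy h0 h0' h1
    obtain ⟨w', hw', e⟩ := mem_pos cs h1 (add_nonneg h0 h0')
    have h2 : w' = x.add y := fn_inj (by rw [e, fn_add])
    rwa [h2] at hw'
  by_cases hne : S = ∅
  · -- no roots
    left
    rw [hne, Sup_empty, Subgroup.mem_bot] at hU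
    refine ⟨by simpa using hupow 1 (by rw [pow_one]; exact hU), ?_⟩
    rcases c0' hmc hR with h | h | h
    · left
      refine hpow _ _ fun j => ?_
      rw [pow_add, pow_add, pow_one]
      exact h j
    · right; left
      refine hpow _ _ fun j => ?_
      rw [pow_add, pow_add, pow_one]
      exact h j
    · right; right
      refine hpow _ _ fun j => ?_
      rw [pow_add, pow_one]
      exact h j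
  obtain ⟨a₀, ha₀⟩ := Set.nonempty_iff_ne_empty.2 hne
  by_cases hsum : ∃ a ∈ S, ∃ b ∈ S, IsRoot cs RGDTwD4.hp.isCartan (a + b)
  · -- sums
    by_cases hall : ∀ y : V, cX RGDTwD4.hp t' y.fn = 1
    · right; left
      have ht1 : t' = 1 := cX_inj RGDTwD4.hp htT (one_mem _) fun j => by
        rw [cX_one, ← fn_bas]; exact hall _
      refine ⟨by rw [hs, ht1]; group, ?_⟩
      have h1 : u' ∈ RGD.Sup (XX chevD4 4 k) (Hn cs 1) := by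
        refine RGD.Sup_mono (S := S) ?_ hU
        intro a ha
        refine ⟨ha.1.1, ha.2, ?_⟩
        have := RGD.ht_pos ha.1.1 ha.2
        omega
      have h2 := U_exp cs hk p h1
      exact ⟨fun h => hupow 8 (h2.1 h), fun h => hupow 9 (h2.2 h)⟩
    · right; right; right
      have key : ∀ a ∈ S, ∀ b ∈ S, IsRoot cs RGDTwD4.hp.isCartan (a + b) →
          ((∀ j, cX RGDTwD4.hp t' (sr j) ^ (p ^ e) ^ 2 * cX RGDTwD4.hp t' (sr j) ^ p ^ e *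
            cX RGDTwD4.hp t' (sr j) = 1) ∨ (∀ j, cX RGDTwD4.hp t' (sr j) ^ (p ^ e) ^ 2 * cX RGDTwD4.hp t' (sr j) =
              cX RGDTwD4.hp t' (sr j) ^ p ^ e)) ∧
            ∀ c ∈ S, ¬ IsRoot cs RGDTwD4.hp.isCartan (a + b + c) := by
        intro a ha b hb hab
        obtain ⟨x, hx, ex, hx1⟩ := hSv a ha
        obtain ⟨y, hy, ey, hy1⟩ := hSv b hb
        have hxy : x.add y ∈ pos := hadd hx hy (by rw [ex]; exact ha.2) (by rw [ey]; exact hb.2)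
          (by rw [ex, ey]; exact hab)
        rcases c2' hmc hR hx hy hxy hx1 hy1 with h | ⟨h, h'⟩
        · exact absurd h hall
        refine ⟨h, fun c hc habc => ?_⟩
        obtain ⟨w', hw', ew, hw1⟩ := hSv c hc
        refine h' w' hw' ?_ hw1
        refine hadd hxy hw' ?_ (by rw [ew]; exact hc.2) ?_
        · rw [fn_add, ex, ey]; exact add_nonneg ha.2 hb.2
        · rw [fn_add, ex, ey, ew]; exact habc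
      obtain ⟨a, ha, b, hb, hab⟩ := hsum
      have hcl : ∀ a ∈ S, ∀ b ∈ S, IsRoot cs RGDTwD4.hp.isCartan (a + b) → a + b ∈ S := by
        intro a ha b hb hab
        refine ⟨⟨hab, ?_⟩, add_nonneg ha.2 hb.2⟩
        rw [← cX_root RGDTwD4.hp cs htT hab, hmc.add, cX_root RGDTwD4.hp cs htT ha.1.1,
          cX_root RGDTwD4.hp cs htT hb.1.1, ha.1.2, hb.1.2, one_mul]
      have h2 := exp_two cs hk p hSr hcl (fun a ha b hb c hc hab => (key a ha b hb hab).2 c hc) hU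
      refine ⟨⟨fun h => hupow 4 (h2.1 h), fun h => hupow 3 (h2.2 h)⟩, ?_⟩
      rcases (key a ha b hb hab).1 with h | h
      · left
        have h3 := hpow ((p ^ e) ^ 2 + p ^ e + 1) 0 fun j => by
          rw [pow_add, pow_add, pow_one, pow_zero]
          exact h j
        rwa [pow_zero] at h3
      · right
        refine hpow _ _ fun j => ?_
        rw [pow_add, pow_one]
        exact h j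
  · -- no sums
    right; right; left
    push Not at hsum
    refine ⟨hupow p (exp_one cs hk p hSr hsum hU), ?_⟩
    obtain ⟨x, hx, -, hx1⟩ := hSv a₀ ha₀
    rcases c1' hmc hR hx hx1 with h | h
    · left
      have h3 := hpow ((p ^ e) ^ 3) 1 fun j => by
        rw [pow_one]
        exact h j
      rwa [pow_one] at h3
    · right
      have h3 := hpow ((p ^ e) ^ 3 + 1) 0 fun j => by
        rw [pow_add, pow_one, pow_zero]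
        exact h j
      rwa [pow_zero] at h3

end Main

end Cfsg.Agent.H378.OmD4
end

private theorem dce_1ca734a5389a : _root_.True := by
  try have : _root_.True := by simp only [_root_.Cfsg.Agent.H378.OmD4.det3.eq_1]
  try have : _root_.True := by simp only [_root_.Cfsg.Agent.H378.OmD4.V.add.eq_1]
  try have : _root_.True := by simp only [_root_.Cfsg.Agent.H378.OmD4.Mx.ap.eq_1]
  try have : _root_.True := by simp only [_root_.Cfsg.Agent.H378.OmD4.Mx.mul.eq_1]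
  try have : _root_.True := by simp only [_root_.Cfsg.Agent.H378.OmD4.bas.eq_4]
  try have : _root_.True := by simp only [_root_.Cfsg.Agent.H378.OmD4.refl.eq_1]
  try have : _root_.True := by simp only [_root_.Cfsg.Agent.H378.OmD4.bas.eq_2]
  try have : _root_.True := by simp only [_root_.Cfsg.Agent.H378.OmD4.V.fn.eq_1]
  try have : _root_.True := by simp only [_root_.Cfsg.Agent.H378.OmD4.V.sm.eq_1]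
  try have : _root_.True := by simp only [_root_.Cfsg.Agent.H378.OmD4.refl.eq_4]
  try have : _root_.True := by simp only [_root_.Cfsg.Agent.H378.OmD4.refl.eq_2]
  try have : _root_.True := by simp only [_root_.Cfsg.Agent.Tits.Roots.ht.eq_1]
  try have : _root_.True := by simp only [_root_.Cfsg.Agent.H378.OmD4.refl.eq_3]
  try have : _root_.True := by simp only [_root_.Cfsg.Agent.H378.OmD4.det4.eq_1]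
  try have : _root_.True := by simp only [_root_.Cfsg.Agent.H378.OmD4.T.eq_1]
  try have : _root_.True := by simp only [_root_.Cfsg.Agent.H378.OmD4.bas.eq_1]
  try have : _root_.True := by simp only [_root_.Cfsg.Agent.H378.OmD4.bas.eq_3]
  exact _root_.True.intro
end

-- part: H378/OmD4
section
set_option linter.all false
open scoped Cfsg.Agent.FastGrp

/-!
# The element orders of `³D₄(q)`, `q` a power of 2 or 3 (helper378)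

* `om_3D4` : the order of every element of `³D₄(q)` divides one of the numbers in `Om p q`.
-/

set_option autoImplicit false
set_option linter.unusedSectionVars false

namespace Cfsg.Agent.H378.OmD4

open Cfsg Cfsg.Lie Cfsg.Lie.ChevalleyDatum
open Cfsg.Agent.H129.TriD4
open Cfsg.Agent.H135.TD

universe u

theorem dvd_of_pow_eq {G : Type*} [Group G] {s : G} {A B C : ℕ} (h : s ^ A = s ^ B) (e : A = B + C) :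
    orderOf s ∣ C := by
  rw [e, pow_add] at h
  exact orderOf_dvd_of_pow_eq_one (mul_eq_left.1 h)

/-- **The spectrum of `³D₄(q)`.** -/
theorem om_3D4 {K : Type u} [Field K] [Fintype K] {p q : ℕ} (h : Par p q) (hK : Fintype.card K = q ^ 3)
    [CharP K p] (g : ↥(twistedD4 K q)) : Om p q (orderOf g) := by
  obtain ⟨k, _, _, f, p', _, hC, _, hk, hka, -, -⟩ := TorFin.exists_closure K
  have hpp : p' = p := by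
    have h1 : CharP k p := charP_of_injective_ringHom f.injective p
    exact CharP.eq k hC h1
  subst hpp
  obtain ⟨e, he, hqe⟩ := h.hk
  have hp : p'.Prime := h.prime
  set a := embT (k := k) f h.isPrimePow hK g with ha
  have hσa : tau k p' e a = a := tau_embT f hqe h.isPrimePow hK g
  have hoa : orderOf a = orderOf g := orderOf_injective _ (embT_injective f h.isPrimePow hK) g
  have hn0 : orderOf g ≠ 0 := (orderOf_pos g).ne'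
  obtain ⟨j, m, hpm, hn⟩ := Nat.exists_eq_pow_mul_and_not_dvd hn0 p' hp.ne_one
  have hm0 : m ≠ 0 := by
    rintro rfl
    rw [mul_zero] at hn
    exact hn0 hn
  have hpj : 0 < p' ^ j := pow_pos hp.pos j
  have hos : orderOf (a ^ p' ^ j) = m := by
    rw [orderOf_pow' _ hpj.ne', hoa, hn, Nat.gcd_mul_right_left, Nat.mul_div_cancel_left _ hpj]
  have hou : orderOf (a ^ m) = p' ^ j := by
    rw [orderOf_pow' _ hm0, hoa, hn, Nat.gcd_mul_left_left, Nat.mul_div_cancel _ (Nat.pos_of_ne_zero hm0)]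
  have hmp : m.Coprime p' := ((Nat.Prime.coprime_iff_not_dvd hp).2 hpm).symm
  have key := main (k := k) (p := p') (e := e) hk hka (s := a ^ p' ^ j) (u := a ^ m) (by rw [map_pow, hσa])
    (by rw [← pow_add, ← pow_add, add_comm]) hm0 hmp
    (by rw [← pow_mul, ← hn, ← hoa, pow_orderOf_eq_one]) (j := j)
    (by rw [← pow_mul, mul_comm, ← hn, ← hoa, pow_orderOf_eq_one])
  rw [← hqe] at key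
  obtain ⟨c, hc⟩ := h.exists_add
  have e1 : q ^ 4 + q ^ 3 = (q + 1) + (q ^ 3 - 1) * (q + 1) := by
    obtain ⟨d, hd⟩ : ∃ d, q ^ 3 = d + 1 := ⟨q ^ 3 - 1, by have := Nat.one_le_pow 3 q (by omega); omega⟩
    rw [show q ^ 4 = q ^ 3 * q by ring, hd, Nat.add_sub_cancel]; ring
  have e2 : q ^ 4 + q = (q ^ 3 + 1) + (q ^ 3 + 1) * (q - 1) := by
    rw [hc, show c + 3 - 1 = c + 2 by omega]; ring
  have e3 : q ^ 4 + 1 = q ^ 2 + mm q := by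
    unfold mm
    have : q ^ 2 ≤ q ^ 4 := Nat.pow_le_pow_right (by omega) (by norm_num)
    omega
  have e4 : q ^ 2 + 1 = q + (q ^ 2 - q + 1) := by
    have : q ≤ q ^ 2 := by nlinarith
    omega
  have e5 : q ^ 3 = 1 + (q ^ 3 - 1) := by
    have := Nat.one_le_pow 3 q (by omega)
    omega
  have e6 : q ^ 3 - 1 = (q ^ 2 + q + 1) * (q - 1) := by
    rw [hc, show c + 3 - 1 = c + 2 by omega]
    apply Nat.sub_eq_of_eq_add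
    ring
  have e7 : q ^ 3 + 1 = (q ^ 2 - q + 1) * (q + 1) := by
    have e8 : q ^ 2 - q = q * (q - 1) := by rw [Nat.mul_sub, mul_one, pow_two]
    rw [e8, hc, show c + 3 - 1 = c + 2 by omega]
    ring
  rcases key with ⟨hu, hs⟩ | ⟨hs, hu2, hu3⟩ | ⟨hu, hs⟩ | ⟨⟨hu2, hu3⟩, hs⟩
  · -- semisimple elements
    rw [hu, orderOf_one] at hou
    rw [hn, ← hou, one_mul, ← hos]
    rcases hs with hs | hs | hs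
    · exact Or.inr (Or.inl (dvd_of_pow_eq hs e1))
    · exact Or.inr (Or.inr (Or.inl (dvd_of_pow_eq hs e2)))
    · exact Or.inl (dvd_of_pow_eq hs e3)
  · -- unipotent elements
    rw [hs, orderOf_one] at hos
    rw [hn, ← hos, mul_one, ← hou]
    rcases h.hp with hp2 | hp3
    · exact Or.inr (Or.inr (Or.inr (Or.inl ⟨hp2, Or.inl (orderOf_dvd_of_pow_eq_one (hu2 hp2))⟩)))
    · exact Or.inr (Or.inr (Or.inr (Or.inr ⟨hp3, Or.inl (orderOf_dvd_of_pow_eq_one (hu3 hp3))⟩)))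
  · have h1 : p' ^ j ∣ p' := hou ▸ orderOf_dvd_of_pow_eq_one hu
    rcases hs with hs | hs
    · have h2 : m ∣ q ^ 3 - 1 := hos ▸ dvd_of_pow_eq (B := 1) (by rw [pow_one]; exact hs) e5
      rw [hn]
      rcases h.hp with hp2 | hp3
      · refine Or.inr (Or.inr (Or.inr (Or.inl ⟨hp2, Or.inr (Or.inr (Or.inr (Or.inl ?_)))⟩)))
        exact mul_dvd_mul (h1.trans (by rw [hp2])) h2
      · refine Or.inr (Or.inr (Or.inr (Or.inr ⟨hp3, Or.inr (Or.inl ?_)⟩)))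
        exact mul_dvd_mul (h1.trans (by rw [hp3])) h2
    · have h2 : m ∣ q ^ 3 + 1 := hos ▸ orderOf_dvd_of_pow_eq_one hs
      rw [hn]
      rcases h.hp with hp2 | hp3
      · refine Or.inr (Or.inr (Or.inr (Or.inl ⟨hp2, Or.inr (Or.inr (Or.inr (Or.inr ?_)))⟩)))
        exact mul_dvd_mul (h1.trans (by rw [hp2])) h2
      · refine Or.inr (Or.inr (Or.inr (Or.inr ⟨hp3, Or.inr (Or.inr ?_)⟩)))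
        exact mul_dvd_mul (h1.trans (by rw [hp3])) h2
  · rcases hs with hs | hs
    · have h2 : m ∣ q ^ 2 + q + 1 := hos ▸ orderOf_dvd_of_pow_eq_one hs
      rw [hn]
      rcases h.hp with hp2 | hp3
      · refine Or.inr (Or.inr (Or.inr (Or.inl ⟨hp2, Or.inr (Or.inl ?_)⟩)))
        exact mul_dvd_mul (hou ▸ orderOf_dvd_of_pow_eq_one (hu2 hp2)) h2
      · refine Or.inr (Or.inr (Or.inr (Or.inr ⟨hp3, Or.inr (Or.inl ?_)⟩)))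
        exact mul_dvd_mul (hou ▸ orderOf_dvd_of_pow_eq_one (hu3 hp3)) (h2.trans (e6 ▸ dvd_mul_right _ _))
    · have h2 : m ∣ q ^ 2 - q + 1 := hos ▸ dvd_of_pow_eq hs e4
      rw [hn]
      rcases h.hp with hp2 | hp3
      · refine Or.inr (Or.inr (Or.inr (Or.inl ⟨hp2, Or.inr (Or.inr (Or.inl ?_))⟩)))
        exact mul_dvd_mul (hou ▸ orderOf_dvd_of_pow_eq_one (hu2 hp2)) h2
      · refine Or.inr (Or.inr (Or.inr (Or.inr ⟨hp3, Or.inr (Or.inr ?_)⟩)))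
        exact mul_dvd_mul (hou ▸ orderOf_dvd_of_pow_eq_one (hu3 hp3)) (h2.trans (e7 ▸ dvd_mul_right _ _))

end Cfsg.Agent.H378.OmD4
end
end
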