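import Cfsg.Agent.H77.E4Poly_m3
import Cfsg.Agent.H493.EigFast
import Cfsg.Agent.H129.RootFast
import Cfsg.Agent.S1059
import Cfsg.Agent.S1062
import Cfsg.Agent.S1063
import Cfsg.Agent.S1064
import Cfsg.Agent.S1065
import Cfsg.Agent.H94.Sp.Base_m3
import Cfsg.Agent.H378.SmallTor_m3
import Cfsg.Agent.Nodes.NormX
import Cfsg.Agent.Lib.FinFast
import Cfsg.Agent.FastGrp
import Cfsg.Agent.Prune
set_option linter.all false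

section
prune_inst 0x7fb2fefbcff8a7ffffff7e7ffeddddfc1bd01fffa4dff94bffe8e3ff2bdfb3080dc5f38d8de010fe1ed6c2b418a87803fbffffffe86ffc7ffffdfff41ffbee1fe5ff350911d080240f746ffe9bf17f886f3fffffffffffffffffffffffffffbeffffffffffff

-- part: H378/AdjE8
section
set_option linter.all false
open scoped Cfsg.Agent.FastGrp
private noncomputable def lq26d5cc8c8c {T : Sort _} (f :
    type_of% (@_root_.Matrix.vecCons.{0}) →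
    type_of% (@_root_.Matrix.vecEmpty.{0}) →
    type_of% (@_root_.List.cons.{0}) →
    type_of% (@_root_.Prod.mk.{0, 0}) →
    type_of% (@_root_.List.nil.{0}) → T) : T :=
  f (@_root_.Matrix.vecCons.{0}) (@_root_.Matrix.vecEmpty.{0}) (@_root_.List.cons.{0}) (@_root_.Prod.mk.{0, 0}) (@_root_.List.nil.{0})

/-!
# Weyl group elements of type E8 (helper378)

`rowM` : a product of simple reflections fixing the highest root with the eigenvalue of order `M`;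
`torM_m` : a product of simple reflections with the eigenvalues of order `M` and `m`.
-/

set_option autoImplicit false

namespace Cfsg.Agent.H378.AdjE8

open Cfsg.Agent.H129.WData Cfsg.Agent.H378.AdjTab Cfsg.Agent.H378.CycTab Cfsg.Agent.H493.PGTorus
open Cfsg.Agent.ChevalleyStructure.CoxeterGeomTypes Cfsg.Agent.Nodes.RGDChev
open Cfsg.Lie Cfsg.Lie.ChevalleyDatum

/-- the Cartan matrix -/
def Am : Mat 8 := (beta% delta% lq26d5cc8c8c fun a b _ _ _ =>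
 (a (a 2<|a 0<|a (-1)<|a 0<|a 0<|a 0<|a 0<|a 0<|b)<|
 a (a 0<|a 2<|a 0<|a (-1)<|a 0<|a 0<|a 0<|a 0<|b)<|
 a (a (-1)<|a 0<|a 2<|a (-1)<|a 0<|a 0<|a 0<|a 0<|b)<|
 a (a 0<|a (-1)<|a (-1)<|a 2<|a (-1)<|a 0<|a 0<|a 0<|b)<|
 a (a 0<|a 0<|a 0<|a (-1)<|a 2<|a (-1)<|a 0<|a 0<|b)<|
 a (a 0<|a 0<|a 0<|a 0<|a (-1)<|a 2<|a (-1)<|a 0<|b)<|
 a (a 0<|a 0<|a 0<|a 0<|a 0<|a (-1)<|a 2<|a (-1)<|b)<|
 a (a 0<|a 0<|a 0<|a 0<|a 0<|a 0<|a (-1)<|a 2<|b)<|b))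

theorem hA : ∀ i j, Am i j = cartanOf chevE8 8 i j :=
  H129.RootF.cE8

/-- the highest root -/
def hi : Fin 8 → ℤ := ![2, 3, 4, 6, 5, 4, 3, 2]

theorem lt_nroots : 239 < chevE8.nroots := by decide +kernel

theorem vec_hi : vec chevE8 8 239 = hi := by
  have h : ∀ i : Fin 8, vec chevE8 8 239 i = hi i := by
    unfold vec
    decide +kernel
  exact funext h

theorem orth : SmallTor.Orth chevE8 8 0 0 6 where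
  hr := by decide +kernel
  hs := by decide +kernel
  zero := by decide +kernel
  odd := by decide +kernel

/-- the partial products -/
def L2 : List (Fin 8 × Mat 8) := (beta% delta% lq26d5cc8c8c fun a b c d e =>
 (c (d 0 (a (a (-1)<|a 0<|a 0<|a 0<|a 0<|a 0<|a 0<|a 0<|b)<|
 a (a 0<|a 1<|a 0<|a 0<|a 0<|a 0<|a 0<|a 0<|b)<|
 a (a 1<|a 0<|a 1<|a 0<|a 0<|a 0<|a 0<|a 0<|b)<|
 a (a 0<|a 0<|a 0<|a 1<|a 0<|a 0<|a 0<|a 0<|b)<|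
 a (a 0<|a 0<|a 0<|a 0<|a 1<|a 0<|a 0<|a 0<|b)<|
 a (a 0<|a 0<|a 0<|a 0<|a 0<|a 1<|a 0<|a 0<|b)<|
 a (a 0<|a 0<|a 0<|a 0<|a 0<|a 0<|a 1<|a 0<|b)<|
 a (a 0<|a 0<|a 0<|a 0<|a 0<|a 0<|a 0<|a 1<|b)<|b))<|e))

/-- the eigenvector -/
def V2 : Fin (0 + 1) → Fin 8 → ℤ := ![![1, 0, 0, 0, 0, 0, 0, 0]]

/-- the functional -/
def U2 : Fin 8 → ℤ := ![1, 0, 0, 0, 0, 0, 0, 0]

theorem row2 : RowOK Am L2 (vec chevE8 8 239) c2 V2 U2 := by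
  rw [vec_hi]
  exact ⟨H129.ChainF.ok H129.ChainF.i8 H129.ChainF.m8 (H129.ChainF.c8 <| H129.ChainF.nil) (by decide +kernel), by decide +kernel,
    H493.EigF.ok (H493.EigF.hT H493.EigF.t8) H493.EigF.r1 (H493.EigF.mc H493.EigF.r8 <| H493.EigF.m0) H493.EigF.r8 (by decide +kernel)⟩

/-- the partial products -/
def L3 : List (Fin 8 × Mat 8) := (beta% delta% lq26d5cc8c8c fun a b c d e =>
 (c (d 0 (a (a 0<|a 0<|a 1<|a 0<|a 0<|a 0<|a 0<|a 0<|b)<|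
 a (a 0<|a 1<|a 0<|a 0<|a 0<|a 0<|a 0<|a 0<|b)<|
 a (a (-1)<|a 0<|a (-1)<|a 0<|a 0<|a 0<|a 0<|a 0<|b)<|
 a (a 1<|a 0<|a 1<|a 1<|a 0<|a 0<|a 0<|a 0<|b)<|
 a (a 0<|a 0<|a 0<|a 0<|a 1<|a 0<|a 0<|a 0<|b)<|
 a (a 0<|a 0<|a 0<|a 0<|a 0<|a 1<|a 0<|a 0<|b)<|
 a (a 0<|a 0<|a 0<|a 0<|a 0<|a 0<|a 1<|a 0<|b)<|
 a (a 0<|a 0<|a 0<|a 0<|a 0<|a 0<|a 0<|a 1<|b)<|b))<|
 c (d 2 (a (a 1<|a 0<|a 1<|a 0<|a 0<|a 0<|a 0<|a 0<|b)<|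
 a (a 0<|a 1<|a 0<|a 0<|a 0<|a 0<|a 0<|a 0<|b)<|
 a (a 0<|a 0<|a (-1)<|a 0<|a 0<|a 0<|a 0<|a 0<|b)<|
 a (a 0<|a 0<|a 1<|a 1<|a 0<|a 0<|a 0<|a 0<|b)<|
 a (a 0<|a 0<|a 0<|a 0<|a 1<|a 0<|a 0<|a 0<|b)<|
 a (a 0<|a 0<|a 0<|a 0<|a 0<|a 1<|a 0<|a 0<|b)<|
 a (a 0<|a 0<|a 0<|a 0<|a 0<|a 0<|a 1<|a 0<|b)<|
 a (a 0<|a 0<|a 0<|a 0<|a 0<|a 0<|a 0<|a 1<|b)<|b))<|e))

/-- the eigenvector -/
def V3 : Fin (1 + 1) → Fin 8 → ℤ := (beta% delta% lq26d5cc8c8c fun a b _ _ _ =>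
 (a (a (-1)<|a 0<|a 0<|a 0<|a 0<|a 0<|a 0<|a 0<|b)<|
 a (a 0<|a 0<|a 1<|a 0<|a 0<|a 0<|a 0<|a 0<|b)<|b))

/-- the functional -/
def U3 : Fin 8 → ℤ := ![-1, 0, 0, 0, 0, 0, 0, 0]

theorem row3 : RowOK Am L3 (vec chevE8 8 239) c3 V3 U3 := by
  rw [vec_hi]
  exact ⟨H129.ChainF.ok H129.ChainF.i8 H129.ChainF.m8 (H129.ChainF.c8 <| H129.ChainF.c8 <| H129.ChainF.nil) (by decide +kernel), by decide +kernel,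
    H493.EigF.ok (H493.EigF.hT H493.EigF.t8) H493.EigF.r2 (H493.EigF.mc H493.EigF.r8 <| H493.EigF.mc H493.EigF.r8 <| H493.EigF.m0) H493.EigF.r8 (by decide +kernel)⟩

/-- the partial products -/
def L4 : List (Fin 8 × Mat 8) := (beta% delta% lq26d5cc8c8c fun a b c d e =>
 (c (d 0 (a (a 0<|a 0<|a 1<|a 0<|a 0<|a 0<|a 0<|a 0<|b)<|
 a (a 1<|a 1<|a 1<|a 1<|a 0<|a 0<|a 0<|a 0<|b)<|
 a (a 0<|a 0<|a 0<|a 1<|a 0<|a 0<|a 0<|a 0<|b)<|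
 a (a (-1)<|a 0<|a (-1)<|a (-1)<|a 0<|a 0<|a 0<|a 0<|b)<|
 a (a 1<|a 0<|a 1<|a 1<|a 1<|a 0<|a 0<|a 0<|b)<|
 a (a 0<|a 0<|a 0<|a 0<|a 0<|a 1<|a 0<|a 0<|b)<|
 a (a 0<|a 0<|a 0<|a 0<|a 0<|a 0<|a 1<|a 0<|b)<|
 a (a 0<|a 0<|a 0<|a 0<|a 0<|a 0<|a 0<|a 1<|b)<|b))<|
 c (d 2 (a (a 1<|a 0<|a 1<|a 0<|a 0<|a 0<|a 0<|a 0<|b)<|
 a (a 0<|a 1<|a 1<|a 1<|a 0<|a 0<|a 0<|a 0<|b)<|
 a (a 0<|a 0<|a 0<|a 1<|a 0<|a 0<|a 0<|a 0<|b)<|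
 a (a 0<|a 0<|a (-1)<|a (-1)<|a 0<|a 0<|a 0<|a 0<|b)<|
 a (a 0<|a 0<|a 1<|a 1<|a 1<|a 0<|a 0<|a 0<|b)<|
 a (a 0<|a 0<|a 0<|a 0<|a 0<|a 1<|a 0<|a 0<|b)<|
 a (a 0<|a 0<|a 0<|a 0<|a 0<|a 0<|a 1<|a 0<|b)<|
 a (a 0<|a 0<|a 0<|a 0<|a 0<|a 0<|a 0<|a 1<|b)<|b))<|
 c (d 3 (a (a 1<|a 0<|a 0<|a 0<|a 0<|a 0<|a 0<|a 0<|b)<|
 a (a 0<|a 1<|a 0<|a 1<|a 0<|a 0<|a 0<|a 0<|b)<|
 a (a 0<|a 0<|a 1<|a 1<|a 0<|a 0<|a 0<|a 0<|b)<|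
 a (a 0<|a 0<|a 0<|a (-1)<|a 0<|a 0<|a 0<|a 0<|b)<|
 a (a 0<|a 0<|a 0<|a 1<|a 1<|a 0<|a 0<|a 0<|b)<|
 a (a 0<|a 0<|a 0<|a 0<|a 0<|a 1<|a 0<|a 0<|b)<|
 a (a 0<|a 0<|a 0<|a 0<|a 0<|a 0<|a 1<|a 0<|b)<|
 a (a 0<|a 0<|a 0<|a 0<|a 0<|a 0<|a 0<|a 1<|b)<|b))<|e))

/-- the eigenvector -/
def V4 : Fin (1 + 1) → Fin 8 → ℤ := (beta% delta% lq26d5cc8c8c fun a b _ _ _ =>
 (a (a 1<|a 0<|a 1<|a 0<|a 0<|a 0<|a 0<|a 0<|b)<|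
 a (a 0<|a 0<|a (-1)<|a (-1)<|a 0<|a 0<|a 0<|a 0<|b)<|b))

/-- the functional -/
def U4 : Fin 8 → ℤ := ![1, 0, 0, 0, 0, 0, 0, 0]

theorem row4 : RowOK Am L4 (vec chevE8 8 239) c4 V4 U4 := by
  rw [vec_hi]
  exact ⟨H129.ChainF.ok H129.ChainF.i8 H129.ChainF.m8 (H129.ChainF.c8 <| H129.ChainF.c8 <| H129.ChainF.c8 <| H129.ChainF.nil) (by decide +kernel), by decide +kernel,
    H493.EigF.ok (H493.EigF.hT H493.EigF.t8) H493.EigF.r2 (H493.EigF.mc H493.EigF.r8 <| H493.EigF.mc H493.EigF.r8 <| H493.EigF.m0) H493.EigF.r8 (by decide +kernel)⟩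

/-- the partial products -/
def L5 : List (Fin 8 × Mat 8) := (beta% delta% lq26d5cc8c8c fun a b c d e =>
 (c (d 0 (a (a 0<|a 0<|a 1<|a 0<|a 0<|a 0<|a 0<|a 0<|b)<|
 a (a 1<|a 0<|a 1<|a 1<|a 0<|a 0<|a 0<|a 0<|b)<|
 a (a 0<|a 1<|a 0<|a 1<|a 0<|a 0<|a 0<|a 0<|b)<|
 a (a (-1)<|a (-1)<|a (-1)<|a (-1)<|a 0<|a 0<|a 0<|a 0<|b)<|
 a (a 1<|a 1<|a 1<|a 1<|a 1<|a 0<|a 0<|a 0<|b)<|
 a (a 0<|a 0<|a 0<|a 0<|a 0<|a 1<|a 0<|a 0<|b)<|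
 a (a 0<|a 0<|a 0<|a 0<|a 0<|a 0<|a 1<|a 0<|b)<|
 a (a 0<|a 0<|a 0<|a 0<|a 0<|a 0<|a 0<|a 1<|b)<|b))<|
 c (d 1 (a (a 1<|a 0<|a 1<|a 0<|a 0<|a 0<|a 0<|a 0<|b)<|
 a (a 0<|a 0<|a 1<|a 1<|a 0<|a 0<|a 0<|a 0<|b)<|
 a (a 0<|a 1<|a 0<|a 1<|a 0<|a 0<|a 0<|a 0<|b)<|
 a (a 0<|a (-1)<|a (-1)<|a (-1)<|a 0<|a 0<|a 0<|a 0<|b)<|
 a (a 0<|a 1<|a 1<|a 1<|a 1<|a 0<|a 0<|a 0<|b)<|
 a (a 0<|a 0<|a 0<|a 0<|a 0<|a 1<|a 0<|a 0<|b)<|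
 a (a 0<|a 0<|a 0<|a 0<|a 0<|a 0<|a 1<|a 0<|b)<|
 a (a 0<|a 0<|a 0<|a 0<|a 0<|a 0<|a 0<|a 1<|b)<|b))<|
 c (d 2 (a (a 1<|a 0<|a 1<|a 0<|a 0<|a 0<|a 0<|a 0<|b)<|
 a (a 0<|a 1<|a 1<|a 1<|a 0<|a 0<|a 0<|a 0<|b)<|
 a (a 0<|a 0<|a 0<|a 1<|a 0<|a 0<|a 0<|a 0<|b)<|
 a (a 0<|a 0<|a (-1)<|a (-1)<|a 0<|a 0<|a 0<|a 0<|b)<|
 a (a 0<|a 0<|a 1<|a 1<|a 1<|a 0<|a 0<|a 0<|b)<|
 a (a 0<|a 0<|a 0<|a 0<|a 0<|a 1<|a 0<|a 0<|b)<|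
 a (a 0<|a 0<|a 0<|a 0<|a 0<|a 0<|a 1<|a 0<|b)<|
 a (a 0<|a 0<|a 0<|a 0<|a 0<|a 0<|a 0<|a 1<|b)<|b))<|
 c (d 3 (a (a 1<|a 0<|a 0<|a 0<|a 0<|a 0<|a 0<|a 0<|b)<|
 a (a 0<|a 1<|a 0<|a 1<|a 0<|a 0<|a 0<|a 0<|b)<|
 a (a 0<|a 0<|a 1<|a 1<|a 0<|a 0<|a 0<|a 0<|b)<|
 a (a 0<|a 0<|a 0<|a (-1)<|a 0<|a 0<|a 0<|a 0<|b)<|
 a (a 0<|a 0<|a 0<|a 1<|a 1<|a 0<|a 0<|a 0<|b)<|
 a (a 0<|a 0<|a 0<|a 0<|a 0<|a 1<|a 0<|a 0<|b)<|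
 a (a 0<|a 0<|a 0<|a 0<|a 0<|a 0<|a 1<|a 0<|b)<|
 a (a 0<|a 0<|a 0<|a 0<|a 0<|a 0<|a 0<|a 1<|b)<|b))<|e))

/-- the eigenvector -/
def V5 : Fin (3 + 1) → Fin 8 → ℤ := (beta% delta% lq26d5cc8c8c fun a b _ _ _ =>
 (a (a (-1)<|a 0<|a 0<|a 0<|a 0<|a 0<|a 0<|a 0<|b)<|
 a (a 0<|a 0<|a 1<|a 1<|a 0<|a 0<|a 0<|a 0<|b)<|
 a (a 0<|a 1<|a 1<|a 1<|a 0<|a 0<|a 0<|a 0<|b)<|
 a (a 0<|a 0<|a 1<|a 0<|a 0<|a 0<|a 0<|a 0<|b)<|b))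

/-- the functional -/
def U5 : Fin 8 → ℤ := ![-1, 0, 0, 0, 0, 0, 0, 0]

theorem row5 : RowOK Am L5 (vec chevE8 8 239) c5 V5 U5 := by
  rw [vec_hi]
  exact ⟨H129.ChainF.ok H129.ChainF.i8 H129.ChainF.m8 (H129.ChainF.c8 <| H129.ChainF.c8 <| H129.ChainF.c8 <| H129.ChainF.c8 <| H129.ChainF.nil) (by decide +kernel), by decide +kernel,
    H493.EigF.ok (H493.EigF.hT H493.EigF.t8) H493.EigF.r4 (H493.EigF.mc H493.EigF.r8 <| H493.EigF.mc H493.EigF.r8 <| H493.EigF.mc H493.EigF.r8 <| H493.EigF.mc H493.EigF.r8 <| H493.EigF.m0) H493.EigF.r8 (by decide +kernel)⟩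

/-- the partial products -/
def L6 : List (Fin 8 × Mat 8) := (beta% delta% lq26d5cc8c8c fun a b c d e =>
 (c (d 1 (a (a 1<|a 0<|a 1<|a 0<|a 0<|a 0<|a 0<|a 0<|b)<|
 a (a 0<|a 0<|a 1<|a 1<|a 0<|a 0<|a 0<|a 0<|b)<|
 a (a 0<|a 1<|a 0<|a 1<|a 0<|a 0<|a 0<|a 0<|b)<|
 a (a 0<|a 0<|a 0<|a 0<|a 1<|a 0<|a 0<|a 0<|b)<|
 a (a 0<|a (-1)<|a (-1)<|a (-1)<|a (-1)<|a 0<|a 0<|a 0<|b)<|
 a (a 0<|a 1<|a 1<|a 1<|a 1<|a 1<|a 0<|a 0<|b)<|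
 a (a 0<|a 0<|a 0<|a 0<|a 0<|a 0<|a 1<|a 0<|b)<|
 a (a 0<|a 0<|a 0<|a 0<|a 0<|a 0<|a 0<|a 1<|b)<|b))<|
 c (d 2 (a (a 1<|a 0<|a 1<|a 0<|a 0<|a 0<|a 0<|a 0<|b)<|
 a (a 0<|a 1<|a 1<|a 1<|a 0<|a 0<|a 0<|a 0<|b)<|
 a (a 0<|a 0<|a 0<|a 1<|a 0<|a 0<|a 0<|a 0<|b)<|
 a (a 0<|a 0<|a 0<|a 0<|a 1<|a 0<|a 0<|a 0<|b)<|
 a (a 0<|a 0<|a (-1)<|a (-1)<|a (-1)<|a 0<|a 0<|a 0<|b)<|
 a (a 0<|a 0<|a 1<|a 1<|a 1<|a 1<|a 0<|a 0<|b)<|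
 a (a 0<|a 0<|a 0<|a 0<|a 0<|a 0<|a 1<|a 0<|b)<|
 a (a 0<|a 0<|a 0<|a 0<|a 0<|a 0<|a 0<|a 1<|b)<|b))<|
 c (d 3 (a (a 1<|a 0<|a 0<|a 0<|a 0<|a 0<|a 0<|a 0<|b)<|
 a (a 0<|a 1<|a 0<|a 1<|a 0<|a 0<|a 0<|a 0<|b)<|
 a (a 0<|a 0<|a 1<|a 1<|a 0<|a 0<|a 0<|a 0<|b)<|
 a (a 0<|a 0<|a 0<|a 0<|a 1<|a 0<|a 0<|a 0<|b)<|
 a (a 0<|a 0<|a 0<|a (-1)<|a (-1)<|a 0<|a 0<|a 0<|b)<|
 a (a 0<|a 0<|a 0<|a 1<|a 1<|a 1<|a 0<|a 0<|b)<|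
 a (a 0<|a 0<|a 0<|a 0<|a 0<|a 0<|a 1<|a 0<|b)<|
 a (a 0<|a 0<|a 0<|a 0<|a 0<|a 0<|a 0<|a 1<|b)<|b))<|
 c (d 4 (a (a 1<|a 0<|a 0<|a 0<|a 0<|a 0<|a 0<|a 0<|b)<|
 a (a 0<|a 1<|a 0<|a 0<|a 0<|a 0<|a 0<|a 0<|b)<|
 a (a 0<|a 0<|a 1<|a 0<|a 0<|a 0<|a 0<|a 0<|b)<|
 a (a 0<|a 0<|a 0<|a 1<|a 1<|a 0<|a 0<|a 0<|b)<|
 a (a 0<|a 0<|a 0<|a 0<|a (-1)<|a 0<|a 0<|a 0<|b)<|
 a (a 0<|a 0<|a 0<|a 0<|a 1<|a 1<|a 0<|a 0<|b)<|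
 a (a 0<|a 0<|a 0<|a 0<|a 0<|a 0<|a 1<|a 0<|b)<|
 a (a 0<|a 0<|a 0<|a 0<|a 0<|a 0<|a 0<|a 1<|b)<|b))<|e))

/-- the eigenvector -/
def V6 : Fin (1 + 1) → Fin 8 → ℤ := (beta% delta% lq26d5cc8c8c fun a b _ _ _ =>
 (a (a 0<|a 0<|a 0<|a 1<|a 1<|a 0<|a 0<|a 0<|b)<|
 a (a 0<|a 1<|a 1<|a 1<|a 0<|a 0<|a 0<|a 0<|b)<|b))

/-- the functional -/
def U6 : Fin 8 → ℤ := ![0, -1, 0, 1, 0, 0, 0, 0]

theorem row6 : RowOK Am L6 (vec chevE8 8 239) c6 V6 U6 := by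
  rw [vec_hi]
  exact ⟨H129.ChainF.ok H129.ChainF.i8 H129.ChainF.m8 (H129.ChainF.c8 <| H129.ChainF.c8 <| H129.ChainF.c8 <| H129.ChainF.c8 <| H129.ChainF.nil) (by decide +kernel), by decide +kernel,
    H493.EigF.ok (H493.EigF.hT H493.EigF.t8) H493.EigF.r2 (H493.EigF.mc H493.EigF.r8 <| H493.EigF.mc H493.EigF.r8 <| H493.EigF.m0) H493.EigF.r8 (by decide +kernel)⟩

/-- the partial products -/
def L7 : List (Fin 8 × Mat 8) := (beta% delta% lq26d5cc8c8c fun a b c d e =>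
 (c (d 0 (a (a 0<|a 0<|a 1<|a 0<|a 0<|a 0<|a 0<|a 0<|b)<|
 a (a 1<|a 1<|a 1<|a 1<|a 0<|a 0<|a 0<|a 0<|b)<|
 a (a 0<|a 0<|a 0<|a 1<|a 0<|a 0<|a 0<|a 0<|b)<|
 a (a 0<|a 0<|a 0<|a 0<|a 1<|a 0<|a 0<|a 0<|b)<|
 a (a 0<|a 0<|a 0<|a 0<|a 0<|a 1<|a 0<|a 0<|b)<|
 a (a 0<|a 0<|a 0<|a 0<|a 0<|a 0<|a 1<|a 0<|b)<|
 a (a (-1)<|a 0<|a (-1)<|a (-1)<|a (-1)<|a (-1)<|a (-1)<|a 0<|b)<|
 a (a 1<|a 0<|a 1<|a 1<|a 1<|a 1<|a 1<|a 1<|b)<|b))<|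
 c (d 2 (a (a 1<|a 0<|a 1<|a 0<|a 0<|a 0<|a 0<|a 0<|b)<|
 a (a 0<|a 1<|a 1<|a 1<|a 0<|a 0<|a 0<|a 0<|b)<|
 a (a 0<|a 0<|a 0<|a 1<|a 0<|a 0<|a 0<|a 0<|b)<|
 a (a 0<|a 0<|a 0<|a 0<|a 1<|a 0<|a 0<|a 0<|b)<|
 a (a 0<|a 0<|a 0<|a 0<|a 0<|a 1<|a 0<|a 0<|b)<|
 a (a 0<|a 0<|a 0<|a 0<|a 0<|a 0<|a 1<|a 0<|b)<|
 a (a 0<|a 0<|a (-1)<|a (-1)<|a (-1)<|a (-1)<|a (-1)<|a 0<|b)<|
 a (a 0<|a 0<|a 1<|a 1<|a 1<|a 1<|a 1<|a 1<|b)<|b))<|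
 c (d 3 (a (a 1<|a 0<|a 0<|a 0<|a 0<|a 0<|a 0<|a 0<|b)<|
 a (a 0<|a 1<|a 0<|a 1<|a 0<|a 0<|a 0<|a 0<|b)<|
 a (a 0<|a 0<|a 1<|a 1<|a 0<|a 0<|a 0<|a 0<|b)<|
 a (a 0<|a 0<|a 0<|a 0<|a 1<|a 0<|a 0<|a 0<|b)<|
 a (a 0<|a 0<|a 0<|a 0<|a 0<|a 1<|a 0<|a 0<|b)<|
 a (a 0<|a 0<|a 0<|a 0<|a 0<|a 0<|a 1<|a 0<|b)<|
 a (a 0<|a 0<|a 0<|a (-1)<|a (-1)<|a (-1)<|a (-1)<|a 0<|b)<|
 a (a 0<|a 0<|a 0<|a 1<|a 1<|a 1<|a 1<|a 1<|b)<|b))<|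
 c (d 4 (a (a 1<|a 0<|a 0<|a 0<|a 0<|a 0<|a 0<|a 0<|b)<|
 a (a 0<|a 1<|a 0<|a 0<|a 0<|a 0<|a 0<|a 0<|b)<|
 a (a 0<|a 0<|a 1<|a 0<|a 0<|a 0<|a 0<|a 0<|b)<|
 a (a 0<|a 0<|a 0<|a 1<|a 1<|a 0<|a 0<|a 0<|b)<|
 a (a 0<|a 0<|a 0<|a 0<|a 0<|a 1<|a 0<|a 0<|b)<|
 a (a 0<|a 0<|a 0<|a 0<|a 0<|a 0<|a 1<|a 0<|b)<|
 a (a 0<|a 0<|a 0<|a 0<|a (-1)<|a (-1)<|a (-1)<|a 0<|b)<|
 a (a 0<|a 0<|a 0<|a 0<|a 1<|a 1<|a 1<|a 1<|b)<|b))<|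
 c (d 5 (a (a 1<|a 0<|a 0<|a 0<|a 0<|a 0<|a 0<|a 0<|b)<|
 a (a 0<|a 1<|a 0<|a 0<|a 0<|a 0<|a 0<|a 0<|b)<|
 a (a 0<|a 0<|a 1<|a 0<|a 0<|a 0<|a 0<|a 0<|b)<|
 a (a 0<|a 0<|a 0<|a 1<|a 0<|a 0<|a 0<|a 0<|b)<|
 a (a 0<|a 0<|a 0<|a 0<|a 1<|a 1<|a 0<|a 0<|b)<|
 a (a 0<|a 0<|a 0<|a 0<|a 0<|a 0<|a 1<|a 0<|b)<|
 a (a 0<|a 0<|a 0<|a 0<|a 0<|a (-1)<|a (-1)<|a 0<|b)<|
 a (a 0<|a 0<|a 0<|a 0<|a 0<|a 1<|a 1<|a 1<|b)<|b))<|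
 c (d 6 (a (a 1<|a 0<|a 0<|a 0<|a 0<|a 0<|a 0<|a 0<|b)<|
 a (a 0<|a 1<|a 0<|a 0<|a 0<|a 0<|a 0<|a 0<|b)<|
 a (a 0<|a 0<|a 1<|a 0<|a 0<|a 0<|a 0<|a 0<|b)<|
 a (a 0<|a 0<|a 0<|a 1<|a 0<|a 0<|a 0<|a 0<|b)<|
 a (a 0<|a 0<|a 0<|a 0<|a 1<|a 0<|a 0<|a 0<|b)<|
 a (a 0<|a 0<|a 0<|a 0<|a 0<|a 1<|a 1<|a 0<|b)<|
 a (a 0<|a 0<|a 0<|a 0<|a 0<|a 0<|a (-1)<|a 0<|b)<|
 a (a 0<|a 0<|a 0<|a 0<|a 0<|a 0<|a 1<|a 1<|b)<|b))<|e))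

/-- the eigenvector -/
def V7 : Fin (5 + 1) → Fin 8 → ℤ := (beta% delta% lq26d5cc8c8c fun a b _ _ _ =>
 (a (a 1<|a 0<|a 0<|a 1<|a 0<|a 1<|a 0<|a 0<|b)<|
 a (a 0<|a 0<|a 0<|a 0<|a 0<|a 0<|a (-1)<|a 0<|b)<|
 a (a 1<|a 0<|a 0<|a 1<|a 0<|a 0<|a 0<|a 0<|b)<|
 a (a 0<|a 0<|a 0<|a 0<|a (-1)<|a 0<|a (-1)<|a 0<|b)<|
 a (a 1<|a 0<|a 0<|a 0<|a 0<|a 0<|a 0<|a 0<|b)<|
 a (a 0<|a 0<|a (-1)<|a 0<|a (-1)<|a 0<|a (-1)<|a 0<|b)<|b))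

/-- the functional -/
def U7 : Fin 8 → ℤ := ![0, 0, 0, 0, 0, 1, 0, 0]

theorem row7 : RowOK Am L7 (vec chevE8 8 239) c7 V7 U7 := by
  rw [vec_hi]
  exact ⟨H129.ChainF.ok H129.ChainF.i8 H129.ChainF.m8 (H129.ChainF.c8 <| H129.ChainF.c8 <| H129.ChainF.c8 <| H129.ChainF.c8 <| H129.ChainF.c8 <| H129.ChainF.c8 <| H129.ChainF.nil) (by decide +kernel), by decide +kernel,
    H493.EigF.ok (H493.EigF.hT H493.EigF.t8) H493.EigF.r6 (H493.EigF.mc H493.EigF.r8 <| H493.EigF.mc H493.EigF.r8 <| H493.EigF.mc H493.EigF.r8 <| H493.EigF.mc H493.EigF.r8 <| H493.EigF.mc H493.EigF.r8 <| H493.EigF.mc H493.EigF.r8 <| H493.EigF.m0) H493.EigF.r8 (by decide +kernel)⟩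

/-- the partial products -/
def L8 : List (Fin 8 × Mat 8) := (beta% delta% lq26d5cc8c8c fun a b c d e =>
 (c (d 0 (a (a 0<|a 0<|a 1<|a 0<|a 0<|a 0<|a 0<|a 0<|b)<|
 a (a 1<|a 0<|a 1<|a 1<|a 0<|a 0<|a 0<|a 0<|b)<|
 a (a 0<|a 1<|a 0<|a 1<|a 0<|a 0<|a 0<|a 0<|b)<|
 a (a 0<|a 0<|a 0<|a 0<|a 1<|a 0<|a 0<|a 0<|b)<|
 a (a (-1)<|a (-1)<|a (-1)<|a (-1)<|a (-1)<|a 0<|a 0<|a 0<|b)<|
 a (a 1<|a 1<|a 1<|a 1<|a 1<|a 1<|a 0<|a 0<|b)<|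
 a (a 0<|a 0<|a 0<|a 0<|a 0<|a 0<|a 1<|a 0<|b)<|
 a (a 0<|a 0<|a 0<|a 0<|a 0<|a 0<|a 0<|a 1<|b)<|b))<|
 c (d 1 (a (a 1<|a 0<|a 1<|a 0<|a 0<|a 0<|a 0<|a 0<|b)<|
 a (a 0<|a 0<|a 1<|a 1<|a 0<|a 0<|a 0<|a 0<|b)<|
 a (a 0<|a 1<|a 0<|a 1<|a 0<|a 0<|a 0<|a 0<|b)<|
 a (a 0<|a 0<|a 0<|a 0<|a 1<|a 0<|a 0<|a 0<|b)<|
 a (a 0<|a (-1)<|a (-1)<|a (-1)<|a (-1)<|a 0<|a 0<|a 0<|b)<|
 a (a 0<|a 1<|a 1<|a 1<|a 1<|a 1<|a 0<|a 0<|b)<|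
 a (a 0<|a 0<|a 0<|a 0<|a 0<|a 0<|a 1<|a 0<|b)<|
 a (a 0<|a 0<|a 0<|a 0<|a 0<|a 0<|a 0<|a 1<|b)<|b))<|
 c (d 2 (a (a 1<|a 0<|a 1<|a 0<|a 0<|a 0<|a 0<|a 0<|b)<|
 a (a 0<|a 1<|a 1<|a 1<|a 0<|a 0<|a 0<|a 0<|b)<|
 a (a 0<|a 0<|a 0<|a 1<|a 0<|a 0<|a 0<|a 0<|b)<|
 a (a 0<|a 0<|a 0<|a 0<|a 1<|a 0<|a 0<|a 0<|b)<|
 a (a 0<|a 0<|a (-1)<|a (-1)<|a (-1)<|a 0<|a 0<|a 0<|b)<|
 a (a 0<|a 0<|a 1<|a 1<|a 1<|a 1<|a 0<|a 0<|b)<|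
 a (a 0<|a 0<|a 0<|a 0<|a 0<|a 0<|a 1<|a 0<|b)<|
 a (a 0<|a 0<|a 0<|a 0<|a 0<|a 0<|a 0<|a 1<|b)<|b))<|
 c (d 3 (a (a 1<|a 0<|a 0<|a 0<|a 0<|a 0<|a 0<|a 0<|b)<|
 a (a 0<|a 1<|a 0<|a 1<|a 0<|a 0<|a 0<|a 0<|b)<|
 a (a 0<|a 0<|a 1<|a 1<|a 0<|a 0<|a 0<|a 0<|b)<|
 a (a 0<|a 0<|a 0<|a 0<|a 1<|a 0<|a 0<|a 0<|b)<|
 a (a 0<|a 0<|a 0<|a (-1)<|a (-1)<|a 0<|a 0<|a 0<|b)<|
 a (a 0<|a 0<|a 0<|a 1<|a 1<|a 1<|a 0<|a 0<|b)<|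
 a (a 0<|a 0<|a 0<|a 0<|a 0<|a 0<|a 1<|a 0<|b)<|
 a (a 0<|a 0<|a 0<|a 0<|a 0<|a 0<|a 0<|a 1<|b)<|b))<|
 c (d 4 (a (a 1<|a 0<|a 0<|a 0<|a 0<|a 0<|a 0<|a 0<|b)<|
 a (a 0<|a 1<|a 0<|a 0<|a 0<|a 0<|a 0<|a 0<|b)<|
 a (a 0<|a 0<|a 1<|a 0<|a 0<|a 0<|a 0<|a 0<|b)<|
 a (a 0<|a 0<|a 0<|a 1<|a 1<|a 0<|a 0<|a 0<|b)<|
 a (a 0<|a 0<|a 0<|a 0<|a (-1)<|a 0<|a 0<|a 0<|b)<|
 a (a 0<|a 0<|a 0<|a 0<|a 1<|a 1<|a 0<|a 0<|b)<|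
 a (a 0<|a 0<|a 0<|a 0<|a 0<|a 0<|a 1<|a 0<|b)<|
 a (a 0<|a 0<|a 0<|a 0<|a 0<|a 0<|a 0<|a 1<|b)<|b))<|e))

/-- the eigenvector -/
def V8 : Fin (3 + 1) → Fin 8 → ℤ := (beta% delta% lq26d5cc8c8c fun a b _ _ _ =>
 (a (a 0<|a 1<|a 0<|a 1<|a 0<|a 0<|a 0<|a 0<|b)<|
 a (a 0<|a 0<|a 1<|a 0<|a 0<|a 0<|a 0<|a 0<|b)<|
 a (a 1<|a 0<|a 0<|a 0<|a 0<|a 0<|a 0<|a 0<|b)<|
 a (a (-1)<|a 0<|a (-1)<|a (-1)<|a (-1)<|a 0<|a 0<|a 0<|b)<|b))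

/-- the functional -/
def U8 : Fin 8 → ℤ := ![0, 1, 0, 0, 0, 0, 0, 0]

theorem row8 : RowOK Am L8 (vec chevE8 8 239) c8 V8 U8 := by
  rw [vec_hi]
  exact ⟨H129.ChainF.ok H129.ChainF.i8 H129.ChainF.m8 (H129.ChainF.c8 <| H129.ChainF.c8 <| H129.ChainF.c8 <| H129.ChainF.c8 <| H129.ChainF.c8 <| H129.ChainF.nil) (by decide +kernel), by decide +kernel,
    H493.EigF.ok (H493.EigF.hT H493.EigF.t8) H493.EigF.r4 (H493.EigF.mc H493.EigF.r8 <| H493.EigF.mc H493.EigF.r8 <| H493.EigF.mc H493.EigF.r8 <| H493.EigF.mc H493.EigF.r8 <| H493.EigF.m0) H493.EigF.r8 (by decide +kernel)⟩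

/-- the partial products -/
def L9 : List (Fin 8 × Mat 8) := (beta% delta% lq26d5cc8c8c fun a b c d e =>
 (c (d 2 (a (a 0<|a 0<|a 0<|a 1<|a 1<|a 0<|a 0<|a 0<|b)<|
 a (a 1<|a 0<|a 0<|a 0<|a 0<|a 0<|a 0<|a 0<|b)<|
 a (a 0<|a 1<|a 0<|a 0<|a 0<|a 0<|a 0<|a 0<|b)<|
 a (a (-1)<|a (-1)<|a (-1)<|a (-1)<|a (-1)<|a 0<|a 0<|a 0<|b)<|
 a (a 1<|a 1<|a 2<|a 2<|a 2<|a 1<|a 0<|a 0<|b)<|
 a (a 0<|a 0<|a 0<|a 0<|a (-1)<|a (-1)<|a 0<|a 0<|b)<|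
 a (a 0<|a 0<|a 0<|a 0<|a 1<|a 1<|a 1<|a 0<|b)<|
 a (a 0<|a 0<|a 0<|a 0<|a 0<|a 0<|a 0<|a 1<|b)<|b))<|
 c (d 0 (a (a 0<|a 0<|a 1<|a 1<|a 1<|a 0<|a 0<|a 0<|b)<|
 a (a 1<|a 0<|a 1<|a 0<|a 0<|a 0<|a 0<|a 0<|b)<|
 a (a 0<|a 1<|a 0<|a 0<|a 0<|a 0<|a 0<|a 0<|b)<|
 a (a (-1)<|a (-1)<|a (-1)<|a (-1)<|a (-1)<|a 0<|a 0<|a 0<|b)<|
 a (a 1<|a 1<|a 1<|a 2<|a 2<|a 1<|a 0<|a 0<|b)<|
 a (a 0<|a 0<|a 0<|a 0<|a (-1)<|a (-1)<|a 0<|a 0<|b)<|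
 a (a 0<|a 0<|a 0<|a 0<|a 1<|a 1<|a 1<|a 0<|b)<|
 a (a 0<|a 0<|a 0<|a 0<|a 0<|a 0<|a 0<|a 1<|b)<|b))<|
 c (d 4 (a (a 1<|a 0<|a 1<|a 1<|a 1<|a 0<|a 0<|a 0<|b)<|
 a (a 0<|a 0<|a 1<|a 0<|a 0<|a 0<|a 0<|a 0<|b)<|
 a (a 0<|a 1<|a 0<|a 0<|a 0<|a 0<|a 0<|a 0<|b)<|
 a (a 0<|a (-1)<|a (-1)<|a (-1)<|a (-1)<|a 0<|a 0<|a 0<|b)<|
 a (a 0<|a 1<|a 1<|a 2<|a 2<|a 1<|a 0<|a 0<|b)<|
 a (a 0<|a 0<|a 0<|a 0<|a (-1)<|a (-1)<|a 0<|a 0<|b)<|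
 a (a 0<|a 0<|a 0<|a 0<|a 1<|a 1<|a 1<|a 0<|b)<|
 a (a 0<|a 0<|a 0<|a 0<|a 0<|a 0<|a 0<|a 1<|b)<|b))<|
 c (d 5 (a (a 1<|a 0<|a 1<|a 1<|a 0<|a 0<|a 0<|a 0<|b)<|
 a (a 0<|a 0<|a 1<|a 0<|a 0<|a 0<|a 0<|a 0<|b)<|
 a (a 0<|a 1<|a 0<|a 0<|a 0<|a 0<|a 0<|a 0<|b)<|
 a (a 0<|a (-1)<|a (-1)<|a (-1)<|a 0<|a 0<|a 0<|a 0<|b)<|
 a (a 0<|a 1<|a 1<|a 2<|a 1<|a 1<|a 0<|a 0<|b)<|
 a (a 0<|a 0<|a 0<|a 0<|a 0<|a (-1)<|a 0<|a 0<|b)<|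
 a (a 0<|a 0<|a 0<|a 0<|a 0<|a 1<|a 1<|a 0<|b)<|
 a (a 0<|a 0<|a 0<|a 0<|a 0<|a 0<|a 0<|a 1<|b)<|b))<|
 c (d 3 (a (a 1<|a 0<|a 1<|a 1<|a 0<|a 0<|a 0<|a 0<|b)<|
 a (a 0<|a 0<|a 1<|a 0<|a 0<|a 0<|a 0<|a 0<|b)<|
 a (a 0<|a 1<|a 0<|a 0<|a 0<|a 0<|a 0<|a 0<|b)<|
 a (a 0<|a (-1)<|a (-1)<|a (-1)<|a 0<|a 0<|a 0<|a 0<|b)<|
 a (a 0<|a 1<|a 1<|a 2<|a 1<|a 0<|a 0<|a 0<|b)<|
 a (a 0<|a 0<|a 0<|a 0<|a 0<|a 1<|a 0<|a 0<|b)<|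
 a (a 0<|a 0<|a 0<|a 0<|a 0<|a 0<|a 1<|a 0<|b)<|
 a (a 0<|a 0<|a 0<|a 0<|a 0<|a 0<|a 0<|a 1<|b)<|b))<|
 c (d 1 (a (a 1<|a 0<|a 1<|a 0<|a 0<|a 0<|a 0<|a 0<|b)<|
 a (a 0<|a 0<|a 1<|a 1<|a 0<|a 0<|a 0<|a 0<|b)<|
 a (a 0<|a 1<|a 0<|a 1<|a 0<|a 0<|a 0<|a 0<|b)<|
 a (a 0<|a (-1)<|a (-1)<|a (-1)<|a 0<|a 0<|a 0<|a 0<|b)<|
 a (a 0<|a 1<|a 1<|a 1<|a 1<|a 0<|a 0<|a 0<|b)<|
 a (a 0<|a 0<|a 0<|a 0<|a 0<|a 1<|a 0<|a 0<|b)<|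
 a (a 0<|a 0<|a 0<|a 0<|a 0<|a 0<|a 1<|a 0<|b)<|
 a (a 0<|a 0<|a 0<|a 0<|a 0<|a 0<|a 0<|a 1<|b)<|b))<|
 c (d 2 (a (a 1<|a 0<|a 1<|a 0<|a 0<|a 0<|a 0<|a 0<|b)<|
 a (a 0<|a 1<|a 1<|a 1<|a 0<|a 0<|a 0<|a 0<|b)<|
 a (a 0<|a 0<|a 0<|a 1<|a 0<|a 0<|a 0<|a 0<|b)<|
 a (a 0<|a 0<|a (-1)<|a (-1)<|a 0<|a 0<|a 0<|a 0<|b)<|
 a (a 0<|a 0<|a 1<|a 1<|a 1<|a 0<|a 0<|a 0<|b)<|
 a (a 0<|a 0<|a 0<|a 0<|a 0<|a 1<|a 0<|a 0<|b)<|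
 a (a 0<|a 0<|a 0<|a 0<|a 0<|a 0<|a 1<|a 0<|b)<|
 a (a 0<|a 0<|a 0<|a 0<|a 0<|a 0<|a 0<|a 1<|b)<|b))<|
 c (d 3 (a (a 1<|a 0<|a 0<|a 0<|a 0<|a 0<|a 0<|a 0<|b)<|
 a (a 0<|a 1<|a 0<|a 1<|a 0<|a 0<|a 0<|a 0<|b)<|
 a (a 0<|a 0<|a 1<|a 1<|a 0<|a 0<|a 0<|a 0<|b)<|
 a (a 0<|a 0<|a 0<|a (-1)<|a 0<|a 0<|a 0<|a 0<|b)<|
 a (a 0<|a 0<|a 0<|a 1<|a 1<|a 0<|a 0<|a 0<|b)<|
 a (a 0<|a 0<|a 0<|a 0<|a 0<|a 1<|a 0<|a 0<|b)<|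
 a (a 0<|a 0<|a 0<|a 0<|a 0<|a 0<|a 1<|a 0<|b)<|
 a (a 0<|a 0<|a 0<|a 0<|a 0<|a 0<|a 0<|a 1<|b)<|b))<|e))

/-- the eigenvector -/
def V9 : Fin (5 + 1) → Fin 8 → ℤ := (beta% delta% lq26d5cc8c8c fun a b _ _ _ =>
 (a (a 1<|a 0<|a 0<|a 0<|a 0<|a 0<|a 0<|a 0<|b)<|
 a (a 0<|a 1<|a 0<|a 0<|a 0<|a 0<|a 0<|a 0<|b)<|
 a (a 0<|a 0<|a 1<|a 0<|a 0<|a 0<|a 0<|a 0<|b)<|
 a (a 0<|a (-1)<|a (-1)<|a (-1)<|a 0<|a 0<|a 0<|a 0<|b)<|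
 a (a 0<|a 0<|a (-1)<|a (-1)<|a (-1)<|a (-1)<|a 0<|a 0<|b)<|
 a (a 0<|a 0<|a 0<|a (-1)<|a (-1)<|a 0<|a 0<|a 0<|b)<|b))

/-- the functional -/
def U9 : Fin 8 → ℤ := ![1, 0, 0, 0, 0, 0, 0, 0]

theorem row9 : RowOK Am L9 (vec chevE8 8 239) c9 V9 U9 := by
  rw [vec_hi]
  exact ⟨H129.ChainF.ok H129.ChainF.i8 H129.ChainF.m8 (H129.ChainF.c8 <| H129.ChainF.c8 <| H129.ChainF.c8 <| H129.ChainF.c8 <| H129.ChainF.c8 <| H129.ChainF.c8 <| H129.ChainF.c8 <| H129.ChainF.c8 <| H129.ChainF.nil) (by decide +kernel), by decide +kernel,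
    H493.EigF.ok (H493.EigF.hT H493.EigF.t8) H493.EigF.r6 (H493.EigF.mc H493.EigF.r8 <| H493.EigF.mc H493.EigF.r8 <| H493.EigF.mc H493.EigF.r8 <| H493.EigF.mc H493.EigF.r8 <| H493.EigF.mc H493.EigF.r8 <| H493.EigF.mc H493.EigF.r8 <| H493.EigF.m0) H493.EigF.r8 (by decide +kernel)⟩

/-- the partial products -/
def L10 : List (Fin 8 × Mat 8) := (beta% delta% lq26d5cc8c8c fun a b c d e =>
 (c (d 1 (a (a 1<|a 0<|a 1<|a 0<|a 0<|a 0<|a 0<|a 0<|b)<|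
 a (a 0<|a 0<|a 1<|a 1<|a 0<|a 0<|a 0<|a 0<|b)<|
 a (a 0<|a 1<|a 0<|a 1<|a 0<|a 0<|a 0<|a 0<|b)<|
 a (a 0<|a 0<|a 0<|a 0<|a 1<|a 0<|a 0<|a 0<|b)<|
 a (a 0<|a 0<|a 0<|a 0<|a 0<|a 1<|a 0<|a 0<|b)<|
 a (a 0<|a 0<|a 0<|a 0<|a 0<|a 0<|a 1<|a 0<|b)<|
 a (a 0<|a (-1)<|a (-1)<|a (-1)<|a (-1)<|a (-1)<|a (-1)<|a 0<|b)<|
 a (a 0<|a 1<|a 1<|a 1<|a 1<|a 1<|a 1<|a 1<|b)<|b))<|
 c (d 2 (a (a 1<|a 0<|a 1<|a 0<|a 0<|a 0<|a 0<|a 0<|b)<|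
 a (a 0<|a 1<|a 1<|a 1<|a 0<|a 0<|a 0<|a 0<|b)<|
 a (a 0<|a 0<|a 0<|a 1<|a 0<|a 0<|a 0<|a 0<|b)<|
 a (a 0<|a 0<|a 0<|a 0<|a 1<|a 0<|a 0<|a 0<|b)<|
 a (a 0<|a 0<|a 0<|a 0<|a 0<|a 1<|a 0<|a 0<|b)<|
 a (a 0<|a 0<|a 0<|a 0<|a 0<|a 0<|a 1<|a 0<|b)<|
 a (a 0<|a 0<|a (-1)<|a (-1)<|a (-1)<|a (-1)<|a (-1)<|a 0<|b)<|
 a (a 0<|a 0<|a 1<|a 1<|a 1<|a 1<|a 1<|a 1<|b)<|b))<|
 c (d 3 (a (a 1<|a 0<|a 0<|a 0<|a 0<|a 0<|a 0<|a 0<|b)<|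
 a (a 0<|a 1<|a 0<|a 1<|a 0<|a 0<|a 0<|a 0<|b)<|
 a (a 0<|a 0<|a 1<|a 1<|a 0<|a 0<|a 0<|a 0<|b)<|
 a (a 0<|a 0<|a 0<|a 0<|a 1<|a 0<|a 0<|a 0<|b)<|
 a (a 0<|a 0<|a 0<|a 0<|a 0<|a 1<|a 0<|a 0<|b)<|
 a (a 0<|a 0<|a 0<|a 0<|a 0<|a 0<|a 1<|a 0<|b)<|
 a (a 0<|a 0<|a 0<|a (-1)<|a (-1)<|a (-1)<|a (-1)<|a 0<|b)<|
 a (a 0<|a 0<|a 0<|a 1<|a 1<|a 1<|a 1<|a 1<|b)<|b))<|
 c (d 4 (a (a 1<|a 0<|a 0<|a 0<|a 0<|a 0<|a 0<|a 0<|b)<|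
 a (a 0<|a 1<|a 0<|a 0<|a 0<|a 0<|a 0<|a 0<|b)<|
 a (a 0<|a 0<|a 1<|a 0<|a 0<|a 0<|a 0<|a 0<|b)<|
 a (a 0<|a 0<|a 0<|a 1<|a 1<|a 0<|a 0<|a 0<|b)<|
 a (a 0<|a 0<|a 0<|a 0<|a 0<|a 1<|a 0<|a 0<|b)<|
 a (a 0<|a 0<|a 0<|a 0<|a 0<|a 0<|a 1<|a 0<|b)<|
 a (a 0<|a 0<|a 0<|a 0<|a (-1)<|a (-1)<|a (-1)<|a 0<|b)<|
 a (a 0<|a 0<|a 0<|a 0<|a 1<|a 1<|a 1<|a 1<|b)<|b))<|
 c (d 5 (a (a 1<|a 0<|a 0<|a 0<|a 0<|a 0<|a 0<|a 0<|b)<|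
 a (a 0<|a 1<|a 0<|a 0<|a 0<|a 0<|a 0<|a 0<|b)<|
 a (a 0<|a 0<|a 1<|a 0<|a 0<|a 0<|a 0<|a 0<|b)<|
 a (a 0<|a 0<|a 0<|a 1<|a 0<|a 0<|a 0<|a 0<|b)<|
 a (a 0<|a 0<|a 0<|a 0<|a 1<|a 1<|a 0<|a 0<|b)<|
 a (a 0<|a 0<|a 0<|a 0<|a 0<|a 0<|a 1<|a 0<|b)<|
 a (a 0<|a 0<|a 0<|a 0<|a 0<|a (-1)<|a (-1)<|a 0<|b)<|
 a (a 0<|a 0<|a 0<|a 0<|a 0<|a 1<|a 1<|a 1<|b)<|b))<|
 c (d 6 (a (a 1<|a 0<|a 0<|a 0<|a 0<|a 0<|a 0<|a 0<|b)<|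
 a (a 0<|a 1<|a 0<|a 0<|a 0<|a 0<|a 0<|a 0<|b)<|
 a (a 0<|a 0<|a 1<|a 0<|a 0<|a 0<|a 0<|a 0<|b)<|
 a (a 0<|a 0<|a 0<|a 1<|a 0<|a 0<|a 0<|a 0<|b)<|
 a (a 0<|a 0<|a 0<|a 0<|a 1<|a 0<|a 0<|a 0<|b)<|
 a (a 0<|a 0<|a 0<|a 0<|a 0<|a 1<|a 1<|a 0<|b)<|
 a (a 0<|a 0<|a 0<|a 0<|a 0<|a 0<|a (-1)<|a 0<|b)<|
 a (a 0<|a 0<|a 0<|a 0<|a 0<|a 0<|a 1<|a 1<|b)<|b))<|e))

/-- the eigenvector -/
def V10 : Fin (3 + 1) → Fin 8 → ℤ := (beta% delta% lq26d5cc8c8c fun a b _ _ _ =>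
 (a (a 0<|a 0<|a 0<|a 0<|a 0<|a (-1)<|a (-1)<|a 0<|b)<|
 a (a 0<|a 0<|a 0<|a 0<|a (-1)<|a 0<|a 1<|a 0<|b)<|
 a (a 0<|a 0<|a 0<|a (-1)<|a 0<|a 0<|a (-1)<|a 0<|b)<|
 a (a 0<|a (-1)<|a (-1)<|a (-1)<|a (-1)<|a (-1)<|a 0<|a 0<|b)<|b))

/-- the functional -/
def U10 : Fin 8 → ℤ := ![0, 0, 1, 0, 0, -1, 0, 0]

theorem row10 : RowOK Am L10 (vec chevE8 8 239) c10 V10 U10 := by
  rw [vec_hi]
  exact ⟨H129.ChainF.ok H129.ChainF.i8 H129.ChainF.m8 (H129.ChainF.c8 <| H129.ChainF.c8 <| H129.ChainF.c8 <| H129.ChainF.c8 <| H129.ChainF.c8 <| H129.ChainF.c8 <| H129.ChainF.nil) (by decide +kernel), by decide +kernel,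
    H493.EigF.ok (H493.EigF.hT H493.EigF.t8) H493.EigF.r4 (H493.EigF.mc H493.EigF.r8 <| H493.EigF.mc H493.EigF.r8 <| H493.EigF.mc H493.EigF.r8 <| H493.EigF.mc H493.EigF.r8 <| H493.EigF.m0) H493.EigF.r8 (by decide +kernel)⟩

/-- the partial products -/
def L12 : List (Fin 8 × Mat 8) := (beta% delta% lq26d5cc8c8c fun a b c d e =>
 (c (d 0 (a (a 0<|a 0<|a 1<|a 0<|a 0<|a 0<|a 0<|a 0<|b)<|
 a (a 1<|a 0<|a 1<|a 1<|a 0<|a 0<|a 0<|a 0<|b)<|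
 a (a 0<|a 1<|a 0<|a 1<|a 0<|a 0<|a 0<|a 0<|b)<|
 a (a 0<|a 0<|a 0<|a 0<|a 1<|a 0<|a 0<|a 0<|b)<|
 a (a 0<|a 0<|a 0<|a 0<|a 0<|a 1<|a 0<|a 0<|b)<|
 a (a (-1)<|a (-1)<|a (-1)<|a (-1)<|a (-1)<|a (-1)<|a 0<|a 0<|b)<|
 a (a 1<|a 1<|a 1<|a 1<|a 1<|a 1<|a 1<|a 0<|b)<|
 a (a 0<|a 0<|a 0<|a 0<|a 0<|a 0<|a 0<|a 1<|b)<|b))<|
 c (d 1 (a (a 1<|a 0<|a 1<|a 0<|a 0<|a 0<|a 0<|a 0<|b)<|
 a (a 0<|a 0<|a 1<|a 1<|a 0<|a 0<|a 0<|a 0<|b)<|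
 a (a 0<|a 1<|a 0<|a 1<|a 0<|a 0<|a 0<|a 0<|b)<|
 a (a 0<|a 0<|a 0<|a 0<|a 1<|a 0<|a 0<|a 0<|b)<|
 a (a 0<|a 0<|a 0<|a 0<|a 0<|a 1<|a 0<|a 0<|b)<|
 a (a 0<|a (-1)<|a (-1)<|a (-1)<|a (-1)<|a (-1)<|a 0<|a 0<|b)<|
 a (a 0<|a 1<|a 1<|a 1<|a 1<|a 1<|a 1<|a 0<|b)<|
 a (a 0<|a 0<|a 0<|a 0<|a 0<|a 0<|a 0<|a 1<|b)<|b))<|
 c (d 2 (a (a 1<|a 0<|a 1<|a 0<|a 0<|a 0<|a 0<|a 0<|b)<|
 a (a 0<|a 1<|a 1<|a 1<|a 0<|a 0<|a 0<|a 0<|b)<|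
 a (a 0<|a 0<|a 0<|a 1<|a 0<|a 0<|a 0<|a 0<|b)<|
 a (a 0<|a 0<|a 0<|a 0<|a 1<|a 0<|a 0<|a 0<|b)<|
 a (a 0<|a 0<|a 0<|a 0<|a 0<|a 1<|a 0<|a 0<|b)<|
 a (a 0<|a 0<|a (-1)<|a (-1)<|a (-1)<|a (-1)<|a 0<|a 0<|b)<|
 a (a 0<|a 0<|a 1<|a 1<|a 1<|a 1<|a 1<|a 0<|b)<|
 a (a 0<|a 0<|a 0<|a 0<|a 0<|a 0<|a 0<|a 1<|b)<|b))<|
 c (d 3 (a (a 1<|a 0<|a 0<|a 0<|a 0<|a 0<|a 0<|a 0<|b)<|
 a (a 0<|a 1<|a 0<|a 1<|a 0<|a 0<|a 0<|a 0<|b)<|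
 a (a 0<|a 0<|a 1<|a 1<|a 0<|a 0<|a 0<|a 0<|b)<|
 a (a 0<|a 0<|a 0<|a 0<|a 1<|a 0<|a 0<|a 0<|b)<|
 a (a 0<|a 0<|a 0<|a 0<|a 0<|a 1<|a 0<|a 0<|b)<|
 a (a 0<|a 0<|a 0<|a (-1)<|a (-1)<|a (-1)<|a 0<|a 0<|b)<|
 a (a 0<|a 0<|a 0<|a 1<|a 1<|a 1<|a 1<|a 0<|b)<|
 a (a 0<|a 0<|a 0<|a 0<|a 0<|a 0<|a 0<|a 1<|b)<|b))<|
 c (d 4 (a (a 1<|a 0<|a 0<|a 0<|a 0<|a 0<|a 0<|a 0<|b)<|
 a (a 0<|a 1<|a 0<|a 0<|a 0<|a 0<|a 0<|a 0<|b)<|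
 a (a 0<|a 0<|a 1<|a 0<|a 0<|a 0<|a 0<|a 0<|b)<|
 a (a 0<|a 0<|a 0<|a 1<|a 1<|a 0<|a 0<|a 0<|b)<|
 a (a 0<|a 0<|a 0<|a 0<|a 0<|a 1<|a 0<|a 0<|b)<|
 a (a 0<|a 0<|a 0<|a 0<|a (-1)<|a (-1)<|a 0<|a 0<|b)<|
 a (a 0<|a 0<|a 0<|a 0<|a 1<|a 1<|a 1<|a 0<|b)<|
 a (a 0<|a 0<|a 0<|a 0<|a 0<|a 0<|a 0<|a 1<|b)<|b))<|
 c (d 5 (a (a 1<|a 0<|a 0<|a 0<|a 0<|a 0<|a 0<|a 0<|b)<|
 a (a 0<|a 1<|a 0<|a 0<|a 0<|a 0<|a 0<|a 0<|b)<|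
 a (a 0<|a 0<|a 1<|a 0<|a 0<|a 0<|a 0<|a 0<|b)<|
 a (a 0<|a 0<|a 0<|a 1<|a 0<|a 0<|a 0<|a 0<|b)<|
 a (a 0<|a 0<|a 0<|a 0<|a 1<|a 1<|a 0<|a 0<|b)<|
 a (a 0<|a 0<|a 0<|a 0<|a 0<|a (-1)<|a 0<|a 0<|b)<|
 a (a 0<|a 0<|a 0<|a 0<|a 0<|a 1<|a 1<|a 0<|b)<|
 a (a 0<|a 0<|a 0<|a 0<|a 0<|a 0<|a 0<|a 1<|b)<|b))<|e))

/-- the eigenvector -/
def V12 : Fin (3 + 1) → Fin 8 → ℤ := (beta% delta% lq26d5cc8c8c fun a b _ _ _ =>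
 (a (a 0<|a 1<|a 0<|a 1<|a 1<|a 1<|a 0<|a 0<|b)<|
 a (a 0<|a 0<|a 1<|a 1<|a 1<|a 0<|a 0<|a 0<|b)<|
 a (a 1<|a 0<|a 1<|a 1<|a 0<|a 0<|a 0<|a 0<|b)<|
 a (a 0<|a 1<|a 0<|a 0<|a 0<|a 0<|a 0<|a 0<|b)<|b))

/-- the functional -/
def U12 : Fin 8 → ℤ := ![0, 0, -1, 1, 0, 0, 0, 0]

theorem row12 : RowOK Am L12 (vec chevE8 8 239) c12 V12 U12 := by
  rw [vec_hi]
  exact ⟨H129.ChainF.ok H129.ChainF.i8 H129.ChainF.m8 (H129.ChainF.c8 <| H129.ChainF.c8 <| H129.ChainF.c8 <| H129.ChainF.c8 <| H129.ChainF.c8 <| H129.ChainF.c8 <| H129.ChainF.nil) (by decide +kernel), by decide +kernel,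
    H493.EigF.ok (H493.EigF.hT H493.EigF.t8) H493.EigF.r4 (H493.EigF.mc H493.EigF.r8 <| H493.EigF.mc H493.EigF.r8 <| H493.EigF.mc H493.EigF.r8 <| H493.EigF.mc H493.EigF.r8 <| H493.EigF.m0) H493.EigF.r8 (by decide +kernel)⟩

/-- the partial products -/
def L14 : List (Fin 8 × Mat 8) := (beta% delta% lq26d5cc8c8c fun a b c d e =>
 (c (d 3 (a (a 0<|a 1<|a 1<|a 2<|a 1<|a 0<|a 0<|a 0<|b)<|
 a (a 0<|a 0<|a 0<|a 0<|a (-1)<|a 0<|a 0<|a 0<|b)<|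
 a (a (-1)<|a (-1)<|a (-1)<|a (-2)<|a (-1)<|a 0<|a 0<|a 0<|b)<|
 a (a 1<|a 0<|a 1<|a 1<|a 1<|a 0<|a 0<|a 0<|b)<|
 a (a 0<|a 1<|a 0<|a 1<|a 1<|a 1<|a 0<|a 0<|b)<|
 a (a 0<|a 0<|a 0<|a 0<|a 0<|a 0<|a 1<|a 0<|b)<|
 a (a 0<|a 0<|a 0<|a (-1)<|a (-1)<|a (-1)<|a (-1)<|a 0<|b)<|
 a (a 0<|a 0<|a 0<|a 1<|a 1<|a 1<|a 1<|a 1<|b)<|b))<|
 c (d 1 (a (a 0<|a 1<|a 1<|a 1<|a 1<|a 0<|a 0<|a 0<|b)<|
 a (a 0<|a 0<|a 0<|a (-1)<|a (-1)<|a 0<|a 0<|a 0<|b)<|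
 a (a (-1)<|a (-1)<|a (-1)<|a (-1)<|a (-1)<|a 0<|a 0<|a 0<|b)<|
 a (a 1<|a 0<|a 1<|a 1<|a 1<|a 0<|a 0<|a 0<|b)<|
 a (a 0<|a 1<|a 0<|a 1<|a 1<|a 1<|a 0<|a 0<|b)<|
 a (a 0<|a 0<|a 0<|a 0<|a 0<|a 0<|a 1<|a 0<|b)<|
 a (a 0<|a 0<|a 0<|a 0<|a (-1)<|a (-1)<|a (-1)<|a 0<|b)<|
 a (a 0<|a 0<|a 0<|a 0<|a 1<|a 1<|a 1<|a 1<|b)<|b))<|
 c (d 4 (a (a 0<|a 0<|a 1<|a 1<|a 1<|a 0<|a 0<|a 0<|b)<|
 a (a 0<|a (-1)<|a 0<|a (-1)<|a (-1)<|a 0<|a 0<|a 0<|b)<|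
 a (a (-1)<|a 0<|a (-1)<|a (-1)<|a (-1)<|a 0<|a 0<|a 0<|b)<|
 a (a 1<|a 1<|a 1<|a 1<|a 1<|a 0<|a 0<|a 0<|b)<|
 a (a 0<|a 0<|a 0<|a 1<|a 1<|a 1<|a 0<|a 0<|b)<|
 a (a 0<|a 0<|a 0<|a 0<|a 0<|a 0<|a 1<|a 0<|b)<|
 a (a 0<|a 0<|a 0<|a 0<|a (-1)<|a (-1)<|a (-1)<|a 0<|b)<|
 a (a 0<|a 0<|a 0<|a 0<|a 1<|a 1<|a 1<|a 1<|b)<|b))<|
 c (d 3 (a (a 0<|a 0<|a 1<|a 1<|a 0<|a 0<|a 0<|a 0<|b)<|
 a (a 0<|a (-1)<|a 0<|a (-1)<|a 0<|a 0<|a 0<|a 0<|b)<|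
 a (a (-1)<|a 0<|a (-1)<|a (-1)<|a 0<|a 0<|a 0<|a 0<|b)<|
 a (a 1<|a 1<|a 1<|a 1<|a 0<|a 0<|a 0<|a 0<|b)<|
 a (a 0<|a 0<|a 0<|a 1<|a 1<|a 1<|a 0<|a 0<|b)<|
 a (a 0<|a 0<|a 0<|a 0<|a 0<|a 0<|a 1<|a 0<|b)<|
 a (a 0<|a 0<|a 0<|a 0<|a 0<|a (-1)<|a (-1)<|a 0<|b)<|
 a (a 0<|a 0<|a 0<|a 0<|a 0<|a 1<|a 1<|a 1<|b)<|b))<|
 c (d 0 (a (a 0<|a 0<|a 1<|a 0<|a 0<|a 0<|a 0<|a 0<|b)<|
 a (a 0<|a (-1)<|a 0<|a 0<|a 0<|a 0<|a 0<|a 0<|b)<|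
 a (a (-1)<|a 0<|a (-1)<|a 0<|a 0<|a 0<|a 0<|a 0<|b)<|
 a (a 1<|a 1<|a 1<|a 1<|a 0<|a 0<|a 0<|a 0<|b)<|
 a (a 0<|a 0<|a 0<|a 0<|a 1<|a 1<|a 0<|a 0<|b)<|
 a (a 0<|a 0<|a 0<|a 0<|a 0<|a 0<|a 1<|a 0<|b)<|
 a (a 0<|a 0<|a 0<|a 0<|a 0<|a (-1)<|a (-1)<|a 0<|b)<|
 a (a 0<|a 0<|a 0<|a 0<|a 0<|a 1<|a 1<|a 1<|b)<|b))<|
 c (d 5 (a (a 1<|a 0<|a 1<|a 0<|a 0<|a 0<|a 0<|a 0<|b)<|
 a (a 0<|a (-1)<|a 0<|a 0<|a 0<|a 0<|a 0<|a 0<|b)<|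
 a (a 0<|a 0<|a (-1)<|a 0<|a 0<|a 0<|a 0<|a 0<|b)<|
 a (a 0<|a 1<|a 1<|a 1<|a 0<|a 0<|a 0<|a 0<|b)<|
 a (a 0<|a 0<|a 0<|a 0<|a 1<|a 1<|a 0<|a 0<|b)<|
 a (a 0<|a 0<|a 0<|a 0<|a 0<|a 0<|a 1<|a 0<|b)<|
 a (a 0<|a 0<|a 0<|a 0<|a 0<|a (-1)<|a (-1)<|a 0<|b)<|
 a (a 0<|a 0<|a 0<|a 0<|a 0<|a 1<|a 1<|a 1<|b)<|b))<|
 c (d 1 (a (a 1<|a 0<|a 1<|a 0<|a 0<|a 0<|a 0<|a 0<|b)<|
 a (a 0<|a (-1)<|a 0<|a 0<|a 0<|a 0<|a 0<|a 0<|b)<|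
 a (a 0<|a 0<|a (-1)<|a 0<|a 0<|a 0<|a 0<|a 0<|b)<|
 a (a 0<|a 1<|a 1<|a 1<|a 0<|a 0<|a 0<|a 0<|b)<|
 a (a 0<|a 0<|a 0<|a 0<|a 1<|a 0<|a 0<|a 0<|b)<|
 a (a 0<|a 0<|a 0<|a 0<|a 0<|a 1<|a 1<|a 0<|b)<|
 a (a 0<|a 0<|a 0<|a 0<|a 0<|a 0<|a (-1)<|a 0<|b)<|
 a (a 0<|a 0<|a 0<|a 0<|a 0<|a 0<|a 1<|a 1<|b)<|b))<|
 c (d 2 (a (a 1<|a 0<|a 1<|a 0<|a 0<|a 0<|a 0<|a 0<|b)<|
 a (a 0<|a 1<|a 0<|a 0<|a 0<|a 0<|a 0<|a 0<|b)<|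
 a (a 0<|a 0<|a (-1)<|a 0<|a 0<|a 0<|a 0<|a 0<|b)<|
 a (a 0<|a 0<|a 1<|a 1<|a 0<|a 0<|a 0<|a 0<|b)<|
 a (a 0<|a 0<|a 0<|a 0<|a 1<|a 0<|a 0<|a 0<|b)<|
 a (a 0<|a 0<|a 0<|a 0<|a 0<|a 1<|a 1<|a 0<|b)<|
 a (a 0<|a 0<|a 0<|a 0<|a 0<|a 0<|a (-1)<|a 0<|b)<|
 a (a 0<|a 0<|a 0<|a 0<|a 0<|a 0<|a 1<|a 1<|b)<|b))<|
 c (d 6 (a (a 1<|a 0<|a 0<|a 0<|a 0<|a 0<|a 0<|a 0<|b)<|
 a (a 0<|a 1<|a 0<|a 0<|a 0<|a 0<|a 0<|a 0<|b)<|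
 a (a 0<|a 0<|a 1<|a 0<|a 0<|a 0<|a 0<|a 0<|b)<|
 a (a 0<|a 0<|a 0<|a 1<|a 0<|a 0<|a 0<|a 0<|b)<|
 a (a 0<|a 0<|a 0<|a 0<|a 1<|a 0<|a 0<|a 0<|b)<|
 a (a 0<|a 0<|a 0<|a 0<|a 0<|a 1<|a 1<|a 0<|b)<|
 a (a 0<|a 0<|a 0<|a 0<|a 0<|a 0<|a (-1)<|a 0<|b)<|
 a (a 0<|a 0<|a 0<|a 0<|a 0<|a 0<|a 1<|a 1<|b)<|b))<|e))

/-- the eigenvector -/
def V14 : Fin (5 + 1) → Fin 8 → ℤ := (beta% delta% lq26d5cc8c8c fun a b _ _ _ =>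
 (a (a 0<|a 0<|a 0<|a 0<|a (-1)<|a (-1)<|a (-1)<|a 0<|b)<|
 a (a 0<|a 0<|a (-1)<|a (-1)<|a 0<|a 0<|a 1<|a 0<|b)<|
 a (a (-1)<|a (-1)<|a (-1)<|a (-1)<|a (-1)<|a 0<|a (-1)<|a 0<|b)<|
 a (a 0<|a 0<|a 0<|a (-1)<|a 0<|a (-1)<|a 0<|a 0<|b)<|
 a (a 0<|a (-1)<|a 0<|a 0<|a (-1)<|a 0<|a 0<|a 0<|b)<|
 a (a 0<|a 1<|a 0<|a 0<|a 0<|a 0<|a 0<|a 0<|b)<|b))

/-- the functional -/
def U14 : Fin 8 → ℤ := ![0, 0, -1, 1, 0, -1, 0, 0]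

theorem row14 : RowOK Am L14 (vec chevE8 8 239) c14 V14 U14 := by
  rw [vec_hi]
  exact ⟨H129.ChainF.ok H129.ChainF.i8 H129.ChainF.m8 (H129.ChainF.c8 <| H129.ChainF.c8 <| H129.ChainF.c8 <| H129.ChainF.c8 <| H129.ChainF.c8 <| H129.ChainF.c8 <| H129.ChainF.c8 <| H129.ChainF.c8 <| H129.ChainF.c8 <| H129.ChainF.nil) (by decide +kernel), by decide +kernel,
    H493.EigF.ok (H493.EigF.hT H493.EigF.t8) H493.EigF.r6 (H493.EigF.mc H493.EigF.r8 <| H493.EigF.mc H493.EigF.r8 <| H493.EigF.mc H493.EigF.r8 <| H493.EigF.mc H493.EigF.r8 <| H493.EigF.mc H493.EigF.r8 <| H493.EigF.mc H493.EigF.r8 <| H493.EigF.m0) H493.EigF.r8 (by decide +kernel)⟩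

/-- the partial products -/
def L18 : List (Fin 8 × Mat 8) := (beta% delta% lq26d5cc8c8c fun a b c d e =>
 (c (d 0 (a (a 0<|a 0<|a 1<|a 0<|a 0<|a 0<|a 0<|a 0<|b)<|
 a (a 1<|a 0<|a 1<|a 1<|a 0<|a 0<|a 0<|a 0<|b)<|
 a (a 0<|a 1<|a 0<|a 1<|a 0<|a 0<|a 0<|a 0<|b)<|
 a (a 0<|a 0<|a 0<|a 0<|a 1<|a 0<|a 0<|a 0<|b)<|
 a (a 0<|a 0<|a 0<|a 0<|a 0<|a 1<|a 0<|a 0<|b)<|
 a (a 0<|a 0<|a 0<|a 0<|a 0<|a 0<|a 1<|a 0<|b)<|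
 a (a (-1)<|a (-1)<|a (-1)<|a (-1)<|a (-1)<|a (-1)<|a (-1)<|a 0<|b)<|
 a (a 1<|a 1<|a 1<|a 1<|a 1<|a 1<|a 1<|a 1<|b)<|b))<|
 c (d 1 (a (a 1<|a 0<|a 1<|a 0<|a 0<|a 0<|a 0<|a 0<|b)<|
 a (a 0<|a 0<|a 1<|a 1<|a 0<|a 0<|a 0<|a 0<|b)<|
 a (a 0<|a 1<|a 0<|a 1<|a 0<|a 0<|a 0<|a 0<|b)<|
 a (a 0<|a 0<|a 0<|a 0<|a 1<|a 0<|a 0<|a 0<|b)<|
 a (a 0<|a 0<|a 0<|a 0<|a 0<|a 1<|a 0<|a 0<|b)<|
 a (a 0<|a 0<|a 0<|a 0<|a 0<|a 0<|a 1<|a 0<|b)<|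
 a (a 0<|a (-1)<|a (-1)<|a (-1)<|a (-1)<|a (-1)<|a (-1)<|a 0<|b)<|
 a (a 0<|a 1<|a 1<|a 1<|a 1<|a 1<|a 1<|a 1<|b)<|b))<|
 c (d 2 (a (a 1<|a 0<|a 1<|a 0<|a 0<|a 0<|a 0<|a 0<|b)<|
 a (a 0<|a 1<|a 1<|a 1<|a 0<|a 0<|a 0<|a 0<|b)<|
 a (a 0<|a 0<|a 0<|a 1<|a 0<|a 0<|a 0<|a 0<|b)<|
 a (a 0<|a 0<|a 0<|a 0<|a 1<|a 0<|a 0<|a 0<|b)<|
 a (a 0<|a 0<|a 0<|a 0<|a 0<|a 1<|a 0<|a 0<|b)<|
 a (a 0<|a 0<|a 0<|a 0<|a 0<|a 0<|a 1<|a 0<|b)<|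
 a (a 0<|a 0<|a (-1)<|a (-1)<|a (-1)<|a (-1)<|a (-1)<|a 0<|b)<|
 a (a 0<|a 0<|a 1<|a 1<|a 1<|a 1<|a 1<|a 1<|b)<|b))<|
 c (d 3 (a (a 1<|a 0<|a 0<|a 0<|a 0<|a 0<|a 0<|a 0<|b)<|
 a (a 0<|a 1<|a 0<|a 1<|a 0<|a 0<|a 0<|a 0<|b)<|
 a (a 0<|a 0<|a 1<|a 1<|a 0<|a 0<|a 0<|a 0<|b)<|
 a (a 0<|a 0<|a 0<|a 0<|a 1<|a 0<|a 0<|a 0<|b)<|
 a (a 0<|a 0<|a 0<|a 0<|a 0<|a 1<|a 0<|a 0<|b)<|
 a (a 0<|a 0<|a 0<|a 0<|a 0<|a 0<|a 1<|a 0<|b)<|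
 a (a 0<|a 0<|a 0<|a (-1)<|a (-1)<|a (-1)<|a (-1)<|a 0<|b)<|
 a (a 0<|a 0<|a 0<|a 1<|a 1<|a 1<|a 1<|a 1<|b)<|b))<|
 c (d 4 (a (a 1<|a 0<|a 0<|a 0<|a 0<|a 0<|a 0<|a 0<|b)<|
 a (a 0<|a 1<|a 0<|a 0<|a 0<|a 0<|a 0<|a 0<|b)<|
 a (a 0<|a 0<|a 1<|a 0<|a 0<|a 0<|a 0<|a 0<|b)<|
 a (a 0<|a 0<|a 0<|a 1<|a 1<|a 0<|a 0<|a 0<|b)<|
 a (a 0<|a 0<|a 0<|a 0<|a 0<|a 1<|a 0<|a 0<|b)<|
 a (a 0<|a 0<|a 0<|a 0<|a 0<|a 0<|a 1<|a 0<|b)<|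
 a (a 0<|a 0<|a 0<|a 0<|a (-1)<|a (-1)<|a (-1)<|a 0<|b)<|
 a (a 0<|a 0<|a 0<|a 0<|a 1<|a 1<|a 1<|a 1<|b)<|b))<|
 c (d 5 (a (a 1<|a 0<|a 0<|a 0<|a 0<|a 0<|a 0<|a 0<|b)<|
 a (a 0<|a 1<|a 0<|a 0<|a 0<|a 0<|a 0<|a 0<|b)<|
 a (a 0<|a 0<|a 1<|a 0<|a 0<|a 0<|a 0<|a 0<|b)<|
 a (a 0<|a 0<|a 0<|a 1<|a 0<|a 0<|a 0<|a 0<|b)<|
 a (a 0<|a 0<|a 0<|a 0<|a 1<|a 1<|a 0<|a 0<|b)<|
 a (a 0<|a 0<|a 0<|a 0<|a 0<|a 0<|a 1<|a 0<|b)<|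
 a (a 0<|a 0<|a 0<|a 0<|a 0<|a (-1)<|a (-1)<|a 0<|b)<|
 a (a 0<|a 0<|a 0<|a 0<|a 0<|a 1<|a 1<|a 1<|b)<|b))<|
 c (d 6 (a (a 1<|a 0<|a 0<|a 0<|a 0<|a 0<|a 0<|a 0<|b)<|
 a (a 0<|a 1<|a 0<|a 0<|a 0<|a 0<|a 0<|a 0<|b)<|
 a (a 0<|a 0<|a 1<|a 0<|a 0<|a 0<|a 0<|a 0<|b)<|
 a (a 0<|a 0<|a 0<|a 1<|a 0<|a 0<|a 0<|a 0<|b)<|
 a (a 0<|a 0<|a 0<|a 0<|a 1<|a 0<|a 0<|a 0<|b)<|
 a (a 0<|a 0<|a 0<|a 0<|a 0<|a 1<|a 1<|a 0<|b)<|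
 a (a 0<|a 0<|a 0<|a 0<|a 0<|a 0<|a (-1)<|a 0<|b)<|
 a (a 0<|a 0<|a 0<|a 0<|a 0<|a 0<|a 1<|a 1<|b)<|b))<|e))

/-- the eigenvector -/
def V18 : Fin (5 + 1) → Fin 8 → ℤ := (beta% delta% lq26d5cc8c8c fun a b _ _ _ =>
 (a (a (-1)<|a 0<|a 0<|a 0<|a 0<|a 0<|a 0<|a 0<|b)<|
 a (a 1<|a 0<|a 1<|a 1<|a 1<|a 1<|a 1<|a 0<|b)<|
 a (a 0<|a 1<|a 0<|a 1<|a 1<|a 1<|a 0<|a 0<|b)<|
 a (a 1<|a 0<|a 1<|a 1<|a 1<|a 0<|a 0<|a 0<|b)<|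
 a (a 0<|a 1<|a 0<|a 1<|a 0<|a 0<|a 0<|a 0<|b)<|
 a (a 0<|a 0<|a 1<|a 0<|a 0<|a 0<|a 0<|a 0<|b)<|b))

/-- the functional -/
def U18 : Fin 8 → ℤ := ![-1, -1, 0, 1, 0, 0, 0, 0]

theorem row18 : RowOK Am L18 (vec chevE8 8 239) c18 V18 U18 := by
  rw [vec_hi]
  exact ⟨H129.ChainF.ok H129.ChainF.i8 H129.ChainF.m8 (H129.ChainF.c8 <| H129.ChainF.c8 <| H129.ChainF.c8 <| H129.ChainF.c8 <| H129.ChainF.c8 <| H129.ChainF.c8 <| H129.ChainF.c8 <| H129.ChainF.nil) (by decide +kernel), by decide +kernel,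
    H493.EigF.ok (H493.EigF.hT H493.EigF.t8) H493.EigF.r6 (H493.EigF.mc H493.EigF.r8 <| H493.EigF.mc H493.EigF.r8 <| H493.EigF.mc H493.EigF.r8 <| H493.EigF.mc H493.EigF.r8 <| H493.EigF.mc H493.EigF.r8 <| H493.EigF.mc H493.EigF.r8 <| H493.EigF.m0) H493.EigF.r8 (by decide +kernel)⟩

/-- the partial products -/
def T15 : List (Fin 8 × Mat 8) := (beta% delta% lq26d5cc8c8c fun a b c d e =>
 (c (d 7 (a (a 0<|a (-1)<|a 0<|a (-1)<|a (-1)<|a (-1)<|a 0<|a 0<|b)<|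
 a (a 1<|a 1<|a 1<|a 1<|a 1<|a 1<|a 1<|a 1<|b)<|
 a (a 0<|a 1<|a 1<|a 2<|a 2<|a 2<|a 1<|a 1<|b)<|
 a (a (-1)<|a (-1)<|a (-2)<|a (-2)<|a (-2)<|a (-2)<|a (-1)<|a (-1)<|b)<|
 a (a 1<|a 1<|a 2<|a 2<|a 1<|a 1<|a 0<|a 0<|b)<|
 a (a 0<|a 0<|a 0<|a 0<|a 1<|a 0<|a 0<|a 0<|b)<|
 a (a 0<|a (-1)<|a (-1)<|a (-1)<|a (-1)<|a 0<|a 0<|a 0<|b)<|
 a (a 0<|a 1<|a 1<|a 1<|a 1<|a 1<|a 1<|a 0<|b)<|b))<|
 c (d 2 (a (a 0<|a (-1)<|a 0<|a (-1)<|a (-1)<|a (-1)<|a 0<|a 0<|b)<|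
 a (a 1<|a 1<|a 1<|a 1<|a 1<|a 1<|a 1<|a 0<|b)<|
 a (a 0<|a 1<|a 1<|a 2<|a 2<|a 2<|a 1<|a 0<|b)<|
 a (a (-1)<|a (-1)<|a (-2)<|a (-2)<|a (-2)<|a (-2)<|a (-1)<|a 0<|b)<|
 a (a 1<|a 1<|a 2<|a 2<|a 1<|a 1<|a 0<|a 0<|b)<|
 a (a 0<|a 0<|a 0<|a 0<|a 1<|a 0<|a 0<|a 0<|b)<|
 a (a 0<|a (-1)<|a (-1)<|a (-1)<|a (-1)<|a 0<|a 0<|a 0<|b)<|
 a (a 0<|a 1<|a 1<|a 1<|a 1<|a 1<|a 1<|a 1<|b)<|b))<|
 c (d 1 (a (a 0<|a (-1)<|a (-1)<|a (-1)<|a (-1)<|a (-1)<|a 0<|a 0<|b)<|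
 a (a 1<|a 1<|a 1<|a 1<|a 1<|a 1<|a 1<|a 0<|b)<|
 a (a 0<|a 1<|a 1<|a 2<|a 2<|a 2<|a 1<|a 0<|b)<|
 a (a (-1)<|a (-1)<|a (-1)<|a (-2)<|a (-2)<|a (-2)<|a (-1)<|a 0<|b)<|
 a (a 1<|a 1<|a 1<|a 2<|a 1<|a 1<|a 0<|a 0<|b)<|
 a (a 0<|a 0<|a 0<|a 0<|a 1<|a 0<|a 0<|a 0<|b)<|
 a (a 0<|a (-1)<|a 0<|a (-1)<|a (-1)<|a 0<|a 0<|a 0<|b)<|
 a (a 0<|a 1<|a 0<|a 1<|a 1<|a 1<|a 1<|a 1<|b)<|b))<|
 c (d 3 (a (a 0<|a 0<|a (-1)<|a (-1)<|a (-1)<|a (-1)<|a 0<|a 0<|b)<|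
 a (a 1<|a 0<|a 1<|a 1<|a 1<|a 1<|a 1<|a 0<|b)<|
 a (a 0<|a 1<|a 1<|a 2<|a 2<|a 2<|a 1<|a 0<|b)<|
 a (a (-1)<|a (-1)<|a (-1)<|a (-2)<|a (-2)<|a (-2)<|a (-1)<|a 0<|b)<|
 a (a 1<|a 1<|a 1<|a 2<|a 1<|a 1<|a 0<|a 0<|b)<|
 a (a 0<|a 0<|a 0<|a 0<|a 1<|a 0<|a 0<|a 0<|b)<|
 a (a 0<|a 0<|a 0<|a (-1)<|a (-1)<|a 0<|a 0<|a 0<|b)<|
 a (a 0<|a 0<|a 0<|a 1<|a 1<|a 1<|a 1<|a 1<|b)<|b))<|
 c (d 4 (a (a 0<|a 0<|a (-1)<|a (-1)<|a (-1)<|a (-1)<|a 0<|a 0<|b)<|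
 a (a 1<|a 0<|a 1<|a 1<|a 1<|a 1<|a 1<|a 0<|b)<|
 a (a 0<|a 1<|a 1<|a 2<|a 2<|a 2<|a 1<|a 0<|b)<|
 a (a (-1)<|a (-1)<|a (-1)<|a (-2)<|a (-2)<|a (-2)<|a (-1)<|a 0<|b)<|
 a (a 1<|a 1<|a 1<|a 1<|a 1<|a 1<|a 0<|a 0<|b)<|
 a (a 0<|a 0<|a 0<|a 1<|a 1<|a 0<|a 0<|a 0<|b)<|
 a (a 0<|a 0<|a 0<|a 0<|a (-1)<|a 0<|a 0<|a 0<|b)<|
 a (a 0<|a 0<|a 0<|a 0<|a 1<|a 1<|a 1<|a 1<|b)<|b))<|
 c (d 5 (a (a 0<|a 0<|a (-1)<|a (-1)<|a (-1)<|a (-1)<|a 0<|a 0<|b)<|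
 a (a 1<|a 0<|a 1<|a 1<|a 1<|a 1<|a 1<|a 0<|b)<|
 a (a 0<|a 1<|a 1<|a 2<|a 2<|a 2<|a 1<|a 0<|b)<|
 a (a (-1)<|a (-1)<|a (-1)<|a (-2)<|a (-2)<|a (-2)<|a (-1)<|a 0<|b)<|
 a (a 1<|a 1<|a 1<|a 1<|a 1<|a 1<|a 0<|a 0<|b)<|
 a (a 0<|a 0<|a 0<|a 1<|a 0<|a 0<|a 0<|a 0<|b)<|
 a (a 0<|a 0<|a 0<|a 0<|a 1<|a 0<|a 0<|a 0<|b)<|
 a (a 0<|a 0<|a 0<|a 0<|a 0<|a 1<|a 1<|a 1<|b)<|b))<|
 c (d 6 (a (a 0<|a 0<|a (-1)<|a (-1)<|a (-1)<|a 0<|a 0<|a 0<|b)<|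
 a (a 1<|a 0<|a 1<|a 1<|a 1<|a 1<|a 1<|a 0<|b)<|
 a (a 0<|a 1<|a 1<|a 2<|a 2<|a 1<|a 1<|a 0<|b)<|
 a (a (-1)<|a (-1)<|a (-1)<|a (-2)<|a (-2)<|a (-1)<|a (-1)<|a 0<|b)<|
 a (a 1<|a 1<|a 1<|a 1<|a 1<|a 0<|a 0<|a 0<|b)<|
 a (a 0<|a 0<|a 0<|a 1<|a 0<|a 0<|a 0<|a 0<|b)<|
 a (a 0<|a 0<|a 0<|a 0<|a 1<|a 1<|a 0<|a 0<|b)<|
 a (a 0<|a 0<|a 0<|a 0<|a 0<|a 0<|a 1<|a 1<|b)<|b))<|
 c (d 4 (a (a 0<|a 0<|a (-1)<|a (-1)<|a (-1)<|a 0<|a 0<|a 0<|b)<|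
 a (a 1<|a 0<|a 1<|a 1<|a 1<|a 1<|a 0<|a 0<|b)<|
 a (a 0<|a 1<|a 1<|a 2<|a 2<|a 1<|a 0<|a 0<|b)<|
 a (a (-1)<|a (-1)<|a (-1)<|a (-2)<|a (-2)<|a (-1)<|a 0<|a 0<|b)<|
 a (a 1<|a 1<|a 1<|a 1<|a 1<|a 0<|a 0<|a 0<|b)<|
 a (a 0<|a 0<|a 0<|a 1<|a 0<|a 0<|a 0<|a 0<|b)<|
 a (a 0<|a 0<|a 0<|a 0<|a 1<|a 1<|a 1<|a 0<|b)<|
 a (a 0<|a 0<|a 0<|a 0<|a 0<|a 0<|a 0<|a 1<|b)<|b))<|
 c (d 5 (a (a 0<|a 0<|a (-1)<|a (-1)<|a 0<|a 0<|a 0<|a 0<|b)<|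
 a (a 1<|a 0<|a 1<|a 1<|a 1<|a 1<|a 0<|a 0<|b)<|
 a (a 0<|a 1<|a 1<|a 2<|a 1<|a 1<|a 0<|a 0<|b)<|
 a (a (-1)<|a (-1)<|a (-1)<|a (-2)<|a (-1)<|a (-1)<|a 0<|a 0<|b)<|
 a (a 1<|a 1<|a 1<|a 1<|a 0<|a 0<|a 0<|a 0<|b)<|
 a (a 0<|a 0<|a 0<|a 1<|a 1<|a 0<|a 0<|a 0<|b)<|
 a (a 0<|a 0<|a 0<|a 0<|a 0<|a 1<|a 1<|a 0<|b)<|
 a (a 0<|a 0<|a 0<|a 0<|a 0<|a 0<|a 0<|a 1<|b)<|b))<|
 c (d 3 (a (a 0<|a 0<|a (-1)<|a (-1)<|a 0<|a 0<|a 0<|a 0<|b)<|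
 a (a 1<|a 0<|a 1<|a 1<|a 1<|a 0<|a 0<|a 0<|b)<|
 a (a 0<|a 1<|a 1<|a 2<|a 1<|a 0<|a 0<|a 0<|b)<|
 a (a (-1)<|a (-1)<|a (-1)<|a (-2)<|a (-1)<|a 0<|a 0<|a 0<|b)<|
 a (a 1<|a 1<|a 1<|a 1<|a 0<|a 0<|a 0<|a 0<|b)<|
 a (a 0<|a 0<|a 0<|a 1<|a 1<|a 1<|a 0<|a 0<|b)<|
 a (a 0<|a 0<|a 0<|a 0<|a 0<|a 0<|a 1<|a 0<|b)<|
 a (a 0<|a 0<|a 0<|a 0<|a 0<|a 0<|a 0<|a 1<|b)<|b))<|
 c (d 4 (a (a 0<|a 0<|a (-1)<|a 0<|a 0<|a 0<|a 0<|a 0<|b)<|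
 a (a 1<|a 0<|a 1<|a 1<|a 1<|a 0<|a 0<|a 0<|b)<|
 a (a 0<|a 1<|a 1<|a 1<|a 1<|a 0<|a 0<|a 0<|b)<|
 a (a (-1)<|a (-1)<|a (-1)<|a (-1)<|a (-1)<|a 0<|a 0<|a 0<|b)<|
 a (a 1<|a 1<|a 1<|a 1<|a 0<|a 0<|a 0<|a 0<|b)<|
 a (a 0<|a 0<|a 0<|a 0<|a 1<|a 1<|a 0<|a 0<|b)<|
 a (a 0<|a 0<|a 0<|a 0<|a 0<|a 0<|a 1<|a 0<|b)<|
 a (a 0<|a 0<|a 0<|a 0<|a 0<|a 0<|a 0<|a 1<|b)<|b))<|
 c (d 0 (a (a 0<|a 0<|a (-1)<|a 0<|a 0<|a 0<|a 0<|a 0<|b)<|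
 a (a 1<|a 0<|a 1<|a 1<|a 0<|a 0<|a 0<|a 0<|b)<|
 a (a 0<|a 1<|a 1<|a 1<|a 0<|a 0<|a 0<|a 0<|b)<|
 a (a (-1)<|a (-1)<|a (-1)<|a (-1)<|a 0<|a 0<|a 0<|a 0<|b)<|
 a (a 1<|a 1<|a 1<|a 1<|a 1<|a 0<|a 0<|a 0<|b)<|
 a (a 0<|a 0<|a 0<|a 0<|a 0<|a 1<|a 0<|a 0<|b)<|
 a (a 0<|a 0<|a 0<|a 0<|a 0<|a 0<|a 1<|a 0<|b)<|
 a (a 0<|a 0<|a 0<|a 0<|a 0<|a 0<|a 0<|a 1<|b)<|b))<|
 c (d 2 (a (a (-1)<|a 0<|a (-1)<|a 0<|a 0<|a 0<|a 0<|a 0<|b)<|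
 a (a 0<|a 0<|a 1<|a 1<|a 0<|a 0<|a 0<|a 0<|b)<|
 a (a 1<|a 1<|a 1<|a 1<|a 0<|a 0<|a 0<|a 0<|b)<|
 a (a 0<|a (-1)<|a (-1)<|a (-1)<|a 0<|a 0<|a 0<|a 0<|b)<|
 a (a 0<|a 1<|a 1<|a 1<|a 1<|a 0<|a 0<|a 0<|b)<|
 a (a 0<|a 0<|a 0<|a 0<|a 0<|a 1<|a 0<|a 0<|b)<|
 a (a 0<|a 0<|a 0<|a 0<|a 0<|a 0<|a 1<|a 0<|b)<|
 a (a 0<|a 0<|a 0<|a 0<|a 0<|a 0<|a 0<|a 1<|b)<|b))<|
 c (d 1 (a (a (-1)<|a 0<|a 0<|a 0<|a 0<|a 0<|a 0<|a 0<|b)<|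
 a (a 0<|a 0<|a 0<|a 1<|a 0<|a 0<|a 0<|a 0<|b)<|
 a (a 1<|a 1<|a 1<|a 1<|a 0<|a 0<|a 0<|a 0<|b)<|
 a (a 0<|a (-1)<|a 0<|a (-1)<|a 0<|a 0<|a 0<|a 0<|b)<|
 a (a 0<|a 1<|a 0<|a 1<|a 1<|a 0<|a 0<|a 0<|b)<|
 a (a 0<|a 0<|a 0<|a 0<|a 0<|a 1<|a 0<|a 0<|b)<|
 a (a 0<|a 0<|a 0<|a 0<|a 0<|a 0<|a 1<|a 0<|b)<|
 a (a 0<|a 0<|a 0<|a 0<|a 0<|a 0<|a 0<|a 1<|b)<|b))<|
 c (d 3 (a (a (-1)<|a 0<|a 0<|a 0<|a 0<|a 0<|a 0<|a 0<|b)<|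
 a (a 0<|a 1<|a 0<|a 1<|a 0<|a 0<|a 0<|a 0<|b)<|
 a (a 1<|a 0<|a 1<|a 1<|a 0<|a 0<|a 0<|a 0<|b)<|
 a (a 0<|a 0<|a 0<|a (-1)<|a 0<|a 0<|a 0<|a 0<|b)<|
 a (a 0<|a 0<|a 0<|a 1<|a 1<|a 0<|a 0<|a 0<|b)<|
 a (a 0<|a 0<|a 0<|a 0<|a 0<|a 1<|a 0<|a 0<|b)<|
 a (a 0<|a 0<|a 0<|a 0<|a 0<|a 0<|a 1<|a 0<|b)<|
 a (a 0<|a 0<|a 0<|a 0<|a 0<|a 0<|a 0<|a 1<|b)<|b))<|
 c (d 0 (a (a (-1)<|a 0<|a 0<|a 0<|a 0<|a 0<|a 0<|a 0<|b)<|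
 a (a 0<|a 1<|a 0<|a 0<|a 0<|a 0<|a 0<|a 0<|b)<|
 a (a 1<|a 0<|a 1<|a 0<|a 0<|a 0<|a 0<|a 0<|b)<|
 a (a 0<|a 0<|a 0<|a 1<|a 0<|a 0<|a 0<|a 0<|b)<|
 a (a 0<|a 0<|a 0<|a 0<|a 1<|a 0<|a 0<|a 0<|b)<|
 a (a 0<|a 0<|a 0<|a 0<|a 0<|a 1<|a 0<|a 0<|b)<|
 a (a 0<|a 0<|a 0<|a 0<|a 0<|a 0<|a 1<|a 0<|b)<|
 a (a 0<|a 0<|a 0<|a 0<|a 0<|a 0<|a 0<|a 1<|b)<|b))<|e))

theorem chain15 : ChainOK Am T15 :=
  H129.ChainF.ok H129.ChainF.i8 H129.ChainF.m8 (H129.ChainF.c8 <| H129.ChainF.c8 <| H129.ChainF.c8 <| H129.ChainF.c8 <| H129.ChainF.c8 <| H129.ChainF.c8 <| H129.ChainF.c8 <| H129.ChainF.c8 <| H129.ChainF.c8 <| H129.ChainF.c8 <| H129.ChainF.c8 <| H129.ChainF.c8 <| H129.ChainF.c8 <| H129.ChainF.c8 <| H129.ChainF.c8 <| H129.ChainF.c8 <| H129.ChainF.nil) (by decide +kernel)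

/-- the eigenvector -/
def V15_15 : Fin (7 + 1) → Fin 8 → ℤ := (beta% delta% lq26d5cc8c8c fun a b _ _ _ =>
 (a (a 1<|a 1<|a 1<|a 1<|a 1<|a 1<|a 1<|a 0<|b)<|
 a (a (-1)<|a 0<|a (-1)<|a 0<|a 0<|a 0<|a 0<|a 1<|b)<|
 a (a 0<|a 0<|a 1<|a 0<|a (-1)<|a (-1)<|a (-1)<|a (-1)<|b)<|
 a (a 1<|a 0<|a 0<|a 0<|a 1<|a 0<|a 0<|a 0<|b)<|
 a (a (-1)<|a 0<|a (-1)<|a 0<|a 0<|a 1<|a 0<|a 0<|b)<|
 a (a 0<|a 0<|a 1<|a 0<|a 0<|a 0<|a 1<|a 0<|b)<|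
 a (a 1<|a 0<|a 0<|a 0<|a 0<|a 0<|a 0<|a 1<|b)<|
 a (a (-1)<|a 0<|a (-1)<|a (-1)<|a (-1)<|a (-1)<|a (-1)<|a (-1)<|b)<|b))

/-- the functional -/
def U15_15 : Fin 8 → ℤ := ![0, 1, 0, 0, 0, 0, 0, 0]

theorem tor15_15 : EigOK (hd T15) c15 V15_15 U15_15 :=
  H493.EigF.ok (H493.EigF.hT H493.EigF.t8) H493.EigF.r8 (H493.EigF.mc H493.EigF.r8 <| H493.EigF.mc H493.EigF.r8 <| H493.EigF.mc H493.EigF.r8 <| H493.EigF.mc H493.EigF.r8 <| H493.EigF.mc H493.EigF.r8 <| H493.EigF.mc H493.EigF.r8 <| H493.EigF.mc H493.EigF.r8 <| H493.EigF.mc H493.EigF.r8 <| H493.EigF.m0) H493.EigF.r8 (by decide +kernel)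

/-- the partial products -/
def T20 : List (Fin 8 × Mat 8) := (beta% delta% lq26d5cc8c8c fun a b c d e =>
 (c (d 6 (a (a (-1)<|a 0<|a (-1)<|a 0<|a 0<|a 0<|a 0<|a 0<|b)<|
 a (a 0<|a 0<|a 0<|a 0<|a (-1)<|a (-1)<|a (-1)<|a 0<|b)<|
 a (a 1<|a 1<|a 2<|a 2<|a 1<|a 1<|a 1<|a 0<|b)<|
 a (a 0<|a 0<|a 0<|a 0<|a 1<|a 0<|a 0<|a 0<|b)<|
 a (a 0<|a (-1)<|a (-1)<|a (-1)<|a (-1)<|a 0<|a 0<|a 0<|b)<|
 a (a 0<|a 1<|a 0<|a 0<|a 0<|a 0<|a 0<|a 0<|b)<|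
 a (a 0<|a 0<|a 1<|a 1<|a 1<|a 1<|a 1<|a 1<|b)<|
 a (a 0<|a 0<|a 0<|a 0<|a 0<|a 0<|a (-1)<|a (-1)<|b)<|b))<|
 c (d 7 (a (a (-1)<|a 0<|a (-1)<|a 0<|a 0<|a 0<|a 0<|a 0<|b)<|
 a (a 0<|a 0<|a 0<|a 0<|a (-1)<|a (-1)<|a 0<|a 0<|b)<|
 a (a 1<|a 1<|a 2<|a 2<|a 1<|a 1<|a 0<|a 0<|b)<|
 a (a 0<|a 0<|a 0<|a 0<|a 1<|a 0<|a 0<|a 0<|b)<|
 a (a 0<|a (-1)<|a (-1)<|a (-1)<|a (-1)<|a 0<|a 0<|a 0<|b)<|
 a (a 0<|a 1<|a 0<|a 0<|a 0<|a 0<|a 0<|a 0<|b)<|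
 a (a 0<|a 0<|a 1<|a 1<|a 1<|a 1<|a 1<|a 1<|b)<|
 a (a 0<|a 0<|a 0<|a 0<|a 0<|a 0<|a 0<|a (-1)<|b)<|b))<|
 c (d 2 (a (a (-1)<|a 0<|a (-1)<|a 0<|a 0<|a 0<|a 0<|a 0<|b)<|
 a (a 0<|a 0<|a 0<|a 0<|a (-1)<|a (-1)<|a 0<|a 0<|b)<|
 a (a 1<|a 1<|a 2<|a 2<|a 1<|a 1<|a 0<|a 0<|b)<|
 a (a 0<|a 0<|a 0<|a 0<|a 1<|a 0<|a 0<|a 0<|b)<|
 a (a 0<|a (-1)<|a (-1)<|a (-1)<|a (-1)<|a 0<|a 0<|a 0<|b)<|
 a (a 0<|a 1<|a 0<|a 0<|a 0<|a 0<|a 0<|a 0<|b)<|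
 a (a 0<|a 0<|a 1<|a 1<|a 1<|a 1<|a 1<|a 0<|b)<|
 a (a 0<|a 0<|a 0<|a 0<|a 0<|a 0<|a 0<|a 1<|b)<|b))<|
 c (d 3 (a (a (-1)<|a 0<|a 0<|a 0<|a 0<|a 0<|a 0<|a 0<|b)<|
 a (a 0<|a 0<|a 0<|a 0<|a (-1)<|a (-1)<|a 0<|a 0<|b)<|
 a (a 1<|a 1<|a 1<|a 2<|a 1<|a 1<|a 0<|a 0<|b)<|
 a (a 0<|a 0<|a 0<|a 0<|a 1<|a 0<|a 0<|a 0<|b)<|
 a (a 0<|a (-1)<|a 0<|a (-1)<|a (-1)<|a 0<|a 0<|a 0<|b)<|
 a (a 0<|a 1<|a 0<|a 0<|a 0<|a 0<|a 0<|a 0<|b)<|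
 a (a 0<|a 0<|a 0<|a 1<|a 1<|a 1<|a 1<|a 0<|b)<|
 a (a 0<|a 0<|a 0<|a 0<|a 0<|a 0<|a 0<|a 1<|b)<|b))<|
 c (d 4 (a (a (-1)<|a 0<|a 0<|a 0<|a 0<|a 0<|a 0<|a 0<|b)<|
 a (a 0<|a 0<|a 0<|a (-1)<|a (-1)<|a (-1)<|a 0<|a 0<|b)<|
 a (a 1<|a 1<|a 1<|a 1<|a 1<|a 1<|a 0<|a 0<|b)<|
 a (a 0<|a 0<|a 0<|a 1<|a 1<|a 0<|a 0<|a 0<|b)<|
 a (a 0<|a (-1)<|a 0<|a (-1)<|a (-1)<|a 0<|a 0<|a 0<|b)<|
 a (a 0<|a 1<|a 0<|a 1<|a 0<|a 0<|a 0<|a 0<|b)<|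
 a (a 0<|a 0<|a 0<|a 0<|a 1<|a 1<|a 1<|a 0<|b)<|
 a (a 0<|a 0<|a 0<|a 0<|a 0<|a 0<|a 0<|a 1<|b)<|b))<|
 c (d 5 (a (a (-1)<|a 0<|a 0<|a 0<|a 0<|a 0<|a 0<|a 0<|b)<|
 a (a 0<|a 0<|a 0<|a (-1)<|a (-1)<|a (-1)<|a 0<|a 0<|b)<|
 a (a 1<|a 1<|a 1<|a 1<|a 1<|a 1<|a 0<|a 0<|b)<|
 a (a 0<|a 0<|a 0<|a 1<|a 0<|a 0<|a 0<|a 0<|b)<|
 a (a 0<|a (-1)<|a 0<|a (-1)<|a 0<|a 0<|a 0<|a 0<|b)<|
 a (a 0<|a 1<|a 0<|a 1<|a 1<|a 0<|a 0<|a 0<|b)<|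
 a (a 0<|a 0<|a 0<|a 0<|a 0<|a 1<|a 1<|a 0<|b)<|
 a (a 0<|a 0<|a 0<|a 0<|a 0<|a 0<|a 0<|a 1<|b)<|b))<|
 c (d 1 (a (a (-1)<|a 0<|a 0<|a 0<|a 0<|a 0<|a 0<|a 0<|b)<|
 a (a 0<|a 0<|a 0<|a (-1)<|a (-1)<|a 0<|a 0<|a 0<|b)<|
 a (a 1<|a 1<|a 1<|a 1<|a 1<|a 0<|a 0<|a 0<|b)<|
 a (a 0<|a 0<|a 0<|a 1<|a 0<|a 0<|a 0<|a 0<|b)<|
 a (a 0<|a (-1)<|a 0<|a (-1)<|a 0<|a 0<|a 0<|a 0<|b)<|
 a (a 0<|a 1<|a 0<|a 1<|a 1<|a 1<|a 0<|a 0<|b)<|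
 a (a 0<|a 0<|a 0<|a 0<|a 0<|a 0<|a 1<|a 0<|b)<|
 a (a 0<|a 0<|a 0<|a 0<|a 0<|a 0<|a 0<|a 1<|b)<|b))<|
 c (d 3 (a (a (-1)<|a 0<|a 0<|a 0<|a 0<|a 0<|a 0<|a 0<|b)<|
 a (a 0<|a (-1)<|a 0<|a (-1)<|a (-1)<|a 0<|a 0<|a 0<|b)<|
 a (a 1<|a 0<|a 1<|a 1<|a 1<|a 0<|a 0<|a 0<|b)<|
 a (a 0<|a 1<|a 0<|a 1<|a 0<|a 0<|a 0<|a 0<|b)<|
 a (a 0<|a 0<|a 0<|a (-1)<|a 0<|a 0<|a 0<|a 0<|b)<|
 a (a 0<|a 0<|a 0<|a 1<|a 1<|a 1<|a 0<|a 0<|b)<|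
 a (a 0<|a 0<|a 0<|a 0<|a 0<|a 0<|a 1<|a 0<|b)<|
 a (a 0<|a 0<|a 0<|a 0<|a 0<|a 0<|a 0<|a 1<|b)<|b))<|
 c (d 4 (a (a (-1)<|a 0<|a 0<|a 0<|a 0<|a 0<|a 0<|a 0<|b)<|
 a (a 0<|a (-1)<|a 0<|a (-1)<|a (-1)<|a 0<|a 0<|a 0<|b)<|
 a (a 1<|a 0<|a 1<|a 1<|a 1<|a 0<|a 0<|a 0<|b)<|
 a (a 0<|a 1<|a 0<|a 0<|a 0<|a 0<|a 0<|a 0<|b)<|
 a (a 0<|a 0<|a 0<|a 1<|a 0<|a 0<|a 0<|a 0<|b)<|
 a (a 0<|a 0<|a 0<|a 0<|a 1<|a 1<|a 0<|a 0<|b)<|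
 a (a 0<|a 0<|a 0<|a 0<|a 0<|a 0<|a 1<|a 0<|b)<|
 a (a 0<|a 0<|a 0<|a 0<|a 0<|a 0<|a 0<|a 1<|b)<|b))<|
 c (d 3 (a (a (-1)<|a 0<|a 0<|a 0<|a 0<|a 0<|a 0<|a 0<|b)<|
 a (a 0<|a (-1)<|a 0<|a (-1)<|a 0<|a 0<|a 0<|a 0<|b)<|
 a (a 1<|a 0<|a 1<|a 1<|a 0<|a 0<|a 0<|a 0<|b)<|
 a (a 0<|a 1<|a 0<|a 0<|a 0<|a 0<|a 0<|a 0<|b)<|
 a (a 0<|a 0<|a 0<|a 1<|a 1<|a 0<|a 0<|a 0<|b)<|
 a (a 0<|a 0<|a 0<|a 0<|a 0<|a 1<|a 0<|a 0<|b)<|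
 a (a 0<|a 0<|a 0<|a 0<|a 0<|a 0<|a 1<|a 0<|b)<|
 a (a 0<|a 0<|a 0<|a 0<|a 0<|a 0<|a 0<|a 1<|b)<|b))<|
 c (d 1 (a (a (-1)<|a 0<|a 0<|a 0<|a 0<|a 0<|a 0<|a 0<|b)<|
 a (a 0<|a (-1)<|a 0<|a 0<|a 0<|a 0<|a 0<|a 0<|b)<|
 a (a 1<|a 0<|a 1<|a 0<|a 0<|a 0<|a 0<|a 0<|b)<|
 a (a 0<|a 1<|a 0<|a 1<|a 0<|a 0<|a 0<|a 0<|b)<|
 a (a 0<|a 0<|a 0<|a 0<|a 1<|a 0<|a 0<|a 0<|b)<|
 a (a 0<|a 0<|a 0<|a 0<|a 0<|a 1<|a 0<|a 0<|b)<|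
 a (a 0<|a 0<|a 0<|a 0<|a 0<|a 0<|a 1<|a 0<|b)<|
 a (a 0<|a 0<|a 0<|a 0<|a 0<|a 0<|a 0<|a 1<|b)<|b))<|
 c (d 0 (a (a (-1)<|a 0<|a 0<|a 0<|a 0<|a 0<|a 0<|a 0<|b)<|
 a (a 0<|a 1<|a 0<|a 0<|a 0<|a 0<|a 0<|a 0<|b)<|
 a (a 1<|a 0<|a 1<|a 0<|a 0<|a 0<|a 0<|a 0<|b)<|
 a (a 0<|a 0<|a 0<|a 1<|a 0<|a 0<|a 0<|a 0<|b)<|
 a (a 0<|a 0<|a 0<|a 0<|a 1<|a 0<|a 0<|a 0<|b)<|
 a (a 0<|a 0<|a 0<|a 0<|a 0<|a 1<|a 0<|a 0<|b)<|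
 a (a 0<|a 0<|a 0<|a 0<|a 0<|a 0<|a 1<|a 0<|b)<|
 a (a 0<|a 0<|a 0<|a 0<|a 0<|a 0<|a 0<|a 1<|b)<|b))<|e))

theorem chain20 : ChainOK Am T20 :=
  H129.ChainF.ok H129.ChainF.i8 H129.ChainF.m8 (H129.ChainF.c8 <| H129.ChainF.c8 <| H129.ChainF.c8 <| H129.ChainF.c8 <| H129.ChainF.c8 <| H129.ChainF.c8 <| H129.ChainF.c8 <| H129.ChainF.c8 <| H129.ChainF.c8 <| H129.ChainF.c8 <| H129.ChainF.c8 <| H129.ChainF.c8 <| H129.ChainF.nil) (by decide +kernel)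

/-- the eigenvector -/
def V20_20 : Fin (7 + 1) → Fin 8 → ℤ := (beta% delta% lq26d5cc8c8c fun a b _ _ _ =>
 (a (a (-1)<|a (-1)<|a (-1)<|a (-1)<|a (-1)<|a 0<|a 0<|a 0<|b)<|
 a (a 0<|a (-1)<|a (-1)<|a (-2)<|a (-1)<|a (-1)<|a 0<|a 0<|b)<|
 a (a 0<|a 0<|a 0<|a 0<|a 0<|a (-1)<|a (-1)<|a (-1)<|b)<|
 a (a 0<|a 0<|a 0<|a 0<|a (-1)<|a (-1)<|a (-1)<|a 0<|b)<|
 a (a (-1)<|a 0<|a (-1)<|a (-1)<|a (-1)<|a 0<|a 0<|a 0<|b)<|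
 a (a 0<|a (-1)<|a (-1)<|a (-2)<|a (-1)<|a 0<|a 0<|a 0<|b)<|
 a (a 0<|a 0<|a 0<|a 0<|a 1<|a 0<|a 0<|a 0<|b)<|
 a (a 0<|a 0<|a 0<|a 1<|a 0<|a 0<|a 0<|a 0<|b)<|b))

/-- the functional -/
def U20_20 : Fin 8 → ℤ := ![-1, -1, 1, 0, 0, 0, 0, 0]

theorem tor20_20 : EigOK (hd T20) c20 V20_20 U20_20 :=
  H493.EigF.ok (H493.EigF.hT H493.EigF.t8) H493.EigF.r8 (H493.EigF.mc H493.EigF.r8 <| H493.EigF.mc H493.EigF.r8 <| H493.EigF.mc H493.EigF.r8 <| H493.EigF.mc H493.EigF.r8 <| H493.EigF.mc H493.EigF.r8 <| H493.EigF.mc H493.EigF.r8 <| H493.EigF.mc H493.EigF.r8 <| H493.EigF.mc H493.EigF.r8 <| H493.EigF.m0) H493.EigF.r8 (by decide +kernel)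

/-- the partial products -/
def T24 : List (Fin 8 × Mat 8) := (beta% delta% lq26d5cc8c8c fun a b c d e =>
 (c (d 6 (a (a (-1)<|a 0<|a (-1)<|a (-1)<|a (-1)<|a (-1)<|a (-1)<|a 0<|b)<|
 a (a 0<|a 0<|a (-1)<|a 0<|a 0<|a 0<|a 0<|a 0<|b)<|
 a (a 1<|a 1<|a 1<|a 1<|a 1<|a 1<|a 1<|a 0<|b)<|
 a (a 0<|a (-1)<|a 0<|a (-1)<|a (-1)<|a (-1)<|a (-1)<|a 0<|b)<|
 a (a 0<|a 1<|a 1<|a 2<|a 1<|a 1<|a 1<|a 0<|b)<|
 a (a 0<|a 0<|a 0<|a 0<|a 1<|a 0<|a 0<|a 0<|b)<|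
 a (a 0<|a 0<|a 0<|a 0<|a 0<|a 1<|a 1<|a 1<|b)<|
 a (a 0<|a 0<|a 0<|a 0<|a 0<|a 0<|a (-1)<|a (-1)<|b)<|b))<|
 c (d 7 (a (a (-1)<|a 0<|a (-1)<|a (-1)<|a (-1)<|a (-1)<|a 0<|a 0<|b)<|
 a (a 0<|a 0<|a (-1)<|a 0<|a 0<|a 0<|a 0<|a 0<|b)<|
 a (a 1<|a 1<|a 1<|a 1<|a 1<|a 1<|a 0<|a 0<|b)<|
 a (a 0<|a (-1)<|a 0<|a (-1)<|a (-1)<|a (-1)<|a 0<|a 0<|b)<|
 a (a 0<|a 1<|a 1<|a 2<|a 1<|a 1<|a 0<|a 0<|b)<|
 a (a 0<|a 0<|a 0<|a 0<|a 1<|a 0<|a 0<|a 0<|b)<|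
 a (a 0<|a 0<|a 0<|a 0<|a 0<|a 1<|a 1<|a 1<|b)<|
 a (a 0<|a 0<|a 0<|a 0<|a 0<|a 0<|a 0<|a (-1)<|b)<|b))<|
 c (d 5 (a (a (-1)<|a 0<|a (-1)<|a (-1)<|a (-1)<|a (-1)<|a 0<|a 0<|b)<|
 a (a 0<|a 0<|a (-1)<|a 0<|a 0<|a 0<|a 0<|a 0<|b)<|
 a (a 1<|a 1<|a 1<|a 1<|a 1<|a 1<|a 0<|a 0<|b)<|
 a (a 0<|a (-1)<|a 0<|a (-1)<|a (-1)<|a (-1)<|a 0<|a 0<|b)<|
 a (a 0<|a 1<|a 1<|a 2<|a 1<|a 1<|a 0<|a 0<|b)<|
 a (a 0<|a 0<|a 0<|a 0<|a 1<|a 0<|a 0<|a 0<|b)<|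
 a (a 0<|a 0<|a 0<|a 0<|a 0<|a 1<|a 1<|a 0<|b)<|
 a (a 0<|a 0<|a 0<|a 0<|a 0<|a 0<|a 0<|a 1<|b)<|b))<|
 c (d 4 (a (a (-1)<|a 0<|a (-1)<|a (-1)<|a (-1)<|a 0<|a 0<|a 0<|b)<|
 a (a 0<|a 0<|a (-1)<|a 0<|a 0<|a 0<|a 0<|a 0<|b)<|
 a (a 1<|a 1<|a 1<|a 1<|a 1<|a 0<|a 0<|a 0<|b)<|
 a (a 0<|a (-1)<|a 0<|a (-1)<|a (-1)<|a 0<|a 0<|a 0<|b)<|
 a (a 0<|a 1<|a 1<|a 2<|a 1<|a 0<|a 0<|a 0<|b)<|
 a (a 0<|a 0<|a 0<|a 0<|a 1<|a 1<|a 0<|a 0<|b)<|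
 a (a 0<|a 0<|a 0<|a 0<|a 0<|a 0<|a 1<|a 0<|b)<|
 a (a 0<|a 0<|a 0<|a 0<|a 0<|a 0<|a 0<|a 1<|b)<|b))<|
 c (d 3 (a (a (-1)<|a 0<|a (-1)<|a (-1)<|a 0<|a 0<|a 0<|a 0<|b)<|
 a (a 0<|a 0<|a (-1)<|a 0<|a 0<|a 0<|a 0<|a 0<|b)<|
 a (a 1<|a 1<|a 1<|a 1<|a 0<|a 0<|a 0<|a 0<|b)<|
 a (a 0<|a (-1)<|a 0<|a (-1)<|a 0<|a 0<|a 0<|a 0<|b)<|
 a (a 0<|a 1<|a 1<|a 2<|a 1<|a 0<|a 0<|a 0<|b)<|
 a (a 0<|a 0<|a 0<|a 0<|a 0<|a 1<|a 0<|a 0<|b)<|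
 a (a 0<|a 0<|a 0<|a 0<|a 0<|a 0<|a 1<|a 0<|b)<|
 a (a 0<|a 0<|a 0<|a 0<|a 0<|a 0<|a 0<|a 1<|b)<|b))<|
 c (d 2 (a (a (-1)<|a 0<|a (-1)<|a 0<|a 0<|a 0<|a 0<|a 0<|b)<|
 a (a 0<|a 0<|a (-1)<|a (-1)<|a 0<|a 0<|a 0<|a 0<|b)<|
 a (a 1<|a 1<|a 1<|a 1<|a 0<|a 0<|a 0<|a 0<|b)<|
 a (a 0<|a (-1)<|a 0<|a 0<|a 0<|a 0<|a 0<|a 0<|b)<|
 a (a 0<|a 1<|a 1<|a 1<|a 1<|a 0<|a 0<|a 0<|b)<|
 a (a 0<|a 0<|a 0<|a 0<|a 0<|a 1<|a 0<|a 0<|b)<|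
 a (a 0<|a 0<|a 0<|a 0<|a 0<|a 0<|a 1<|a 0<|b)<|
 a (a 0<|a 0<|a 0<|a 0<|a 0<|a 0<|a 0<|a 1<|b)<|b))<|
 c (d 1 (a (a (-1)<|a 0<|a 0<|a 0<|a 0<|a 0<|a 0<|a 0<|b)<|
 a (a 0<|a 0<|a 0<|a (-1)<|a 0<|a 0<|a 0<|a 0<|b)<|
 a (a 1<|a 1<|a 1<|a 1<|a 0<|a 0<|a 0<|a 0<|b)<|
 a (a 0<|a (-1)<|a 0<|a 0<|a 0<|a 0<|a 0<|a 0<|b)<|
 a (a 0<|a 1<|a 0<|a 1<|a 1<|a 0<|a 0<|a 0<|b)<|
 a (a 0<|a 0<|a 0<|a 0<|a 0<|a 1<|a 0<|a 0<|b)<|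
 a (a 0<|a 0<|a 0<|a 0<|a 0<|a 0<|a 1<|a 0<|b)<|
 a (a 0<|a 0<|a 0<|a 0<|a 0<|a 0<|a 0<|a 1<|b)<|b))<|
 c (d 3 (a (a (-1)<|a 0<|a 0<|a 0<|a 0<|a 0<|a 0<|a 0<|b)<|
 a (a 0<|a (-1)<|a 0<|a (-1)<|a 0<|a 0<|a 0<|a 0<|b)<|
 a (a 1<|a 0<|a 1<|a 1<|a 0<|a 0<|a 0<|a 0<|b)<|
 a (a 0<|a 1<|a 0<|a 0<|a 0<|a 0<|a 0<|a 0<|b)<|
 a (a 0<|a 0<|a 0<|a 1<|a 1<|a 0<|a 0<|a 0<|b)<|
 a (a 0<|a 0<|a 0<|a 0<|a 0<|a 1<|a 0<|a 0<|b)<|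
 a (a 0<|a 0<|a 0<|a 0<|a 0<|a 0<|a 1<|a 0<|b)<|
 a (a 0<|a 0<|a 0<|a 0<|a 0<|a 0<|a 0<|a 1<|b)<|b))<|
 c (d 1 (a (a (-1)<|a 0<|a 0<|a 0<|a 0<|a 0<|a 0<|a 0<|b)<|
 a (a 0<|a (-1)<|a 0<|a 0<|a 0<|a 0<|a 0<|a 0<|b)<|
 a (a 1<|a 0<|a 1<|a 0<|a 0<|a 0<|a 0<|a 0<|b)<|
 a (a 0<|a 1<|a 0<|a 1<|a 0<|a 0<|a 0<|a 0<|b)<|
 a (a 0<|a 0<|a 0<|a 0<|a 1<|a 0<|a 0<|a 0<|b)<|
 a (a 0<|a 0<|a 0<|a 0<|a 0<|a 1<|a 0<|a 0<|b)<|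
 a (a 0<|a 0<|a 0<|a 0<|a 0<|a 0<|a 1<|a 0<|b)<|
 a (a 0<|a 0<|a 0<|a 0<|a 0<|a 0<|a 0<|a 1<|b)<|b))<|
 c (d 0 (a (a (-1)<|a 0<|a 0<|a 0<|a 0<|a 0<|a 0<|a 0<|b)<|
 a (a 0<|a 1<|a 0<|a 0<|a 0<|a 0<|a 0<|a 0<|b)<|
 a (a 1<|a 0<|a 1<|a 0<|a 0<|a 0<|a 0<|a 0<|b)<|
 a (a 0<|a 0<|a 0<|a 1<|a 0<|a 0<|a 0<|a 0<|b)<|
 a (a 0<|a 0<|a 0<|a 0<|a 1<|a 0<|a 0<|a 0<|b)<|
 a (a 0<|a 0<|a 0<|a 0<|a 0<|a 1<|a 0<|a 0<|b)<|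
 a (a 0<|a 0<|a 0<|a 0<|a 0<|a 0<|a 1<|a 0<|b)<|
 a (a 0<|a 0<|a 0<|a 0<|a 0<|a 0<|a 0<|a 1<|b)<|b))<|e))

theorem chain24 : ChainOK Am T24 :=
  H129.ChainF.ok H129.ChainF.i8 H129.ChainF.m8 (H129.ChainF.c8 <| H129.ChainF.c8 <| H129.ChainF.c8 <| H129.ChainF.c8 <| H129.ChainF.c8 <| H129.ChainF.c8 <| H129.ChainF.c8 <| H129.ChainF.c8 <| H129.ChainF.c8 <| H129.ChainF.c8 <| H129.ChainF.nil) (by decide +kernel)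

/-- the eigenvector -/
def V24_24 : Fin (7 + 1) → Fin 8 → ℤ := (beta% delta% lq26d5cc8c8c fun a b _ _ _ =>
 (a (a 0<|a 1<|a 0<|a 0<|a 0<|a 0<|a 0<|a 0<|b)<|
 a (a 1<|a 0<|a 1<|a 0<|a 0<|a 0<|a 0<|a 0<|b)<|
 a (a 0<|a 0<|a 1<|a 1<|a 0<|a 0<|a 0<|a 0<|b)<|
 a (a 0<|a 0<|a 0<|a 1<|a 1<|a 0<|a 0<|a 0<|b)<|
 a (a 0<|a 0<|a 0<|a 1<|a 1<|a 1<|a 0<|a 0<|b)<|
 a (a 0<|a 1<|a 0<|a 1<|a 1<|a 1<|a 1<|a 1<|b)<|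
 a (a 1<|a 1<|a 1<|a 1<|a 1<|a 1<|a 1<|a 0<|b)<|
 a (a 0<|a 0<|a 1<|a 0<|a 0<|a 0<|a 0<|a 0<|b)<|b))

/-- the functional -/
def U24_24 : Fin 8 → ℤ := ![0, 1, 0, 0, 0, 0, -1, 0]

theorem tor24_24 : EigOK (hd T24) c24 V24_24 U24_24 :=
  H493.EigF.ok (H493.EigF.hT H493.EigF.t8) H493.EigF.r8 (H493.EigF.mc H493.EigF.r8 <| H493.EigF.mc H493.EigF.r8 <| H493.EigF.mc H493.EigF.r8 <| H493.EigF.mc H493.EigF.r8 <| H493.EigF.mc H493.EigF.r8 <| H493.EigF.mc H493.EigF.r8 <| H493.EigF.mc H493.EigF.r8 <| H493.EigF.mc H493.EigF.r8 <| H493.EigF.m0) H493.EigF.r8 (by decide +kernel)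

/-- the partial products -/
def T30 : List (Fin 8 × Mat 8) := (beta% delta% lq26d5cc8c8c fun a b c d e =>
 (c (d 7 (a (a 0<|a 0<|a 1<|a 0<|a 0<|a 0<|a 0<|a 0<|b)<|
 a (a (-1)<|a (-1)<|a (-1)<|a (-1)<|a (-1)<|a (-1)<|a 0<|a 0<|b)<|
 a (a 0<|a 0<|a 0<|a 1<|a 1<|a 1<|a 0<|a 0<|b)<|
 a (a 0<|a 1<|a 0<|a 0<|a 0<|a 0<|a 0<|a 0<|b)<|
 a (a 1<|a 0<|a 1<|a 1<|a 0<|a 0<|a 0<|a 0<|b)<|
 a (a 0<|a 0<|a 0<|a 0<|a 1<|a 1<|a 1<|a 1<|b)<|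
 a (a 0<|a 0<|a 0<|a 0<|a 0<|a (-1)<|a (-1)<|a (-1)<|b)<|
 a (a 0<|a 0<|a 0<|a 0<|a 0<|a 1<|a 1<|a 0<|b)<|b))<|
 c (d 5 (a (a 0<|a 0<|a 1<|a 0<|a 0<|a 0<|a 0<|a 0<|b)<|
 a (a (-1)<|a (-1)<|a (-1)<|a (-1)<|a (-1)<|a (-1)<|a 0<|a 0<|b)<|
 a (a 0<|a 0<|a 0<|a 1<|a 1<|a 1<|a 0<|a 0<|b)<|
 a (a 0<|a 1<|a 0<|a 0<|a 0<|a 0<|a 0<|a 0<|b)<|
 a (a 1<|a 0<|a 1<|a 1<|a 0<|a 0<|a 0<|a 0<|b)<|
 a (a 0<|a 0<|a 0<|a 0<|a 1<|a 1<|a 1<|a 0<|b)<|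
 a (a 0<|a 0<|a 0<|a 0<|a 0<|a (-1)<|a (-1)<|a 0<|b)<|
 a (a 0<|a 0<|a 0<|a 0<|a 0<|a 1<|a 1<|a 1<|b)<|b))<|
 c (d 6 (a (a 0<|a 0<|a 1<|a 0<|a 0<|a 0<|a 0<|a 0<|b)<|
 a (a (-1)<|a (-1)<|a (-1)<|a (-1)<|a (-1)<|a 0<|a 0<|a 0<|b)<|
 a (a 0<|a 0<|a 0<|a 1<|a 1<|a 0<|a 0<|a 0<|b)<|
 a (a 0<|a 1<|a 0<|a 0<|a 0<|a 0<|a 0<|a 0<|b)<|
 a (a 1<|a 0<|a 1<|a 1<|a 0<|a 0<|a 0<|a 0<|b)<|
 a (a 0<|a 0<|a 0<|a 0<|a 1<|a 1<|a 1<|a 0<|b)<|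
 a (a 0<|a 0<|a 0<|a 0<|a 0<|a 0<|a (-1)<|a 0<|b)<|
 a (a 0<|a 0<|a 0<|a 0<|a 0<|a 0<|a 1<|a 1<|b)<|b))<|
 c (d 4 (a (a 0<|a 0<|a 1<|a 0<|a 0<|a 0<|a 0<|a 0<|b)<|
 a (a (-1)<|a (-1)<|a (-1)<|a (-1)<|a (-1)<|a 0<|a 0<|a 0<|b)<|
 a (a 0<|a 0<|a 0<|a 1<|a 1<|a 0<|a 0<|a 0<|b)<|
 a (a 0<|a 1<|a 0<|a 0<|a 0<|a 0<|a 0<|a 0<|b)<|
 a (a 1<|a 0<|a 1<|a 1<|a 0<|a 0<|a 0<|a 0<|b)<|
 a (a 0<|a 0<|a 0<|a 0<|a 1<|a 1<|a 0<|a 0<|b)<|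
 a (a 0<|a 0<|a 0<|a 0<|a 0<|a 0<|a 1<|a 0<|b)<|
 a (a 0<|a 0<|a 0<|a 0<|a 0<|a 0<|a 0<|a 1<|b)<|b))<|
 c (d 0 (a (a 0<|a 0<|a 1<|a 0<|a 0<|a 0<|a 0<|a 0<|b)<|
 a (a (-1)<|a (-1)<|a (-1)<|a (-1)<|a 0<|a 0<|a 0<|a 0<|b)<|
 a (a 0<|a 0<|a 0<|a 1<|a 0<|a 0<|a 0<|a 0<|b)<|
 a (a 0<|a 1<|a 0<|a 0<|a 0<|a 0<|a 0<|a 0<|b)<|
 a (a 1<|a 0<|a 1<|a 1<|a 1<|a 0<|a 0<|a 0<|b)<|
 a (a 0<|a 0<|a 0<|a 0<|a 0<|a 1<|a 0<|a 0<|b)<|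
 a (a 0<|a 0<|a 0<|a 0<|a 0<|a 0<|a 1<|a 0<|b)<|
 a (a 0<|a 0<|a 0<|a 0<|a 0<|a 0<|a 0<|a 1<|b)<|b))<|
 c (d 2 (a (a 1<|a 0<|a 1<|a 0<|a 0<|a 0<|a 0<|a 0<|b)<|
 a (a 0<|a (-1)<|a (-1)<|a (-1)<|a 0<|a 0<|a 0<|a 0<|b)<|
 a (a 0<|a 0<|a 0<|a 1<|a 0<|a 0<|a 0<|a 0<|b)<|
 a (a 0<|a 1<|a 0<|a 0<|a 0<|a 0<|a 0<|a 0<|b)<|
 a (a 0<|a 0<|a 1<|a 1<|a 1<|a 0<|a 0<|a 0<|b)<|
 a (a 0<|a 0<|a 0<|a 0<|a 0<|a 1<|a 0<|a 0<|b)<|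
 a (a 0<|a 0<|a 0<|a 0<|a 0<|a 0<|a 1<|a 0<|b)<|
 a (a 0<|a 0<|a 0<|a 0<|a 0<|a 0<|a 0<|a 1<|b)<|b))<|
 c (d 3 (a (a 1<|a 0<|a 0<|a 0<|a 0<|a 0<|a 0<|a 0<|b)<|
 a (a 0<|a (-1)<|a 0<|a (-1)<|a 0<|a 0<|a 0<|a 0<|b)<|
 a (a 0<|a 0<|a 1<|a 1<|a 0<|a 0<|a 0<|a 0<|b)<|
 a (a 0<|a 1<|a 0<|a 0<|a 0<|a 0<|a 0<|a 0<|b)<|
 a (a 0<|a 0<|a 0<|a 1<|a 1<|a 0<|a 0<|a 0<|b)<|
 a (a 0<|a 0<|a 0<|a 0<|a 0<|a 1<|a 0<|a 0<|b)<|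
 a (a 0<|a 0<|a 0<|a 0<|a 0<|a 0<|a 1<|a 0<|b)<|
 a (a 0<|a 0<|a 0<|a 0<|a 0<|a 0<|a 0<|a 1<|b)<|b))<|
 c (d 1 (a (a 1<|a 0<|a 0<|a 0<|a 0<|a 0<|a 0<|a 0<|b)<|
 a (a 0<|a (-1)<|a 0<|a 0<|a 0<|a 0<|a 0<|a 0<|b)<|
 a (a 0<|a 0<|a 1<|a 0<|a 0<|a 0<|a 0<|a 0<|b)<|
 a (a 0<|a 1<|a 0<|a 1<|a 0<|a 0<|a 0<|a 0<|b)<|
 a (a 0<|a 0<|a 0<|a 0<|a 1<|a 0<|a 0<|a 0<|b)<|
 a (a 0<|a 0<|a 0<|a 0<|a 0<|a 1<|a 0<|a 0<|b)<|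
 a (a 0<|a 0<|a 0<|a 0<|a 0<|a 0<|a 1<|a 0<|b)<|
 a (a 0<|a 0<|a 0<|a 0<|a 0<|a 0<|a 0<|a 1<|b)<|b))<|e))

theorem chain30 : ChainOK Am T30 :=
  H129.ChainF.ok H129.ChainF.i8 H129.ChainF.m8 (H129.ChainF.c8 <| H129.ChainF.c8 <| H129.ChainF.c8 <| H129.ChainF.c8 <| H129.ChainF.c8 <| H129.ChainF.c8 <| H129.ChainF.c8 <| H129.ChainF.c8 <| H129.ChainF.nil) (by decide +kernel)

/-- the eigenvector -/
def V30_30 : Fin (7 + 1) → Fin 8 → ℤ := (beta% delta% lq26d5cc8c8c fun a b _ _ _ =>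
 (a (a 0<|a (-1)<|a (-1)<|a 0<|a 0<|a 0<|a 0<|a 0<|b)<|
 a (a (-1)<|a (-1)<|a (-1)<|a (-1)<|a 0<|a 0<|a 0<|a 0<|b)<|
 a (a 0<|a 0<|a 0<|a (-1)<|a (-1)<|a 0<|a 0<|a 0<|b)<|
 a (a 0<|a 0<|a 0<|a (-1)<|a (-1)<|a (-1)<|a (-1)<|a 0<|b)<|
 a (a 0<|a 0<|a 0<|a (-1)<|a (-1)<|a (-1)<|a (-1)<|a (-1)<|b)<|
 a (a 0<|a 0<|a 0<|a (-1)<|a (-1)<|a (-1)<|a 0<|a 0<|b)<|
 a (a 0<|a 0<|a (-1)<|a 0<|a 0<|a 0<|a 0<|a 0<|b)<|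
 a (a (-1)<|a (-1)<|a (-1)<|a 0<|a 0<|a 0<|a 0<|a 0<|b)<|b))

/-- the functional -/
def U30_30 : Fin 8 → ℤ := ![1, -1, 0, 0, 0, 0, 0, 0]

theorem tor30_30 : EigOK (hd T30) c30 V30_30 U30_30 :=
  H493.EigF.ok (H493.EigF.hT H493.EigF.t8) H493.EigF.r8 (H493.EigF.mc H493.EigF.r8 <| H493.EigF.mc H493.EigF.r8 <| H493.EigF.mc H493.EigF.r8 <| H493.EigF.mc H493.EigF.r8 <| H493.EigF.mc H493.EigF.r8 <| H493.EigF.mc H493.EigF.r8 <| H493.EigF.mc H493.EigF.r8 <| H493.EigF.mc H493.EigF.r8 <| H493.EigF.m0) H493.EigF.r8 (by decide +kernel)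

end Cfsg.Agent.H378.AdjE8
end

-- part: H378/AdjE7
section
set_option linter.all false
open scoped Cfsg.Agent.FastGrp
private noncomputable def lq268d2346c6 {T : Sort _} (f :
    type_of% (@_root_.Matrix.vecCons.{0}) →
    type_of% (@_root_.Matrix.vecEmpty.{0}) →
    type_of% (@_root_.List.cons.{0}) →
    type_of% (@_root_.Prod.mk.{0, 0}) →
    type_of% (@_root_.List.nil.{0}) → T) : T :=
  f (@_root_.Matrix.vecCons.{0}) (@_root_.Matrix.vecEmpty.{0}) (@_root_.List.cons.{0}) (@_root_.Prod.mk.{0, 0}) (@_root_.List.nil.{0})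

/-!
# Weyl group elements of type E7 (helper378)

`rowM` : a product of simple reflections fixing the highest root with the eigenvalue of order `M`;
`torM_m` : a product of simple reflections with the eigenvalues of order `M` and `m`.
-/

set_option autoImplicit false

namespace Cfsg.Agent.H378.AdjE7

open Cfsg.Agent.H129.WData Cfsg.Agent.H378.AdjTab Cfsg.Agent.H378.CycTab Cfsg.Agent.H493.PGTorus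
open Cfsg.Agent.ChevalleyStructure.CoxeterGeomTypes Cfsg.Agent.Nodes.RGDChev
open Cfsg.Lie Cfsg.Lie.ChevalleyDatum

/-- the Cartan matrix -/
def Am : Mat 7 := (beta% delta% lq268d2346c6 fun a b _ _ _ =>
 (a (a 2<|a 0<|a (-1)<|a 0<|a 0<|a 0<|a 0<|b)<|
 a (a 0<|a 2<|a 0<|a (-1)<|a 0<|a 0<|a 0<|b)<|
 a (a (-1)<|a 0<|a 2<|a (-1)<|a 0<|a 0<|a 0<|b)<|
 a (a 0<|a (-1)<|a (-1)<|a 2<|a (-1)<|a 0<|a 0<|b)<|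
 a (a 0<|a 0<|a 0<|a (-1)<|a 2<|a (-1)<|a 0<|b)<|
 a (a 0<|a 0<|a 0<|a 0<|a (-1)<|a 2<|a (-1)<|b)<|
 a (a 0<|a 0<|a 0<|a 0<|a 0<|a (-1)<|a 2<|b)<|b))

theorem hA : ∀ i j, Am i j = cartanOf chevE7 7 i j :=
  H129.RootF.cE7

/-- the highest root -/
def hi : Fin 7 → ℤ := ![2, 2, 3, 4, 3, 2, 1]

theorem lt_nroots : 125 < chevE7.nroots := by decide +kernel

theorem vec_hi : vec chevE7 7 125 = hi := by
  have h : ∀ i : Fin 7, vec chevE7 7 125 i = hi i := by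
    unfold vec
    decide +kernel
  exact funext h

theorem orth : SmallTor.Orth chevE7 7 1 0 3 where
  hr := by decide +kernel
  hs := by decide +kernel
  zero := by decide +kernel
  odd := by decide +kernel

/-- the partial products -/
def L2 : List (Fin 7 × Mat 7) := (beta% delta% lq268d2346c6 fun a b c d e =>
 (c (d 1 (a (a 1<|a 0<|a 0<|a 0<|a 0<|a 0<|a 0<|b)<|
 a (a 0<|a (-1)<|a 0<|a 0<|a 0<|a 0<|a 0<|b)<|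
 a (a 0<|a 0<|a 1<|a 0<|a 0<|a 0<|a 0<|b)<|
 a (a 0<|a 1<|a 0<|a 1<|a 0<|a 0<|a 0<|b)<|
 a (a 0<|a 0<|a 0<|a 0<|a 1<|a 0<|a 0<|b)<|
 a (a 0<|a 0<|a 0<|a 0<|a 0<|a 1<|a 0<|b)<|
 a (a 0<|a 0<|a 0<|a 0<|a 0<|a 0<|a 1<|b)<|b))<|e))

/-- the eigenvector -/
def V2 : Fin (0 + 1) → Fin 7 → ℤ := ![![0, 1, 0, 0, 0, 0, 0]]

/-- the functional -/
def U2 : Fin 7 → ℤ := ![0, 1, 0, 0, 0, 0, 0]

theorem row2 : RowOK Am L2 (vec chevE7 7 125) c2 V2 U2 := by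
  rw [vec_hi]
  exact ⟨H129.ChainF.ok H129.ChainF.i7 H129.ChainF.m7 (H129.ChainF.c7 <| H129.ChainF.nil) (by decide +kernel), by decide +kernel,
    H493.EigF.ok (H493.EigF.hT H493.EigF.t7) H493.EigF.r1 (H493.EigF.mc H493.EigF.r7 <| H493.EigF.m0) H493.EigF.r7 (by decide +kernel)⟩

/-- the partial products -/
def L3 : List (Fin 7 × Mat 7) := (beta% delta% lq268d2346c6 fun a b c d e =>
 (c (d 1 (a (a 1<|a 0<|a 0<|a 0<|a 0<|a 0<|a 0<|b)<|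
 a (a 0<|a 0<|a 0<|a 1<|a 0<|a 0<|a 0<|b)<|
 a (a 0<|a 1<|a 1<|a 1<|a 0<|a 0<|a 0<|b)<|
 a (a 0<|a (-1)<|a 0<|a (-1)<|a 0<|a 0<|a 0<|b)<|
 a (a 0<|a 1<|a 0<|a 1<|a 1<|a 0<|a 0<|b)<|
 a (a 0<|a 0<|a 0<|a 0<|a 0<|a 1<|a 0<|b)<|
 a (a 0<|a 0<|a 0<|a 0<|a 0<|a 0<|a 1<|b)<|b))<|
 c (d 3 (a (a 1<|a 0<|a 0<|a 0<|a 0<|a 0<|a 0<|b)<|
 a (a 0<|a 1<|a 0<|a 1<|a 0<|a 0<|a 0<|b)<|
 a (a 0<|a 0<|a 1<|a 1<|a 0<|a 0<|a 0<|b)<|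
 a (a 0<|a 0<|a 0<|a (-1)<|a 0<|a 0<|a 0<|b)<|
 a (a 0<|a 0<|a 0<|a 1<|a 1<|a 0<|a 0<|b)<|
 a (a 0<|a 0<|a 0<|a 0<|a 0<|a 1<|a 0<|b)<|
 a (a 0<|a 0<|a 0<|a 0<|a 0<|a 0<|a 1<|b)<|b))<|e))

/-- the eigenvector -/
def V3 : Fin (1 + 1) → Fin 7 → ℤ := (beta% delta% lq268d2346c6 fun a b _ _ _ =>
 (a (a 0<|a (-1)<|a 0<|a 0<|a 0<|a 0<|a 0<|b)<|
 a (a 0<|a 0<|a 0<|a 1<|a 0<|a 0<|a 0<|b)<|b))

/-- the functional -/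
def U3 : Fin 7 → ℤ := ![0, -1, 0, 0, 0, 0, 0]

theorem row3 : RowOK Am L3 (vec chevE7 7 125) c3 V3 U3 := by
  rw [vec_hi]
  exact ⟨H129.ChainF.ok H129.ChainF.i7 H129.ChainF.m7 (H129.ChainF.c7 <| H129.ChainF.c7 <| H129.ChainF.nil) (by decide +kernel), by decide +kernel,
    H493.EigF.ok (H493.EigF.hT H493.EigF.t7) H493.EigF.r2 (H493.EigF.mc H493.EigF.r7 <| H493.EigF.mc H493.EigF.r7 <| H493.EigF.m0) H493.EigF.r7 (by decide +kernel)⟩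

/-- the partial products -/
def L4 : List (Fin 7 × Mat 7) := (beta% delta% lq268d2346c6 fun a b c d e =>
 (c (d 1 (a (a 1<|a 0<|a 1<|a 0<|a 0<|a 0<|a 0<|b)<|
 a (a 0<|a 0<|a 1<|a 1<|a 0<|a 0<|a 0<|b)<|
 a (a 0<|a 1<|a 0<|a 1<|a 0<|a 0<|a 0<|b)<|
 a (a 0<|a (-1)<|a (-1)<|a (-1)<|a 0<|a 0<|a 0<|b)<|
 a (a 0<|a 1<|a 1<|a 1<|a 1<|a 0<|a 0<|b)<|
 a (a 0<|a 0<|a 0<|a 0<|a 0<|a 1<|a 0<|b)<|
 a (a 0<|a 0<|a 0<|a 0<|a 0<|a 0<|a 1<|b)<|b))<|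
 c (d 2 (a (a 1<|a 0<|a 1<|a 0<|a 0<|a 0<|a 0<|b)<|
 a (a 0<|a 1<|a 1<|a 1<|a 0<|a 0<|a 0<|b)<|
 a (a 0<|a 0<|a 0<|a 1<|a 0<|a 0<|a 0<|b)<|
 a (a 0<|a 0<|a (-1)<|a (-1)<|a 0<|a 0<|a 0<|b)<|
 a (a 0<|a 0<|a 1<|a 1<|a 1<|a 0<|a 0<|b)<|
 a (a 0<|a 0<|a 0<|a 0<|a 0<|a 1<|a 0<|b)<|
 a (a 0<|a 0<|a 0<|a 0<|a 0<|a 0<|a 1<|b)<|b))<|
 c (d 3 (a (a 1<|a 0<|a 0<|a 0<|a 0<|a 0<|a 0<|b)<|
 a (a 0<|a 1<|a 0<|a 1<|a 0<|a 0<|a 0<|b)<|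
 a (a 0<|a 0<|a 1<|a 1<|a 0<|a 0<|a 0<|b)<|
 a (a 0<|a 0<|a 0<|a (-1)<|a 0<|a 0<|a 0<|b)<|
 a (a 0<|a 0<|a 0<|a 1<|a 1<|a 0<|a 0<|b)<|
 a (a 0<|a 0<|a 0<|a 0<|a 0<|a 1<|a 0<|b)<|
 a (a 0<|a 0<|a 0<|a 0<|a 0<|a 0<|a 1<|b)<|b))<|e))

/-- the eigenvector -/
def V4 : Fin (1 + 1) → Fin 7 → ℤ := (beta% delta% lq268d2346c6 fun a b _ _ _ =>
 (a (a 0<|a (-1)<|a (-1)<|a (-1)<|a 0<|a 0<|a 0<|b)<|
 a (a 0<|a 0<|a 0<|a 1<|a 0<|a 0<|a 0<|b)<|b))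

/-- the functional -/
def U4 : Fin 7 → ℤ := ![0, -1, 0, 0, 0, 0, 0]

theorem row4 : RowOK Am L4 (vec chevE7 7 125) c4 V4 U4 := by
  rw [vec_hi]
  exact ⟨H129.ChainF.ok H129.ChainF.i7 H129.ChainF.m7 (H129.ChainF.c7 <| H129.ChainF.c7 <| H129.ChainF.c7 <| H129.ChainF.nil) (by decide +kernel), by decide +kernel,
    H493.EigF.ok (H493.EigF.hT H493.EigF.t7) H493.EigF.r2 (H493.EigF.mc H493.EigF.r7 <| H493.EigF.mc H493.EigF.r7 <| H493.EigF.m0) H493.EigF.r7 (by decide +kernel)⟩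

/-- the partial products -/
def L5 : List (Fin 7 × Mat 7) := (beta% delta% lq268d2346c6 fun a b c d e =>
 (c (d 1 (a (a 1<|a 0<|a 0<|a 0<|a 0<|a 0<|a 0<|b)<|
 a (a 0<|a 0<|a 0<|a 1<|a 0<|a 0<|a 0<|b)<|
 a (a 0<|a 1<|a 1<|a 1<|a 0<|a 0<|a 0<|b)<|
 a (a 0<|a 0<|a 0<|a 0<|a 1<|a 0<|a 0<|b)<|
 a (a 0<|a 0<|a 0<|a 0<|a 0<|a 1<|a 0<|b)<|
 a (a 0<|a (-1)<|a 0<|a (-1)<|a (-1)<|a (-1)<|a 0<|b)<|
 a (a 0<|a 1<|a 0<|a 1<|a 1<|a 1<|a 1<|b)<|b))<|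
 c (d 3 (a (a 1<|a 0<|a 0<|a 0<|a 0<|a 0<|a 0<|b)<|
 a (a 0<|a 1<|a 0<|a 1<|a 0<|a 0<|a 0<|b)<|
 a (a 0<|a 0<|a 1<|a 1<|a 0<|a 0<|a 0<|b)<|
 a (a 0<|a 0<|a 0<|a 0<|a 1<|a 0<|a 0<|b)<|
 a (a 0<|a 0<|a 0<|a 0<|a 0<|a 1<|a 0<|b)<|
 a (a 0<|a 0<|a 0<|a (-1)<|a (-1)<|a (-1)<|a 0<|b)<|
 a (a 0<|a 0<|a 0<|a 1<|a 1<|a 1<|a 1<|b)<|b))<|
 c (d 4 (a (a 1<|a 0<|a 0<|a 0<|a 0<|a 0<|a 0<|b)<|
 a (a 0<|a 1<|a 0<|a 0<|a 0<|a 0<|a 0<|b)<|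
 a (a 0<|a 0<|a 1<|a 0<|a 0<|a 0<|a 0<|b)<|
 a (a 0<|a 0<|a 0<|a 1<|a 1<|a 0<|a 0<|b)<|
 a (a 0<|a 0<|a 0<|a 0<|a 0<|a 1<|a 0<|b)<|
 a (a 0<|a 0<|a 0<|a 0<|a (-1)<|a (-1)<|a 0<|b)<|
 a (a 0<|a 0<|a 0<|a 0<|a 1<|a 1<|a 1<|b)<|b))<|
 c (d 5 (a (a 1<|a 0<|a 0<|a 0<|a 0<|a 0<|a 0<|b)<|
 a (a 0<|a 1<|a 0<|a 0<|a 0<|a 0<|a 0<|b)<|
 a (a 0<|a 0<|a 1<|a 0<|a 0<|a 0<|a 0<|b)<|
 a (a 0<|a 0<|a 0<|a 1<|a 0<|a 0<|a 0<|b)<|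
 a (a 0<|a 0<|a 0<|a 0<|a 1<|a 1<|a 0<|b)<|
 a (a 0<|a 0<|a 0<|a 0<|a 0<|a (-1)<|a 0<|b)<|
 a (a 0<|a 0<|a 0<|a 0<|a 0<|a 1<|a 1<|b)<|b))<|e))

/-- the eigenvector -/
def V5 : Fin (3 + 1) → Fin 7 → ℤ := (beta% delta% lq268d2346c6 fun a b _ _ _ =>
 (a (a 0<|a 1<|a 0<|a 0<|a 1<|a 0<|a 0<|b)<|
 a (a 0<|a 0<|a 0<|a 0<|a 0<|a (-1)<|a 0<|b)<|
 a (a 0<|a 1<|a 0<|a 0<|a 0<|a 0<|a 0<|b)<|
 a (a 0<|a 0<|a 0<|a (-1)<|a 0<|a (-1)<|a 0<|b)<|b))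

/-- the functional -/
def U5 : Fin 7 → ℤ := ![0, 0, 0, 0, 1, 0, 0]

theorem row5 : RowOK Am L5 (vec chevE7 7 125) c5 V5 U5 := by
  rw [vec_hi]
  exact ⟨H129.ChainF.ok H129.ChainF.i7 H129.ChainF.m7 (H129.ChainF.c7 <| H129.ChainF.c7 <| H129.ChainF.c7 <| H129.ChainF.c7 <| H129.ChainF.nil) (by decide +kernel), by decide +kernel,
    H493.EigF.ok (H493.EigF.hT H493.EigF.t7) H493.EigF.r4 (H493.EigF.mc H493.EigF.r7 <| H493.EigF.mc H493.EigF.r7 <| H493.EigF.mc H493.EigF.r7 <| H493.EigF.mc H493.EigF.r7 <| H493.EigF.m0) H493.EigF.r7 (by decide +kernel)⟩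

/-- the partial products -/
def L6 : List (Fin 7 × Mat 7) := (beta% delta% lq268d2346c6 fun a b c d e =>
 (c (d 1 (a (a 1<|a 0<|a 1<|a 0<|a 0<|a 0<|a 0<|b)<|
 a (a 0<|a 0<|a 1<|a 1<|a 0<|a 0<|a 0<|b)<|
 a (a 0<|a 1<|a 0<|a 1<|a 0<|a 0<|a 0<|b)<|
 a (a 0<|a 0<|a 0<|a 0<|a 1<|a 0<|a 0<|b)<|
 a (a 0<|a (-1)<|a (-1)<|a (-1)<|a (-1)<|a 0<|a 0<|b)<|
 a (a 0<|a 1<|a 1<|a 1<|a 1<|a 1<|a 0<|b)<|
 a (a 0<|a 0<|a 0<|a 0<|a 0<|a 0<|a 1<|b)<|b))<|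
 c (d 2 (a (a 1<|a 0<|a 1<|a 0<|a 0<|a 0<|a 0<|b)<|
 a (a 0<|a 1<|a 1<|a 1<|a 0<|a 0<|a 0<|b)<|
 a (a 0<|a 0<|a 0<|a 1<|a 0<|a 0<|a 0<|b)<|
 a (a 0<|a 0<|a 0<|a 0<|a 1<|a 0<|a 0<|b)<|
 a (a 0<|a 0<|a (-1)<|a (-1)<|a (-1)<|a 0<|a 0<|b)<|
 a (a 0<|a 0<|a 1<|a 1<|a 1<|a 1<|a 0<|b)<|
 a (a 0<|a 0<|a 0<|a 0<|a 0<|a 0<|a 1<|b)<|b))<|
 c (d 3 (a (a 1<|a 0<|a 0<|a 0<|a 0<|a 0<|a 0<|b)<|
 a (a 0<|a 1<|a 0<|a 1<|a 0<|a 0<|a 0<|b)<|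
 a (a 0<|a 0<|a 1<|a 1<|a 0<|a 0<|a 0<|b)<|
 a (a 0<|a 0<|a 0<|a 0<|a 1<|a 0<|a 0<|b)<|
 a (a 0<|a 0<|a 0<|a (-1)<|a (-1)<|a 0<|a 0<|b)<|
 a (a 0<|a 0<|a 0<|a 1<|a 1<|a 1<|a 0<|b)<|
 a (a 0<|a 0<|a 0<|a 0<|a 0<|a 0<|a 1<|b)<|b))<|
 c (d 4 (a (a 1<|a 0<|a 0<|a 0<|a 0<|a 0<|a 0<|b)<|
 a (a 0<|a 1<|a 0<|a 0<|a 0<|a 0<|a 0<|b)<|
 a (a 0<|a 0<|a 1<|a 0<|a 0<|a 0<|a 0<|b)<|
 a (a 0<|a 0<|a 0<|a 1<|a 1<|a 0<|a 0<|b)<|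
 a (a 0<|a 0<|a 0<|a 0<|a (-1)<|a 0<|a 0<|b)<|
 a (a 0<|a 0<|a 0<|a 0<|a 1<|a 1<|a 0<|b)<|
 a (a 0<|a 0<|a 0<|a 0<|a 0<|a 0<|a 1<|b)<|b))<|e))

/-- the eigenvector -/
def V6 : Fin (1 + 1) → Fin 7 → ℤ := (beta% delta% lq268d2346c6 fun a b _ _ _ =>
 (a (a 0<|a 0<|a 0<|a 1<|a 1<|a 0<|a 0<|b)<|
 a (a 0<|a 1<|a 1<|a 1<|a 0<|a 0<|a 0<|b)<|b))

/-- the functional -/
def U6 : Fin 7 → ℤ := ![0, -1, 0, 1, 0, 0, 0]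

theorem row6 : RowOK Am L6 (vec chevE7 7 125) c6 V6 U6 := by
  rw [vec_hi]
  exact ⟨H129.ChainF.ok H129.ChainF.i7 H129.ChainF.m7 (H129.ChainF.c7 <| H129.ChainF.c7 <| H129.ChainF.c7 <| H129.ChainF.c7 <| H129.ChainF.nil) (by decide +kernel), by decide +kernel,
    H493.EigF.ok (H493.EigF.hT H493.EigF.t7) H493.EigF.r2 (H493.EigF.mc H493.EigF.r7 <| H493.EigF.mc H493.EigF.r7 <| H493.EigF.m0) H493.EigF.r7 (by decide +kernel)⟩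

/-- the partial products -/
def L8 : List (Fin 7 × Mat 7) := (beta% delta% lq268d2346c6 fun a b c d e =>
 (c (d 1 (a (a 1<|a 0<|a 1<|a 0<|a 0<|a 0<|a 0<|b)<|
 a (a 0<|a 0<|a 1<|a 1<|a 0<|a 0<|a 0<|b)<|
 a (a 0<|a 1<|a 0<|a 1<|a 0<|a 0<|a 0<|b)<|
 a (a 0<|a 0<|a 0<|a 0<|a 1<|a 0<|a 0<|b)<|
 a (a 0<|a 0<|a 0<|a 0<|a 0<|a 1<|a 0<|b)<|
 a (a 0<|a (-1)<|a (-1)<|a (-1)<|a (-1)<|a (-1)<|a 0<|b)<|
 a (a 0<|a 1<|a 1<|a 1<|a 1<|a 1<|a 1<|b)<|b))<|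
 c (d 2 (a (a 1<|a 0<|a 1<|a 0<|a 0<|a 0<|a 0<|b)<|
 a (a 0<|a 1<|a 1<|a 1<|a 0<|a 0<|a 0<|b)<|
 a (a 0<|a 0<|a 0<|a 1<|a 0<|a 0<|a 0<|b)<|
 a (a 0<|a 0<|a 0<|a 0<|a 1<|a 0<|a 0<|b)<|
 a (a 0<|a 0<|a 0<|a 0<|a 0<|a 1<|a 0<|b)<|
 a (a 0<|a 0<|a (-1)<|a (-1)<|a (-1)<|a (-1)<|a 0<|b)<|
 a (a 0<|a 0<|a 1<|a 1<|a 1<|a 1<|a 1<|b)<|b))<|
 c (d 3 (a (a 1<|a 0<|a 0<|a 0<|a 0<|a 0<|a 0<|b)<|
 a (a 0<|a 1<|a 0<|a 1<|a 0<|a 0<|a 0<|b)<|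
 a (a 0<|a 0<|a 1<|a 1<|a 0<|a 0<|a 0<|b)<|
 a (a 0<|a 0<|a 0<|a 0<|a 1<|a 0<|a 0<|b)<|
 a (a 0<|a 0<|a 0<|a 0<|a 0<|a 1<|a 0<|b)<|
 a (a 0<|a 0<|a 0<|a (-1)<|a (-1)<|a (-1)<|a 0<|b)<|
 a (a 0<|a 0<|a 0<|a 1<|a 1<|a 1<|a 1<|b)<|b))<|
 c (d 4 (a (a 1<|a 0<|a 0<|a 0<|a 0<|a 0<|a 0<|b)<|
 a (a 0<|a 1<|a 0<|a 0<|a 0<|a 0<|a 0<|b)<|
 a (a 0<|a 0<|a 1<|a 0<|a 0<|a 0<|a 0<|b)<|
 a (a 0<|a 0<|a 0<|a 1<|a 1<|a 0<|a 0<|b)<|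
 a (a 0<|a 0<|a 0<|a 0<|a 0<|a 1<|a 0<|b)<|
 a (a 0<|a 0<|a 0<|a 0<|a (-1)<|a (-1)<|a 0<|b)<|
 a (a 0<|a 0<|a 0<|a 0<|a 1<|a 1<|a 1<|b)<|b))<|
 c (d 5 (a (a 1<|a 0<|a 0<|a 0<|a 0<|a 0<|a 0<|b)<|
 a (a 0<|a 1<|a 0<|a 0<|a 0<|a 0<|a 0<|b)<|
 a (a 0<|a 0<|a 1<|a 0<|a 0<|a 0<|a 0<|b)<|
 a (a 0<|a 0<|a 0<|a 1<|a 0<|a 0<|a 0<|b)<|
 a (a 0<|a 0<|a 0<|a 0<|a 1<|a 1<|a 0<|b)<|
 a (a 0<|a 0<|a 0<|a 0<|a 0<|a (-1)<|a 0<|b)<|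
 a (a 0<|a 0<|a 0<|a 0<|a 0<|a 1<|a 1<|b)<|b))<|e))

/-- the eigenvector -/
def V8 : Fin (3 + 1) → Fin 7 → ℤ := (beta% delta% lq268d2346c6 fun a b _ _ _ =>
 (a (a 0<|a (-1)<|a (-1)<|a (-1)<|a (-1)<|a (-1)<|a 0<|b)<|
 a (a 0<|a 0<|a 0<|a 0<|a 0<|a 1<|a 0<|b)<|
 a (a 0<|a 0<|a 0<|a 0<|a 1<|a 0<|a 0<|b)<|
 a (a 0<|a 0<|a 0<|a 1<|a 0<|a 0<|a 0<|b)<|b))

/-- the functional -/
def U8 : Fin 7 → ℤ := ![0, -1, 0, 0, 0, 0, 0]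

theorem row8 : RowOK Am L8 (vec chevE7 7 125) c8 V8 U8 := by
  rw [vec_hi]
  exact ⟨H129.ChainF.ok H129.ChainF.i7 H129.ChainF.m7 (H129.ChainF.c7 <| H129.ChainF.c7 <| H129.ChainF.c7 <| H129.ChainF.c7 <| H129.ChainF.c7 <| H129.ChainF.nil) (by decide +kernel), by decide +kernel,
    H493.EigF.ok (H493.EigF.hT H493.EigF.t7) H493.EigF.r4 (H493.EigF.mc H493.EigF.r7 <| H493.EigF.mc H493.EigF.r7 <| H493.EigF.mc H493.EigF.r7 <| H493.EigF.mc H493.EigF.r7 <| H493.EigF.m0) H493.EigF.r7 (by decide +kernel)⟩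

/-- the partial products -/
def L10 : List (Fin 7 × Mat 7) := (beta% delta% lq268d2346c6 fun a b c d e =>
 (c (d 1 (a (a 1<|a 0<|a 1<|a 0<|a 0<|a 0<|a 0<|b)<|
 a (a 0<|a 0<|a 1<|a 1<|a 0<|a 0<|a 0<|b)<|
 a (a 0<|a 1<|a 0<|a 1<|a 0<|a 0<|a 0<|b)<|
 a (a 0<|a 0<|a 0<|a 0<|a 1<|a 0<|a 0<|b)<|
 a (a 0<|a 0<|a 0<|a 0<|a 0<|a 1<|a 0<|b)<|
 a (a 0<|a 0<|a 0<|a 0<|a 0<|a 0<|a 1<|b)<|
 a (a 0<|a (-1)<|a (-1)<|a (-1)<|a (-1)<|a (-1)<|a (-1)<|b)<|b))<|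
 c (d 2 (a (a 1<|a 0<|a 1<|a 0<|a 0<|a 0<|a 0<|b)<|
 a (a 0<|a 1<|a 1<|a 1<|a 0<|a 0<|a 0<|b)<|
 a (a 0<|a 0<|a 0<|a 1<|a 0<|a 0<|a 0<|b)<|
 a (a 0<|a 0<|a 0<|a 0<|a 1<|a 0<|a 0<|b)<|
 a (a 0<|a 0<|a 0<|a 0<|a 0<|a 1<|a 0<|b)<|
 a (a 0<|a 0<|a 0<|a 0<|a 0<|a 0<|a 1<|b)<|
 a (a 0<|a 0<|a (-1)<|a (-1)<|a (-1)<|a (-1)<|a (-1)<|b)<|b))<|
 c (d 3 (a (a 1<|a 0<|a 0<|a 0<|a 0<|a 0<|a 0<|b)<|
 a (a 0<|a 1<|a 0<|a 1<|a 0<|a 0<|a 0<|b)<|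
 a (a 0<|a 0<|a 1<|a 1<|a 0<|a 0<|a 0<|b)<|
 a (a 0<|a 0<|a 0<|a 0<|a 1<|a 0<|a 0<|b)<|
 a (a 0<|a 0<|a 0<|a 0<|a 0<|a 1<|a 0<|b)<|
 a (a 0<|a 0<|a 0<|a 0<|a 0<|a 0<|a 1<|b)<|
 a (a 0<|a 0<|a 0<|a (-1)<|a (-1)<|a (-1)<|a (-1)<|b)<|b))<|
 c (d 4 (a (a 1<|a 0<|a 0<|a 0<|a 0<|a 0<|a 0<|b)<|
 a (a 0<|a 1<|a 0<|a 0<|a 0<|a 0<|a 0<|b)<|
 a (a 0<|a 0<|a 1<|a 0<|a 0<|a 0<|a 0<|b)<|
 a (a 0<|a 0<|a 0<|a 1<|a 1<|a 0<|a 0<|b)<|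
 a (a 0<|a 0<|a 0<|a 0<|a 0<|a 1<|a 0<|b)<|
 a (a 0<|a 0<|a 0<|a 0<|a 0<|a 0<|a 1<|b)<|
 a (a 0<|a 0<|a 0<|a 0<|a (-1)<|a (-1)<|a (-1)<|b)<|b))<|
 c (d 5 (a (a 1<|a 0<|a 0<|a 0<|a 0<|a 0<|a 0<|b)<|
 a (a 0<|a 1<|a 0<|a 0<|a 0<|a 0<|a 0<|b)<|
 a (a 0<|a 0<|a 1<|a 0<|a 0<|a 0<|a 0<|b)<|
 a (a 0<|a 0<|a 0<|a 1<|a 0<|a 0<|a 0<|b)<|
 a (a 0<|a 0<|a 0<|a 0<|a 1<|a 1<|a 0<|b)<|
 a (a 0<|a 0<|a 0<|a 0<|a 0<|a 0<|a 1<|b)<|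
 a (a 0<|a 0<|a 0<|a 0<|a 0<|a (-1)<|a (-1)<|b)<|b))<|
 c (d 6 (a (a 1<|a 0<|a 0<|a 0<|a 0<|a 0<|a 0<|b)<|
 a (a 0<|a 1<|a 0<|a 0<|a 0<|a 0<|a 0<|b)<|
 a (a 0<|a 0<|a 1<|a 0<|a 0<|a 0<|a 0<|b)<|
 a (a 0<|a 0<|a 0<|a 1<|a 0<|a 0<|a 0<|b)<|
 a (a 0<|a 0<|a 0<|a 0<|a 1<|a 0<|a 0<|b)<|
 a (a 0<|a 0<|a 0<|a 0<|a 0<|a 1<|a 1<|b)<|
 a (a 0<|a 0<|a 0<|a 0<|a 0<|a 0<|a (-1)<|b)<|b))<|e))

/-- the eigenvector -/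
def V10 : Fin (3 + 1) → Fin 7 → ℤ := (beta% delta% lq268d2346c6 fun a b _ _ _ =>
 (a (a 0<|a 0<|a 0<|a 0<|a 0<|a (-1)<|a (-1)<|b)<|
 a (a 0<|a 0<|a 0<|a 0<|a (-1)<|a 0<|a 1<|b)<|
 a (a 0<|a 0<|a 0<|a (-1)<|a 0<|a 0<|a (-1)<|b)<|
 a (a 0<|a (-1)<|a (-1)<|a (-1)<|a (-1)<|a (-1)<|a 0<|b)<|b))

/-- the functional -/
def U10 : Fin 7 → ℤ := ![0, 0, 1, 0, 0, -1, 0]

theorem row10 : RowOK Am L10 (vec chevE7 7 125) c10 V10 U10 := by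
  rw [vec_hi]
  exact ⟨H129.ChainF.ok H129.ChainF.i7 H129.ChainF.m7 (H129.ChainF.c7 <| H129.ChainF.c7 <| H129.ChainF.c7 <| H129.ChainF.c7 <| H129.ChainF.c7 <| H129.ChainF.c7 <| H129.ChainF.nil) (by decide +kernel), by decide +kernel,
    H493.EigF.ok (H493.EigF.hT H493.EigF.t7) H493.EigF.r4 (H493.EigF.mc H493.EigF.r7 <| H493.EigF.mc H493.EigF.r7 <| H493.EigF.mc H493.EigF.r7 <| H493.EigF.mc H493.EigF.r7 <| H493.EigF.m0) H493.EigF.r7 (by decide +kernel)⟩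

/-- the partial products -/
def T12 : List (Fin 7 × Mat 7) := (beta% delta% lq268d2346c6 fun a b c d e =>
 (c (d 5 (a (a 0<|a 0<|a 1<|a 0<|a 0<|a 0<|a 0<|b)<|
 a (a (-1)<|a (-1)<|a (-1)<|a (-1)<|a 0<|a 0<|a 0<|b)<|
 a (a 0<|a 0<|a 0<|a 1<|a 0<|a 0<|a 0<|b)<|
 a (a 1<|a 1<|a 1<|a 1<|a 1<|a 1<|a 0<|b)<|
 a (a (-1)<|a 0<|a (-1)<|a (-1)<|a (-1)<|a (-1)<|a 0<|b)<|
 a (a 1<|a 0<|a 1<|a 1<|a 1<|a 0<|a 0<|b)<|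
 a (a 0<|a 0<|a 0<|a 0<|a 0<|a 1<|a 1<|b)<|b))<|
 c (d 0 (a (a 0<|a 0<|a 1<|a 0<|a 0<|a 0<|a 0<|b)<|
 a (a (-1)<|a (-1)<|a (-1)<|a (-1)<|a 0<|a 0<|a 0<|b)<|
 a (a 0<|a 0<|a 0<|a 1<|a 0<|a 0<|a 0<|b)<|
 a (a 1<|a 1<|a 1<|a 1<|a 1<|a 0<|a 0<|b)<|
 a (a (-1)<|a 0<|a (-1)<|a (-1)<|a (-1)<|a 0<|a 0<|b)<|
 a (a 1<|a 0<|a 1<|a 1<|a 1<|a 1<|a 0<|b)<|
 a (a 0<|a 0<|a 0<|a 0<|a 0<|a 0<|a 1<|b)<|b))<|
 c (d 2 (a (a 1<|a 0<|a 1<|a 0<|a 0<|a 0<|a 0<|b)<|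
 a (a 0<|a (-1)<|a (-1)<|a (-1)<|a 0<|a 0<|a 0<|b)<|
 a (a 0<|a 0<|a 0<|a 1<|a 0<|a 0<|a 0<|b)<|
 a (a 0<|a 1<|a 1<|a 1<|a 1<|a 0<|a 0<|b)<|
 a (a 0<|a 0<|a (-1)<|a (-1)<|a (-1)<|a 0<|a 0<|b)<|
 a (a 0<|a 0<|a 1<|a 1<|a 1<|a 1<|a 0<|b)<|
 a (a 0<|a 0<|a 0<|a 0<|a 0<|a 0<|a 1<|b)<|b))<|
 c (d 3 (a (a 1<|a 0<|a 0<|a 0<|a 0<|a 0<|a 0<|b)<|
 a (a 0<|a (-1)<|a 0<|a (-1)<|a 0<|a 0<|a 0<|b)<|
 a (a 0<|a 0<|a 1<|a 1<|a 0<|a 0<|a 0<|b)<|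
 a (a 0<|a 1<|a 0<|a 1<|a 1<|a 0<|a 0<|b)<|
 a (a 0<|a 0<|a 0<|a (-1)<|a (-1)<|a 0<|a 0<|b)<|
 a (a 0<|a 0<|a 0<|a 1<|a 1<|a 1<|a 0<|b)<|
 a (a 0<|a 0<|a 0<|a 0<|a 0<|a 0<|a 1<|b)<|b))<|
 c (d 4 (a (a 1<|a 0<|a 0<|a 0<|a 0<|a 0<|a 0<|b)<|
 a (a 0<|a (-1)<|a 0<|a 0<|a 0<|a 0<|a 0<|b)<|
 a (a 0<|a 0<|a 1<|a 0<|a 0<|a 0<|a 0<|b)<|
 a (a 0<|a 1<|a 0<|a 1<|a 1<|a 0<|a 0<|b)<|
 a (a 0<|a 0<|a 0<|a 0<|a (-1)<|a 0<|a 0<|b)<|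
 a (a 0<|a 0<|a 0<|a 0<|a 1<|a 1<|a 0<|b)<|
 a (a 0<|a 0<|a 0<|a 0<|a 0<|a 0<|a 1<|b)<|b))<|
 c (d 1 (a (a 1<|a 0<|a 0<|a 0<|a 0<|a 0<|a 0<|b)<|
 a (a 0<|a (-1)<|a 0<|a 0<|a 0<|a 0<|a 0<|b)<|
 a (a 0<|a 0<|a 1<|a 0<|a 0<|a 0<|a 0<|b)<|
 a (a 0<|a 1<|a 0<|a 1<|a 0<|a 0<|a 0<|b)<|
 a (a 0<|a 0<|a 0<|a 0<|a 1<|a 0<|a 0<|b)<|
 a (a 0<|a 0<|a 0<|a 0<|a 0<|a 1<|a 0<|b)<|
 a (a 0<|a 0<|a 0<|a 0<|a 0<|a 0<|a 1<|b)<|b))<|e))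

theorem chain12 : ChainOK Am T12 :=
  H129.ChainF.ok H129.ChainF.i7 H129.ChainF.m7 (H129.ChainF.c7 <| H129.ChainF.c7 <| H129.ChainF.c7 <| H129.ChainF.c7 <| H129.ChainF.c7 <| H129.ChainF.c7 <| H129.ChainF.nil) (by decide +kernel)

/-- the eigenvector -/
def V12_12 : Fin (3 + 1) → Fin 7 → ℤ := (beta% delta% lq268d2346c6 fun a b _ _ _ =>
 (a (a 0<|a (-1)<|a 0<|a 0<|a 0<|a 0<|a 0<|b)<|
 a (a 0<|a 0<|a 0<|a (-1)<|a (-1)<|a 0<|a 0<|b)<|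
 a (a 0<|a 0<|a (-1)<|a (-1)<|a (-1)<|a (-1)<|a 0<|b)<|
 a (a (-1)<|a (-1)<|a (-1)<|a (-1)<|a 0<|a 0<|a 0<|b)<|b))

/-- the functional -/
def U12_12 : Fin 7 → ℤ := ![1, -1, 0, 0, 0, 0, 0]

theorem tor12_12 : EigOK (hd T12) c12 V12_12 U12_12 :=
  H493.EigF.ok (H493.EigF.hT H493.EigF.t7) H493.EigF.r4 (H493.EigF.mc H493.EigF.r7 <| H493.EigF.mc H493.EigF.r7 <| H493.EigF.mc H493.EigF.r7 <| H493.EigF.mc H493.EigF.r7 <| H493.EigF.m0) H493.EigF.r7 (by decide +kernel)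

/-- the eigenvector -/
def V12_3 : Fin (1 + 1) → Fin 7 → ℤ := (beta% delta% lq268d2346c6 fun a b _ _ _ =>
 (a (a 1<|a 0<|a 0<|a 0<|a 1<|a 1<|a 0<|b)<|
 a (a 0<|a 0<|a (-1)<|a 0<|a 0<|a 1<|a 0<|b)<|b))

/-- the functional -/
def U12_3 : Fin 7 → ℤ := ![1, 0, 0, 0, 0, 0, 0]

theorem tor12_3 : EigOK (hd T12) c3 V12_3 U12_3 :=
  H493.EigF.ok (H493.EigF.hT H493.EigF.t7) H493.EigF.r2 (H493.EigF.mc H493.EigF.r7 <| H493.EigF.mc H493.EigF.r7 <| H493.EigF.m0) H493.EigF.r7 (by decide +kernel)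

/-- the eigenvector -/
def V12_1 : Fin (0 + 1) → Fin 7 → ℤ := ![![2, 3, 4, 6, 5, 4, 3]]

/-- the functional -/
def U12_1 : Fin 7 → ℤ := ![-1, 1, 0, 0, 0, 0, 0]

/-- the partial products -/
def T7 : List (Fin 7 × Mat 7) := (beta% delta% lq268d2346c6 fun a b c d e =>
 (c (d 6 (a (a (-1)<|a 0<|a (-1)<|a 0<|a 0<|a 0<|a 0<|b)<|
 a (a 0<|a 1<|a 1<|a 1<|a 1<|a 0<|a 0<|b)<|
 a (a 1<|a 0<|a 1<|a 1<|a 1<|a 0<|a 0<|b)<|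
 a (a 0<|a 0<|a (-1)<|a (-1)<|a (-1)<|a 0<|a 0<|b)<|
 a (a 0<|a 0<|a 1<|a 1<|a 1<|a 1<|a 1<|b)<|
 a (a 0<|a 0<|a 0<|a 0<|a (-1)<|a (-1)<|a (-1)<|b)<|
 a (a 0<|a 0<|a 0<|a 0<|a 1<|a 1<|a 0<|b)<|b))<|
 c (d 4 (a (a (-1)<|a 0<|a (-1)<|a 0<|a 0<|a 0<|a 0<|b)<|
 a (a 0<|a 1<|a 1<|a 1<|a 1<|a 0<|a 0<|b)<|
 a (a 1<|a 0<|a 1<|a 1<|a 1<|a 0<|a 0<|b)<|
 a (a 0<|a 0<|a (-1)<|a (-1)<|a (-1)<|a 0<|a 0<|b)<|
 a (a 0<|a 0<|a 1<|a 1<|a 1<|a 1<|a 0<|b)<|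
 a (a 0<|a 0<|a 0<|a 0<|a (-1)<|a (-1)<|a 0<|b)<|
 a (a 0<|a 0<|a 0<|a 0<|a 1<|a 1<|a 1<|b)<|b))<|
 c (d 5 (a (a (-1)<|a 0<|a (-1)<|a 0<|a 0<|a 0<|a 0<|b)<|
 a (a 0<|a 1<|a 1<|a 1<|a 0<|a 0<|a 0<|b)<|
 a (a 1<|a 0<|a 1<|a 1<|a 0<|a 0<|a 0<|b)<|
 a (a 0<|a 0<|a (-1)<|a (-1)<|a 0<|a 0<|a 0<|b)<|
 a (a 0<|a 0<|a 1<|a 1<|a 1<|a 1<|a 0<|b)<|
 a (a 0<|a 0<|a 0<|a 0<|a 0<|a (-1)<|a 0<|b)<|
 a (a 0<|a 0<|a 0<|a 0<|a 0<|a 1<|a 1<|b)<|b))<|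
 c (d 2 (a (a (-1)<|a 0<|a (-1)<|a 0<|a 0<|a 0<|a 0<|b)<|
 a (a 0<|a 1<|a 1<|a 1<|a 0<|a 0<|a 0<|b)<|
 a (a 1<|a 0<|a 1<|a 1<|a 0<|a 0<|a 0<|b)<|
 a (a 0<|a 0<|a (-1)<|a (-1)<|a 0<|a 0<|a 0<|b)<|
 a (a 0<|a 0<|a 1<|a 1<|a 1<|a 0<|a 0<|b)<|
 a (a 0<|a 0<|a 0<|a 0<|a 0<|a 1<|a 0<|b)<|
 a (a 0<|a 0<|a 0<|a 0<|a 0<|a 0<|a 1<|b)<|b))<|
 c (d 3 (a (a (-1)<|a 0<|a 0<|a 0<|a 0<|a 0<|a 0<|b)<|
 a (a 0<|a 1<|a 0<|a 1<|a 0<|a 0<|a 0<|b)<|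
 a (a 1<|a 0<|a 1<|a 1<|a 0<|a 0<|a 0<|b)<|
 a (a 0<|a 0<|a 0<|a (-1)<|a 0<|a 0<|a 0<|b)<|
 a (a 0<|a 0<|a 0<|a 1<|a 1<|a 0<|a 0<|b)<|
 a (a 0<|a 0<|a 0<|a 0<|a 0<|a 1<|a 0<|b)<|
 a (a 0<|a 0<|a 0<|a 0<|a 0<|a 0<|a 1<|b)<|b))<|
 c (d 0 (a (a (-1)<|a 0<|a 0<|a 0<|a 0<|a 0<|a 0<|b)<|
 a (a 0<|a 1<|a 0<|a 0<|a 0<|a 0<|a 0<|b)<|
 a (a 1<|a 0<|a 1<|a 0<|a 0<|a 0<|a 0<|b)<|
 a (a 0<|a 0<|a 0<|a 1<|a 0<|a 0<|a 0<|b)<|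
 a (a 0<|a 0<|a 0<|a 0<|a 1<|a 0<|a 0<|b)<|
 a (a 0<|a 0<|a 0<|a 0<|a 0<|a 1<|a 0<|b)<|
 a (a 0<|a 0<|a 0<|a 0<|a 0<|a 0<|a 1<|b)<|b))<|e))

theorem chain7 : ChainOK Am T7 :=
  H129.ChainF.ok H129.ChainF.i7 H129.ChainF.m7 (H129.ChainF.c7 <| H129.ChainF.c7 <| H129.ChainF.c7 <| H129.ChainF.c7 <| H129.ChainF.c7 <| H129.ChainF.c7 <| H129.ChainF.nil) (by decide +kernel)

/-- the eigenvector -/
def V7_7 : Fin (5 + 1) → Fin 7 → ℤ := (beta% delta% lq268d2346c6 fun a b _ _ _ =>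
 (a (a 0<|a 0<|a 1<|a 0<|a (-1)<|a 0<|a 0<|b)<|
 a (a (-1)<|a 0<|a 0<|a 0<|a 0<|a 1<|a 0<|b)<|
 a (a 0<|a 0<|a 0<|a 0<|a 0<|a 1<|a 1<|b)<|
 a (a 0<|a 0<|a 1<|a 1<|a 0<|a 0<|a 0<|b)<|
 a (a 0<|a 0<|a 1<|a 0<|a 0<|a 1<|a 0<|b)<|
 a (a (-1)<|a 0<|a 0<|a 0<|a 0<|a 1<|a 1<|b)<|b))

/-- the functional -/
def U7_7 : Fin 7 → ℤ := ![0, 0, 0, 0, -1, 0, 0]

theorem tor7_7 : EigOK (hd T7) c7 V7_7 U7_7 :=
  H493.EigF.ok (H493.EigF.hT H493.EigF.t7) H493.EigF.r6 (H493.EigF.mc H493.EigF.r7 <| H493.EigF.mc H493.EigF.r7 <| H493.EigF.mc H493.EigF.r7 <| H493.EigF.mc H493.EigF.r7 <| H493.EigF.mc H493.EigF.r7 <| H493.EigF.mc H493.EigF.r7 <| H493.EigF.m0) H493.EigF.r7 (by decide +kernel)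

/-- the eigenvector -/
def V7_1 : Fin (0 + 1) → Fin 7 → ℤ := ![![4, 7, 8, 12, 9, 6, 3]]

/-- the functional -/
def U7_1 : Fin 7 → ℤ := ![1, 0, 0, 0, 0, 0, -1]

theorem tor7_1 : EigOK (hd T7) c1 V7_1 U7_1 :=
  H493.EigF.ok (H493.EigF.hT H493.EigF.t7) H493.EigF.r1 (H493.EigF.mc H493.EigF.r7 <| H493.EigF.m0) H493.EigF.r7 (by decide +kernel)

/-- the partial products -/
def T9 : List (Fin 7 × Mat 7) := (beta% delta% lq268d2346c6 fun a b c d e =>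
 (c (d 3 (a (a 0<|a 0<|a 1<|a 1<|a 0<|a 0<|a 0<|b)<|
 a (a (-1)<|a 0<|a (-1)<|a 0<|a 0<|a 0<|a 0<|b)<|
 a (a 0<|a 1<|a 0<|a 0<|a 0<|a 0<|a 0<|b)<|
 a (a 1<|a 0<|a 1<|a 1<|a 1<|a 0<|a 0<|b)<|
 a (a 0<|a 0<|a 0<|a 0<|a 0<|a 1<|a 0<|b)<|
 a (a (-1)<|a (-1)<|a (-1)<|a (-2)<|a (-1)<|a (-1)<|a 0<|b)<|
 a (a 1<|a 1<|a 1<|a 2<|a 1<|a 1<|a 1<|b)<|b))<|
 c (d 0 (a (a 0<|a 0<|a 1<|a 0<|a 0<|a 0<|a 0<|b)<|
 a (a (-1)<|a 0<|a (-1)<|a (-1)<|a 0<|a 0<|a 0<|b)<|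
 a (a 0<|a 1<|a 0<|a 1<|a 0<|a 0<|a 0<|b)<|
 a (a 1<|a 0<|a 1<|a 1<|a 1<|a 0<|a 0<|b)<|
 a (a 0<|a 0<|a 0<|a 0<|a 0<|a 1<|a 0<|b)<|
 a (a (-1)<|a (-1)<|a (-1)<|a (-1)<|a (-1)<|a (-1)<|a 0<|b)<|
 a (a 1<|a 1<|a 1<|a 1<|a 1<|a 1<|a 1<|b)<|b))<|
 c (d 2 (a (a 1<|a 0<|a 1<|a 0<|a 0<|a 0<|a 0<|b)<|
 a (a 0<|a 0<|a (-1)<|a (-1)<|a 0<|a 0<|a 0<|b)<|
 a (a 0<|a 1<|a 0<|a 1<|a 0<|a 0<|a 0<|b)<|
 a (a 0<|a 0<|a 1<|a 1<|a 1<|a 0<|a 0<|b)<|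
 a (a 0<|a 0<|a 0<|a 0<|a 0<|a 1<|a 0<|b)<|
 a (a 0<|a (-1)<|a (-1)<|a (-1)<|a (-1)<|a (-1)<|a 0<|b)<|
 a (a 0<|a 1<|a 1<|a 1<|a 1<|a 1<|a 1<|b)<|b))<|
 c (d 1 (a (a 1<|a 0<|a 0<|a 0<|a 0<|a 0<|a 0<|b)<|
 a (a 0<|a 0<|a 0<|a (-1)<|a 0<|a 0<|a 0<|b)<|
 a (a 0<|a 1<|a 1<|a 1<|a 0<|a 0<|a 0<|b)<|
 a (a 0<|a 0<|a 0<|a 1<|a 1<|a 0<|a 0<|b)<|
 a (a 0<|a 0<|a 0<|a 0<|a 0<|a 1<|a 0<|b)<|
 a (a 0<|a (-1)<|a 0<|a (-1)<|a (-1)<|a (-1)<|a 0<|b)<|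
 a (a 0<|a 1<|a 0<|a 1<|a 1<|a 1<|a 1<|b)<|b))<|
 c (d 3 (a (a 1<|a 0<|a 0<|a 0<|a 0<|a 0<|a 0<|b)<|
 a (a 0<|a (-1)<|a 0<|a (-1)<|a 0<|a 0<|a 0<|b)<|
 a (a 0<|a 0<|a 1<|a 1<|a 0<|a 0<|a 0<|b)<|
 a (a 0<|a 1<|a 0<|a 1<|a 1<|a 0<|a 0<|b)<|
 a (a 0<|a 0<|a 0<|a 0<|a 0<|a 1<|a 0<|b)<|
 a (a 0<|a 0<|a 0<|a (-1)<|a (-1)<|a (-1)<|a 0<|b)<|
 a (a 0<|a 0<|a 0<|a 1<|a 1<|a 1<|a 1<|b)<|b))<|
 c (d 4 (a (a 1<|a 0<|a 0<|a 0<|a 0<|a 0<|a 0<|b)<|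
 a (a 0<|a (-1)<|a 0<|a 0<|a 0<|a 0<|a 0<|b)<|
 a (a 0<|a 0<|a 1<|a 0<|a 0<|a 0<|a 0<|b)<|
 a (a 0<|a 1<|a 0<|a 1<|a 1<|a 0<|a 0<|b)<|
 a (a 0<|a 0<|a 0<|a 0<|a 0<|a 1<|a 0<|b)<|
 a (a 0<|a 0<|a 0<|a 0<|a (-1)<|a (-1)<|a 0<|b)<|
 a (a 0<|a 0<|a 0<|a 0<|a 1<|a 1<|a 1<|b)<|b))<|
 c (d 5 (a (a 1<|a 0<|a 0<|a 0<|a 0<|a 0<|a 0<|b)<|
 a (a 0<|a (-1)<|a 0<|a 0<|a 0<|a 0<|a 0<|b)<|
 a (a 0<|a 0<|a 1<|a 0<|a 0<|a 0<|a 0<|b)<|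
 a (a 0<|a 1<|a 0<|a 1<|a 0<|a 0<|a 0<|b)<|
 a (a 0<|a 0<|a 0<|a 0<|a 1<|a 1<|a 0<|b)<|
 a (a 0<|a 0<|a 0<|a 0<|a 0<|a (-1)<|a 0<|b)<|
 a (a 0<|a 0<|a 0<|a 0<|a 0<|a 1<|a 1<|b)<|b))<|
 c (d 1 (a (a 1<|a 0<|a 0<|a 0<|a 0<|a 0<|a 0<|b)<|
 a (a 0<|a (-1)<|a 0<|a 0<|a 0<|a 0<|a 0<|b)<|
 a (a 0<|a 0<|a 1<|a 0<|a 0<|a 0<|a 0<|b)<|
 a (a 0<|a 1<|a 0<|a 1<|a 0<|a 0<|a 0<|b)<|
 a (a 0<|a 0<|a 0<|a 0<|a 1<|a 0<|a 0<|b)<|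
 a (a 0<|a 0<|a 0<|a 0<|a 0<|a 1<|a 0<|b)<|
 a (a 0<|a 0<|a 0<|a 0<|a 0<|a 0<|a 1<|b)<|b))<|e))

theorem chain9 : ChainOK Am T9 :=
  H129.ChainF.ok H129.ChainF.i7 H129.ChainF.m7 (H129.ChainF.c7 <| H129.ChainF.c7 <| H129.ChainF.c7 <| H129.ChainF.c7 <| H129.ChainF.c7 <| H129.ChainF.c7 <| H129.ChainF.c7 <| H129.ChainF.c7 <| H129.ChainF.nil) (by decide +kernel)

/-- the eigenvector -/
def V9_9 : Fin (5 + 1) → Fin 7 → ℤ := (beta% delta% lq268d2346c6 fun a b _ _ _ =>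
 (a (a (-1)<|a 0<|a (-1)<|a (-1)<|a (-1)<|a (-1)<|a 0<|b)<|
 a (a 0<|a 0<|a 0<|a (-1)<|a (-1)<|a 0<|a 0<|b)<|
 a (a 0<|a (-1)<|a 0<|a (-1)<|a 0<|a 0<|a 0<|b)<|
 a (a (-1)<|a 0<|a (-1)<|a 0<|a 0<|a 0<|a 0<|b)<|
 a (a 0<|a 1<|a 0<|a 0<|a 0<|a 0<|a 0<|b)<|
 a (a 0<|a 0<|a 1<|a 0<|a 0<|a 0<|a 0<|b)<|b))

/-- the functional -/
def U9_9 : Fin 7 → ℤ := ![0, 0, 0, 0, 0, -1, 0]

theorem tor9_9 : EigOK (hd T9) c9 V9_9 U9_9 :=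
  H493.EigF.ok (H493.EigF.hT H493.EigF.t7) H493.EigF.r6 (H493.EigF.mc H493.EigF.r7 <| H493.EigF.mc H493.EigF.r7 <| H493.EigF.mc H493.EigF.r7 <| H493.EigF.mc H493.EigF.r7 <| H493.EigF.mc H493.EigF.r7 <| H493.EigF.mc H493.EigF.r7 <| H493.EigF.m0) H493.EigF.r7 (by decide +kernel)

/-- the eigenvector -/
def V9_1 : Fin (0 + 1) → Fin 7 → ℤ := ![![2, 3, 4, 6, 5, 4, 3]]

/-- the functional -/
def U9_1 : Fin 7 → ℤ := ![-1, 1, 0, 0, 0, 0, 0]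

theorem tor9_1 : EigOK (hd T9) c1 V9_1 U9_1 :=
  H493.EigF.ok (H493.EigF.hT H493.EigF.t7) H493.EigF.r1 (H493.EigF.mc H493.EigF.r7 <| H493.EigF.m0) H493.EigF.r7 (by decide +kernel)

/-- the partial products -/
def T14 : List (Fin 7 × Mat 7) := (beta% delta% lq268d2346c6 fun a b c d e =>
 (c (d 6 (a (a 0<|a 0<|a 1<|a 1<|a 0<|a 0<|a 0<|b)<|
 a (a (-1)<|a (-1)<|a (-1)<|a (-2)<|a (-1)<|a 0<|a 0<|b)<|
 a (a 0<|a 0<|a 0<|a 0<|a 1<|a 0<|a 0<|b)<|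
 a (a 1<|a 1<|a 1<|a 2<|a 1<|a 1<|a 1<|b)<|
 a (a (-1)<|a 0<|a (-1)<|a (-1)<|a (-1)<|a (-1)<|a (-1)<|b)<|
 a (a 1<|a 0<|a 1<|a 0<|a 0<|a 0<|a 0<|b)<|
 a (a 0<|a 0<|a 0<|a 1<|a 1<|a 1<|a 0<|b)<|b))<|
 c (d 3 (a (a 0<|a 0<|a 1<|a 1<|a 0<|a 0<|a 0<|b)<|
 a (a (-1)<|a (-1)<|a (-1)<|a (-2)<|a (-1)<|a 0<|a 0<|b)<|
 a (a 0<|a 0<|a 0<|a 0<|a 1<|a 0<|a 0<|b)<|
 a (a 1<|a 1<|a 1<|a 2<|a 1<|a 1<|a 0<|b)<|
 a (a (-1)<|a 0<|a (-1)<|a (-1)<|a (-1)<|a (-1)<|a 0<|b)<|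
 a (a 1<|a 0<|a 1<|a 0<|a 0<|a 0<|a 0<|b)<|
 a (a 0<|a 0<|a 0<|a 1<|a 1<|a 1<|a 1<|b)<|b))<|
 c (d 4 (a (a 0<|a 0<|a 1<|a 0<|a 0<|a 0<|a 0<|b)<|
 a (a (-1)<|a (-1)<|a (-1)<|a (-1)<|a (-1)<|a 0<|a 0<|b)<|
 a (a 0<|a 0<|a 0<|a 1<|a 1<|a 0<|a 0<|b)<|
 a (a 1<|a 1<|a 1<|a 1<|a 1<|a 1<|a 0<|b)<|
 a (a (-1)<|a 0<|a (-1)<|a (-1)<|a (-1)<|a (-1)<|a 0<|b)<|
 a (a 1<|a 0<|a 1<|a 1<|a 0<|a 0<|a 0<|b)<|
 a (a 0<|a 0<|a 0<|a 0<|a 1<|a 1<|a 1<|b)<|b))<|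
 c (d 5 (a (a 0<|a 0<|a 1<|a 0<|a 0<|a 0<|a 0<|b)<|
 a (a (-1)<|a (-1)<|a (-1)<|a (-1)<|a 0<|a 0<|a 0<|b)<|
 a (a 0<|a 0<|a 0<|a 1<|a 0<|a 0<|a 0<|b)<|
 a (a 1<|a 1<|a 1<|a 1<|a 1<|a 1<|a 0<|b)<|
 a (a (-1)<|a 0<|a (-1)<|a (-1)<|a (-1)<|a (-1)<|a 0<|b)<|
 a (a 1<|a 0<|a 1<|a 1<|a 1<|a 0<|a 0<|b)<|
 a (a 0<|a 0<|a 0<|a 0<|a 0<|a 1<|a 1<|b)<|b))<|
 c (d 0 (a (a 0<|a 0<|a 1<|a 0<|a 0<|a 0<|a 0<|b)<|
 a (a (-1)<|a (-1)<|a (-1)<|a (-1)<|a 0<|a 0<|a 0<|b)<|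
 a (a 0<|a 0<|a 0<|a 1<|a 0<|a 0<|a 0<|b)<|
 a (a 1<|a 1<|a 1<|a 1<|a 1<|a 0<|a 0<|b)<|
 a (a (-1)<|a 0<|a (-1)<|a (-1)<|a (-1)<|a 0<|a 0<|b)<|
 a (a 1<|a 0<|a 1<|a 1<|a 1<|a 1<|a 0<|b)<|
 a (a 0<|a 0<|a 0<|a 0<|a 0<|a 0<|a 1<|b)<|b))<|
 c (d 2 (a (a 1<|a 0<|a 1<|a 0<|a 0<|a 0<|a 0<|b)<|
 a (a 0<|a (-1)<|a (-1)<|a (-1)<|a 0<|a 0<|a 0<|b)<|
 a (a 0<|a 0<|a 0<|a 1<|a 0<|a 0<|a 0<|b)<|
 a (a 0<|a 1<|a 1<|a 1<|a 1<|a 0<|a 0<|b)<|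
 a (a 0<|a 0<|a (-1)<|a (-1)<|a (-1)<|a 0<|a 0<|b)<|
 a (a 0<|a 0<|a 1<|a 1<|a 1<|a 1<|a 0<|b)<|
 a (a 0<|a 0<|a 0<|a 0<|a 0<|a 0<|a 1<|b)<|b))<|
 c (d 3 (a (a 1<|a 0<|a 0<|a 0<|a 0<|a 0<|a 0<|b)<|
 a (a 0<|a (-1)<|a 0<|a (-1)<|a 0<|a 0<|a 0<|b)<|
 a (a 0<|a 0<|a 1<|a 1<|a 0<|a 0<|a 0<|b)<|
 a (a 0<|a 1<|a 0<|a 1<|a 1<|a 0<|a 0<|b)<|
 a (a 0<|a 0<|a 0<|a (-1)<|a (-1)<|a 0<|a 0<|b)<|
 a (a 0<|a 0<|a 0<|a 1<|a 1<|a 1<|a 0<|b)<|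
 a (a 0<|a 0<|a 0<|a 0<|a 0<|a 0<|a 1<|b)<|b))<|
 c (d 4 (a (a 1<|a 0<|a 0<|a 0<|a 0<|a 0<|a 0<|b)<|
 a (a 0<|a (-1)<|a 0<|a 0<|a 0<|a 0<|a 0<|b)<|
 a (a 0<|a 0<|a 1<|a 0<|a 0<|a 0<|a 0<|b)<|
 a (a 0<|a 1<|a 0<|a 1<|a 1<|a 0<|a 0<|b)<|
 a (a 0<|a 0<|a 0<|a 0<|a (-1)<|a 0<|a 0<|b)<|
 a (a 0<|a 0<|a 0<|a 0<|a 1<|a 1<|a 0<|b)<|
 a (a 0<|a 0<|a 0<|a 0<|a 0<|a 0<|a 1<|b)<|b))<|
 c (d 1 (a (a 1<|a 0<|a 0<|a 0<|a 0<|a 0<|a 0<|b)<|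
 a (a 0<|a (-1)<|a 0<|a 0<|a 0<|a 0<|a 0<|b)<|
 a (a 0<|a 0<|a 1<|a 0<|a 0<|a 0<|a 0<|b)<|
 a (a 0<|a 1<|a 0<|a 1<|a 0<|a 0<|a 0<|b)<|
 a (a 0<|a 0<|a 0<|a 0<|a 1<|a 0<|a 0<|b)<|
 a (a 0<|a 0<|a 0<|a 0<|a 0<|a 1<|a 0<|b)<|
 a (a 0<|a 0<|a 0<|a 0<|a 0<|a 0<|a 1<|b)<|b))<|e))

theorem chain14 : ChainOK Am T14 :=
  H129.ChainF.ok H129.ChainF.i7 H129.ChainF.m7 (H129.ChainF.c7 <| H129.ChainF.c7 <| H129.ChainF.c7 <| H129.ChainF.c7 <| H129.ChainF.c7 <| H129.ChainF.c7 <| H129.ChainF.c7 <| H129.ChainF.c7 <| H129.ChainF.c7 <| H129.ChainF.nil) (by decide +kernel)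

/-- the eigenvector -/
def V14_14 : Fin (5 + 1) → Fin 7 → ℤ := (beta% delta% lq268d2346c6 fun a b _ _ _ =>
 (a (a 0<|a (-1)<|a 0<|a (-1)<|a (-1)<|a (-1)<|a 0<|b)<|
 a (a 0<|a 0<|a (-1)<|a (-1)<|a (-1)<|a 0<|a (-1)<|b)<|
 a (a (-1)<|a (-1)<|a (-1)<|a (-1)<|a 0<|a 0<|a 1<|b)<|
 a (a 0<|a 1<|a 0<|a 0<|a (-1)<|a (-1)<|a (-1)<|b)<|
 a (a 0<|a (-1)<|a 0<|a 0<|a 1<|a 0<|a 0<|b)<|
 a (a 0<|a 0<|a 0<|a (-1)<|a (-1)<|a 0<|a 0<|b)<|b))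

/-- the functional -/
def U14_14 : Fin 7 → ℤ := ![0, -1, 0, 1, -1, 0, 0]

theorem tor14_14 : EigOK (hd T14) c14 V14_14 U14_14 :=
  H493.EigF.ok (H493.EigF.hT H493.EigF.t7) H493.EigF.r6 (H493.EigF.mc H493.EigF.r7 <| H493.EigF.mc H493.EigF.r7 <| H493.EigF.mc H493.EigF.r7 <| H493.EigF.mc H493.EigF.r7 <| H493.EigF.mc H493.EigF.r7 <| H493.EigF.mc H493.EigF.r7 <| H493.EigF.m0) H493.EigF.r7 (by decide +kernel)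

/-- the eigenvector -/
def V14_2 : Fin (0 + 1) → Fin 7 → ℤ := ![![2, 1, 0, 0, 1, 0, 1]]

/-- the functional -/
def U14_2 : Fin 7 → ℤ := ![0, 1, 0, 0, 0, 0, 0]

theorem tor14_2 : EigOK (hd T14) c2 V14_2 U14_2 :=
  H493.EigF.ok (H493.EigF.hT H493.EigF.t7) H493.EigF.r1 (H493.EigF.mc H493.EigF.r7 <| H493.EigF.m0) H493.EigF.r7 (by decide +kernel)

/-- the partial products -/
def T18 : List (Fin 7 × Mat 7) := (beta% delta% lq268d2346c6 fun a b c d e =>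
 (c (d 6 (a (a 0<|a 1<|a 1<|a 1<|a 0<|a 0<|a 0<|b)<|
 a (a 0<|a 0<|a 0<|a 1<|a 0<|a 0<|a 0<|b)<|
 a (a (-1)<|a (-1)<|a (-1)<|a (-1)<|a 0<|a 0<|a 0<|b)<|
 a (a 1<|a 1<|a 1<|a 1<|a 1<|a 1<|a 1<|b)<|
 a (a 0<|a (-1)<|a 0<|a (-1)<|a (-1)<|a (-1)<|a (-1)<|b)<|
 a (a 0<|a 1<|a 0<|a 1<|a 1<|a 0<|a 0<|b)<|
 a (a 0<|a 0<|a 0<|a 0<|a 0<|a 1<|a 0<|b)<|b))<|
 c (d 5 (a (a 0<|a 1<|a 1<|a 1<|a 0<|a 0<|a 0<|b)<|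
 a (a 0<|a 0<|a 0<|a 1<|a 0<|a 0<|a 0<|b)<|
 a (a (-1)<|a (-1)<|a (-1)<|a (-1)<|a 0<|a 0<|a 0<|b)<|
 a (a 1<|a 1<|a 1<|a 1<|a 1<|a 1<|a 0<|b)<|
 a (a 0<|a (-1)<|a 0<|a (-1)<|a (-1)<|a (-1)<|a 0<|b)<|
 a (a 0<|a 1<|a 0<|a 1<|a 1<|a 0<|a 0<|b)<|
 a (a 0<|a 0<|a 0<|a 0<|a 0<|a 1<|a 1<|b)<|b))<|
 c (d 1 (a (a 0<|a 1<|a 1<|a 1<|a 0<|a 0<|a 0<|b)<|
 a (a 0<|a 0<|a 0<|a 1<|a 0<|a 0<|a 0<|b)<|
 a (a (-1)<|a (-1)<|a (-1)<|a (-1)<|a 0<|a 0<|a 0<|b)<|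
 a (a 1<|a 1<|a 1<|a 1<|a 1<|a 0<|a 0<|b)<|
 a (a 0<|a (-1)<|a 0<|a (-1)<|a (-1)<|a 0<|a 0<|b)<|
 a (a 0<|a 1<|a 0<|a 1<|a 1<|a 1<|a 0<|b)<|
 a (a 0<|a 0<|a 0<|a 0<|a 0<|a 0<|a 1<|b)<|b))<|
 c (d 3 (a (a 0<|a 0<|a 1<|a 1<|a 0<|a 0<|a 0<|b)<|
 a (a 0<|a 1<|a 0<|a 1<|a 0<|a 0<|a 0<|b)<|
 a (a (-1)<|a 0<|a (-1)<|a (-1)<|a 0<|a 0<|a 0<|b)<|
 a (a 1<|a 0<|a 1<|a 1<|a 1<|a 0<|a 0<|b)<|
 a (a 0<|a 0<|a 0<|a (-1)<|a (-1)<|a 0<|a 0<|b)<|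
 a (a 0<|a 0<|a 0<|a 1<|a 1<|a 1<|a 0<|b)<|
 a (a 0<|a 0<|a 0<|a 0<|a 0<|a 0<|a 1<|b)<|b))<|
 c (d 4 (a (a 0<|a 0<|a 1<|a 0<|a 0<|a 0<|a 0<|b)<|
 a (a 0<|a 1<|a 0<|a 0<|a 0<|a 0<|a 0<|b)<|
 a (a (-1)<|a 0<|a (-1)<|a 0<|a 0<|a 0<|a 0<|b)<|
 a (a 1<|a 0<|a 1<|a 1<|a 1<|a 0<|a 0<|b)<|
 a (a 0<|a 0<|a 0<|a 0<|a (-1)<|a 0<|a 0<|b)<|
 a (a 0<|a 0<|a 0<|a 0<|a 1<|a 1<|a 0<|b)<|
 a (a 0<|a 0<|a 0<|a 0<|a 0<|a 0<|a 1<|b)<|b))<|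
 c (d 0 (a (a 0<|a 0<|a 1<|a 0<|a 0<|a 0<|a 0<|b)<|
 a (a 0<|a 1<|a 0<|a 0<|a 0<|a 0<|a 0<|b)<|
 a (a (-1)<|a 0<|a (-1)<|a 0<|a 0<|a 0<|a 0<|b)<|
 a (a 1<|a 0<|a 1<|a 1<|a 0<|a 0<|a 0<|b)<|
 a (a 0<|a 0<|a 0<|a 0<|a 1<|a 0<|a 0<|b)<|
 a (a 0<|a 0<|a 0<|a 0<|a 0<|a 1<|a 0<|b)<|
 a (a 0<|a 0<|a 0<|a 0<|a 0<|a 0<|a 1<|b)<|b))<|
 c (d 2 (a (a 1<|a 0<|a 1<|a 0<|a 0<|a 0<|a 0<|b)<|
 a (a 0<|a 1<|a 0<|a 0<|a 0<|a 0<|a 0<|b)<|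
 a (a 0<|a 0<|a (-1)<|a 0<|a 0<|a 0<|a 0<|b)<|
 a (a 0<|a 0<|a 1<|a 1<|a 0<|a 0<|a 0<|b)<|
 a (a 0<|a 0<|a 0<|a 0<|a 1<|a 0<|a 0<|b)<|
 a (a 0<|a 0<|a 0<|a 0<|a 0<|a 1<|a 0<|b)<|
 a (a 0<|a 0<|a 0<|a 0<|a 0<|a 0<|a 1<|b)<|b))<|e))

theorem chain18 : ChainOK Am T18 :=
  H129.ChainF.ok H129.ChainF.i7 H129.ChainF.m7 (H129.ChainF.c7 <| H129.ChainF.c7 <| H129.ChainF.c7 <| H129.ChainF.c7 <| H129.ChainF.c7 <| H129.ChainF.c7 <| H129.ChainF.c7 <| H129.ChainF.nil) (by decide +kernel)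

/-- the eigenvector -/
def V18_18 : Fin (5 + 1) → Fin 7 → ℤ := (beta% delta% lq268d2346c6 fun a b _ _ _ =>
 (a (a 1<|a 0<|a 1<|a 0<|a 0<|a 0<|a 0<|b)<|
 a (a 0<|a 0<|a 0<|a 1<|a 1<|a 0<|a 0<|b)<|
 a (a 0<|a 1<|a 1<|a 1<|a 1<|a 1<|a 0<|b)<|
 a (a 0<|a 0<|a 0<|a 1<|a 1<|a 1<|a 1<|b)<|
 a (a 0<|a 1<|a 1<|a 1<|a 0<|a 0<|a 0<|b)<|
 a (a 1<|a 0<|a 0<|a 0<|a 0<|a 0<|a 0<|b)<|b))

/-- the functional -/
def U18_18 : Fin 7 → ℤ := ![0, -1, 1, 0, 0, 0, 0]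

theorem tor18_18 : EigOK (hd T18) c18 V18_18 U18_18 :=
  H493.EigF.ok (H493.EigF.hT H493.EigF.t7) H493.EigF.r6 (H493.EigF.mc H493.EigF.r7 <| H493.EigF.mc H493.EigF.r7 <| H493.EigF.mc H493.EigF.r7 <| H493.EigF.mc H493.EigF.r7 <| H493.EigF.mc H493.EigF.r7 <| H493.EigF.mc H493.EigF.r7 <| H493.EigF.m0) H493.EigF.r7 (by decide +kernel)

/-- the eigenvector -/
def V18_2 : Fin (0 + 1) → Fin 7 → ℤ := ![![0, 1, 0, 0, 1, 0, 1]]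

/-- the functional -/
def U18_2 : Fin 7 → ℤ := ![0, 1, 0, 0, 0, 0, 0]

theorem tor18_2 : EigOK (hd T18) c2 V18_2 U18_2 :=
  H493.EigF.ok (H493.EigF.hT H493.EigF.t7) H493.EigF.r1 (H493.EigF.mc H493.EigF.r7 <| H493.EigF.m0) H493.EigF.r7 (by decide +kernel)

end Cfsg.Agent.H378.AdjE7
end

-- part: H378/AdjE6
section
set_option linter.all false
open scoped Cfsg.Agent.FastGrp

/-!
# Weyl group elements of type E6 (helper378)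

`rowM` : a product of simple reflections fixing the highest root with the eigenvalue of order `M`;
`torM_m` : a product of simple reflections with the eigenvalues of order `M` and `m`.
-/

set_option autoImplicit false

namespace Cfsg.Agent.H378.AdjE6

open Cfsg.Agent.H129.WData Cfsg.Agent.H378.AdjTab Cfsg.Agent.H378.CycTab Cfsg.Agent.H493.PGTorus
open Cfsg.Agent.ChevalleyStructure.CoxeterGeomTypes Cfsg.Agent.Nodes.RGDChev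
open Cfsg.Lie Cfsg.Lie.ChevalleyDatum

/-- the Cartan matrix -/
def Am : Mat 6 := ![![2, 0, -1, 0, 0, 0],
      ![0, 2, 0, -1, 0, 0],
      ![-1, 0, 2, -1, 0, 0],
      ![0, -1, -1, 2, -1, 0],
      ![0, 0, 0, -1, 2, -1],
      ![0, 0, 0, 0, -1, 2]]

theorem hA : ∀ i j, Am i j = cartanOf chevE6 6 i j :=
  H129.RootF.cE6

/-- the highest root -/
def hi : Fin 6 → ℤ := ![1, 2, 2, 3, 2, 1]

theorem lt_nroots : 71 < chevE6.nroots := by decide +kernel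

theorem vec_hi : vec chevE6 6 71 = hi := by
  have h : ∀ i : Fin 6, vec chevE6 6 71 i = hi i := by
    unfold vec
    decide +kernel
  exact funext h

theorem orth : SmallTor.Orth chevE6 6 0 0 5 where
  hr := by decide +kernel
  hs := by decide +kernel
  zero := by decide +kernel
  odd := by decide +kernel

/-- the partial products -/
def L2 : List (Fin 6 × Mat 6) := [
    (0, ![![-1, 0, 0, 0, 0, 0],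
        ![0, 1, 0, 0, 0, 0],
        ![1, 0, 1, 0, 0, 0],
        ![0, 0, 0, 1, 0, 0],
        ![0, 0, 0, 0, 1, 0],
        ![0, 0, 0, 0, 0, 1]])]

/-- the eigenvector -/
def V2 : Fin (0 + 1) → Fin 6 → ℤ := ![![1, 0, 0, 0, 0, 0]]

/-- the functional -/
def U2 : Fin 6 → ℤ := ![1, 0, 0, 0, 0, 0]

theorem row2 : RowOK Am L2 (vec chevE6 6 71) c2 V2 U2 := by
  rw [vec_hi]
  exact ⟨H129.ChainF.ok H129.ChainF.i6 H129.ChainF.m6 (H129.ChainF.c6 <| H129.ChainF.nil) (by decide +kernel), by decide +kernel,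
    H493.EigF.ok (H493.EigF.hT H493.EigF.t6) H493.EigF.r1 (H493.EigF.mc H493.EigF.r6 <| H493.EigF.m0) H493.EigF.r6 (by decide +kernel)⟩

/-- the partial products -/
def L3 : List (Fin 6 × Mat 6) := [
    (0, ![![0, 0, 1, 0, 0, 0],
        ![0, 1, 0, 0, 0, 0],
        ![-1, 0, -1, 0, 0, 0],
        ![1, 0, 1, 1, 0, 0],
        ![0, 0, 0, 0, 1, 0],
        ![0, 0, 0, 0, 0, 1]]),
    (2, ![![1, 0, 1, 0, 0, 0],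
        ![0, 1, 0, 0, 0, 0],
        ![0, 0, -1, 0, 0, 0],
        ![0, 0, 1, 1, 0, 0],
        ![0, 0, 0, 0, 1, 0],
        ![0, 0, 0, 0, 0, 1]])]

/-- the eigenvector -/
def V3 : Fin (1 + 1) → Fin 6 → ℤ := ![![-1, 0, 0, 0, 0, 0],
      ![0, 0, 1, 0, 0, 0]]

/-- the functional -/
def U3 : Fin 6 → ℤ := ![-1, 0, 0, 0, 0, 0]

theorem row3 : RowOK Am L3 (vec chevE6 6 71) c3 V3 U3 := by
  rw [vec_hi]
  exact ⟨H129.ChainF.ok H129.ChainF.i6 H129.ChainF.m6 (H129.ChainF.c6 <| H129.ChainF.c6 <| H129.ChainF.nil) (by decide +kernel), by decide +kernel,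
    H493.EigF.ok (H493.EigF.hT H493.EigF.t6) H493.EigF.r2 (H493.EigF.mc H493.EigF.r6 <| H493.EigF.mc H493.EigF.r6 <| H493.EigF.m0) H493.EigF.r6 (by decide +kernel)⟩

/-- the partial products -/
def L4 : List (Fin 6 × Mat 6) := [
    (0, ![![0, 0, 1, 0, 0, 0],
        ![1, 1, 1, 1, 0, 0],
        ![0, 0, 0, 1, 0, 0],
        ![-1, 0, -1, -1, 0, 0],
        ![1, 0, 1, 1, 1, 0],
        ![0, 0, 0, 0, 0, 1]]),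
    (2, ![![1, 0, 1, 0, 0, 0],
        ![0, 1, 1, 1, 0, 0],
        ![0, 0, 0, 1, 0, 0],
        ![0, 0, -1, -1, 0, 0],
        ![0, 0, 1, 1, 1, 0],
        ![0, 0, 0, 0, 0, 1]]),
    (3, ![![1, 0, 0, 0, 0, 0],
        ![0, 1, 0, 1, 0, 0],
        ![0, 0, 1, 1, 0, 0],
        ![0, 0, 0, -1, 0, 0],
        ![0, 0, 0, 1, 1, 0],
        ![0, 0, 0, 0, 0, 1]])]

/-- the eigenvector -/
def V4 : Fin (1 + 1) → Fin 6 → ℤ := ![![1, 0, 1, 0, 0, 0],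
      ![0, 0, -1, -1, 0, 0]]

/-- the functional -/
def U4 : Fin 6 → ℤ := ![1, 0, 0, 0, 0, 0]

theorem row4 : RowOK Am L4 (vec chevE6 6 71) c4 V4 U4 := by
  rw [vec_hi]
  exact ⟨H129.ChainF.ok H129.ChainF.i6 H129.ChainF.m6 (H129.ChainF.c6 <| H129.ChainF.c6 <| H129.ChainF.c6 <| H129.ChainF.nil) (by decide +kernel), by decide +kernel,
    H493.EigF.ok (H493.EigF.hT H493.EigF.t6) H493.EigF.r2 (H493.EigF.mc H493.EigF.r6 <| H493.EigF.mc H493.EigF.r6 <| H493.EigF.m0) H493.EigF.r6 (by decide +kernel)⟩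

/-- the partial products -/
def L5 : List (Fin 6 × Mat 6) := [
    (0, ![![0, 0, 1, 0, 0, 0],
        ![1, 1, 1, 1, 0, 0],
        ![0, 0, 0, 1, 0, 0],
        ![0, 0, 0, 0, 1, 0],
        ![-1, 0, -1, -1, -1, 0],
        ![1, 0, 1, 1, 1, 1]]),
    (2, ![![1, 0, 1, 0, 0, 0],
        ![0, 1, 1, 1, 0, 0],
        ![0, 0, 0, 1, 0, 0],
        ![0, 0, 0, 0, 1, 0],
        ![0, 0, -1, -1, -1, 0],
        ![0, 0, 1, 1, 1, 1]]),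
    (3, ![![1, 0, 0, 0, 0, 0],
        ![0, 1, 0, 1, 0, 0],
        ![0, 0, 1, 1, 0, 0],
        ![0, 0, 0, 0, 1, 0],
        ![0, 0, 0, -1, -1, 0],
        ![0, 0, 0, 1, 1, 1]]),
    (4, ![![1, 0, 0, 0, 0, 0],
        ![0, 1, 0, 0, 0, 0],
        ![0, 0, 1, 0, 0, 0],
        ![0, 0, 0, 1, 1, 0],
        ![0, 0, 0, 0, -1, 0],
        ![0, 0, 0, 0, 1, 1]])]

/-- the eigenvector -/
def V5 : Fin (3 + 1) → Fin 6 → ℤ := ![![1, 0, 0, 1, 0, 0],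
      ![0, 0, 0, 0, -1, 0],
      ![1, 0, 0, 0, 0, 0],
      ![0, 0, -1, 0, -1, 0]]

/-- the functional -/
def U5 : Fin 6 → ℤ := ![0, 0, 0, 1, 0, 0]

theorem row5 : RowOK Am L5 (vec chevE6 6 71) c5 V5 U5 := by
  rw [vec_hi]
  exact ⟨H129.ChainF.ok H129.ChainF.i6 H129.ChainF.m6 (H129.ChainF.c6 <| H129.ChainF.c6 <| H129.ChainF.c6 <| H129.ChainF.c6 <| H129.ChainF.nil) (by decide +kernel), by decide +kernel,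
    H493.EigF.ok (H493.EigF.hT H493.EigF.t6) H493.EigF.r4 (H493.EigF.mc H493.EigF.r6 <| H493.EigF.mc H493.EigF.r6 <| H493.EigF.mc H493.EigF.r6 <| H493.EigF.mc H493.EigF.r6 <| H493.EigF.m0) H493.EigF.r6 (by decide +kernel)⟩

/-- the partial products -/
def L6 : List (Fin 6 × Mat 6) := [
    (0, ![![0, 0, 1, 0, 0, 0],
        ![1, 1, 1, 1, 0, 0],
        ![0, 0, 0, 1, 0, 0],
        ![0, 0, 0, 0, 1, 0],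
        ![0, 0, 0, 0, 0, 1],
        ![-1, 0, -1, -1, -1, -1]]),
    (2, ![![1, 0, 1, 0, 0, 0],
        ![0, 1, 1, 1, 0, 0],
        ![0, 0, 0, 1, 0, 0],
        ![0, 0, 0, 0, 1, 0],
        ![0, 0, 0, 0, 0, 1],
        ![0, 0, -1, -1, -1, -1]]),
    (3, ![![1, 0, 0, 0, 0, 0],
        ![0, 1, 0, 1, 0, 0],
        ![0, 0, 1, 1, 0, 0],
        ![0, 0, 0, 0, 1, 0],
        ![0, 0, 0, 0, 0, 1],
        ![0, 0, 0, -1, -1, -1]]),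
    (4, ![![1, 0, 0, 0, 0, 0],
        ![0, 1, 0, 0, 0, 0],
        ![0, 0, 1, 0, 0, 0],
        ![0, 0, 0, 1, 1, 0],
        ![0, 0, 0, 0, 0, 1],
        ![0, 0, 0, 0, -1, -1]]),
    (5, ![![1, 0, 0, 0, 0, 0],
        ![0, 1, 0, 0, 0, 0],
        ![0, 0, 1, 0, 0, 0],
        ![0, 0, 0, 1, 0, 0],
        ![0, 0, 0, 0, 1, 1],
        ![0, 0, 0, 0, 0, -1]])]

/-- the eigenvector -/
def V6 : Fin (1 + 1) → Fin 6 → ℤ := ![![0, 0, 1, 2, 2, 1],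
      ![1, 0, 1, 0, -1, -1]]

/-- the functional -/
def U6 : Fin 6 → ℤ := ![-1, 0, 1, 0, 0, 0]

theorem row6 : RowOK Am L6 (vec chevE6 6 71) c6 V6 U6 := by
  rw [vec_hi]
  exact ⟨H129.ChainF.ok H129.ChainF.i6 H129.ChainF.m6 (H129.ChainF.c6 <| H129.ChainF.c6 <| H129.ChainF.c6 <| H129.ChainF.c6 <| H129.ChainF.c6 <| H129.ChainF.nil) (by decide +kernel), by decide +kernel,
    H493.EigF.ok (H493.EigF.hT H493.EigF.t6) H493.EigF.r2 (H493.EigF.mc H493.EigF.r6 <| H493.EigF.mc H493.EigF.r6 <| H493.EigF.m0) H493.EigF.r6 (by decide +kernel)⟩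

/-- the partial products -/
def T8 : List (Fin 6 × Mat 6) := [
    (4, ![![1, 0, 1, 1, 1, 0],
        ![0, -1, 0, -1, -1, 0],
        ![0, 0, -1, -1, -1, 0],
        ![0, 1, 1, 1, 1, 0],
        ![0, 0, 0, 1, 1, 1],
        ![0, 0, 0, 0, -1, -1]]),
    (5, ![![1, 0, 1, 1, 0, 0],
        ![0, -1, 0, -1, 0, 0],
        ![0, 0, -1, -1, 0, 0],
        ![0, 1, 1, 1, 0, 0],
        ![0, 0, 0, 1, 1, 1],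
        ![0, 0, 0, 0, 0, -1]]),
    (3, ![![1, 0, 1, 1, 0, 0],
        ![0, -1, 0, -1, 0, 0],
        ![0, 0, -1, -1, 0, 0],
        ![0, 1, 1, 1, 0, 0],
        ![0, 0, 0, 1, 1, 0],
        ![0, 0, 0, 0, 0, 1]]),
    (2, ![![1, 0, 1, 0, 0, 0],
        ![0, -1, 0, 0, 0, 0],
        ![0, 0, -1, 0, 0, 0],
        ![0, 1, 1, 1, 0, 0],
        ![0, 0, 0, 0, 1, 0],
        ![0, 0, 0, 0, 0, 1]]),
    (1, ![![1, 0, 0, 0, 0, 0],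
        ![0, -1, 0, 0, 0, 0],
        ![0, 0, 1, 0, 0, 0],
        ![0, 1, 0, 1, 0, 0],
        ![0, 0, 0, 0, 1, 0],
        ![0, 0, 0, 0, 0, 1]])]

theorem chain8 : ChainOK Am T8 :=
  H129.ChainF.ok H129.ChainF.i6 H129.ChainF.m6 (H129.ChainF.c6 <| H129.ChainF.c6 <| H129.ChainF.c6 <| H129.ChainF.c6 <| H129.ChainF.c6 <| H129.ChainF.nil) (by decide +kernel)

/-- the eigenvector -/
def V8_8 : Fin (3 + 1) → Fin 6 → ℤ := ![![0, -1, -1, -1, -1, 0],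
      ![0, 0, 0, -1, 0, 0],
      ![0, 0, 0, 0, -1, -1],
      ![0, 0, 0, 0, 0, 1]]

/-- the functional -/
def U8_8 : Fin 6 → ℤ := ![0, -1, 0, 0, 0, 0]

theorem tor8_8 : EigOK (hd T8) c8 V8_8 U8_8 :=
  H493.EigF.ok (H493.EigF.hT H493.EigF.t6) H493.EigF.r4 (H493.EigF.mc H493.EigF.r6 <| H493.EigF.mc H493.EigF.r6 <| H493.EigF.mc H493.EigF.r6 <| H493.EigF.mc H493.EigF.r6 <| H493.EigF.m0) H493.EigF.r6 (by decide +kernel)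

/-- the eigenvector -/
def V8_2 : Fin (0 + 1) → Fin 6 → ℤ := ![![0, 1, -1, 0, 0, 0]]

/-- the functional -/
def U8_2 : Fin 6 → ℤ := ![0, 1, 0, 0, 0, 0]

theorem tor8_2 : EigOK (hd T8) c2 V8_2 U8_2 :=
  H493.EigF.ok (H493.EigF.hT H493.EigF.t6) H493.EigF.r1 (H493.EigF.mc H493.EigF.r6 <| H493.EigF.m0) H493.EigF.r6 (by decide +kernel)

/-- the partial products -/
def T9 : List (Fin 6 × Mat 6) := [
    (5, ![![-1, 0, -1, -1, 0, 0],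
        ![0, -1, -1, -2, -1, -1],
        ![1, 0, 1, 1, 1, 1],
        ![0, 1, 1, 1, 0, 0],
        ![0, 0, -1, 0, 0, 0],
        ![0, 0, 1, 1, 1, 0]]),
    (2, ![![-1, 0, -1, -1, 0, 0],
        ![0, -1, -1, -2, -1, 0],
        ![1, 0, 1, 1, 1, 0],
        ![0, 1, 1, 1, 0, 0],
        ![0, 0, -1, 0, 0, 0],
        ![0, 0, 1, 1, 1, 1]]),
    (3, ![![-1, 0, -1, -1, 0, 0],
        ![0, -1, -1, -2, -1, 0],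
        ![1, 0, 1, 1, 1, 0],
        ![0, 1, 0, 1, 0, 0],
        ![0, 0, 1, 0, 0, 0],
        ![0, 0, 0, 1, 1, 1]]),
    (4, ![![-1, 0, -1, 0, 0, 0],
        ![0, -1, -1, -1, -1, 0],
        ![1, 0, 1, 1, 1, 0],
        ![0, 1, 0, 0, 0, 0],
        ![0, 0, 1, 1, 0, 0],
        ![0, 0, 0, 0, 1, 1]]),
    (2, ![![-1, 0, -1, 0, 0, 0],
        ![0, -1, -1, -1, 0, 0],
        ![1, 0, 1, 1, 0, 0],
        ![0, 1, 0, 0, 0, 0],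
        ![0, 0, 1, 1, 1, 0],
        ![0, 0, 0, 0, 0, 1]]),
    (3, ![![-1, 0, 0, 0, 0, 0],
        ![0, -1, 0, -1, 0, 0],
        ![1, 0, 1, 1, 0, 0],
        ![0, 1, 0, 0, 0, 0],
        ![0, 0, 0, 1, 1, 0],
        ![0, 0, 0, 0, 0, 1]]),
    (1, ![![-1, 0, 0, 0, 0, 0],
        ![0, -1, 0, 0, 0, 0],
        ![1, 0, 1, 0, 0, 0],
        ![0, 1, 0, 1, 0, 0],
        ![0, 0, 0, 0, 1, 0],
        ![0, 0, 0, 0, 0, 1]]),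
    (0, ![![-1, 0, 0, 0, 0, 0],
        ![0, 1, 0, 0, 0, 0],
        ![1, 0, 1, 0, 0, 0],
        ![0, 0, 0, 1, 0, 0],
        ![0, 0, 0, 0, 1, 0],
        ![0, 0, 0, 0, 0, 1]])]

theorem chain9 : ChainOK Am T9 :=
  H129.ChainF.ok H129.ChainF.i6 H129.ChainF.m6 (H129.ChainF.c6 <| H129.ChainF.c6 <| H129.ChainF.c6 <| H129.ChainF.c6 <| H129.ChainF.c6 <| H129.ChainF.c6 <| H129.ChainF.c6 <| H129.ChainF.c6 <| H129.ChainF.nil) (by decide +kernel)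

/-- the eigenvector -/
def V9_9 : Fin (5 + 1) → Fin 6 → ℤ := ![![1, 0, 1, 0, 0, 0],
      ![0, 1, 1, 1, 0, 0],
      ![0, 0, 0, 1, 0, 0],
      ![0, -1, 0, -1, 0, 0],
      ![0, 0, 0, -1, -1, 0],
      ![0, 0, 0, 0, -1, -1]]

/-- the functional -/
def U9_9 : Fin 6 → ℤ := ![1, 0, 0, 0, 0, 0]

theorem tor9_9 : EigOK (hd T9) c9 V9_9 U9_9 :=
  H493.EigF.ok (H493.EigF.hT H493.EigF.t6) H493.EigF.r6 (H493.EigF.mc H493.EigF.r6 <| H493.EigF.mc H493.EigF.r6 <| H493.EigF.mc H493.EigF.r6 <| H493.EigF.mc H493.EigF.r6 <| H493.EigF.mc H493.EigF.r6 <| H493.EigF.mc H493.EigF.r6 <| H493.EigF.m0) H493.EigF.r6 (by decide +kernel)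

/-- the partial products -/
def T12 : List (Fin 6 × Mat 6) := [
    (5, ![![-1, 0, -1, -1, -1, -1],
        ![0, -1, 0, -1, -1, -1],
        ![1, 0, 0, 0, 0, 0],
        ![0, 1, 1, 1, 1, 1],
        ![0, 0, 0, 1, 0, 0],
        ![0, 0, 0, 0, 1, 0]]),
    (4, ![![-1, 0, -1, -1, -1, 0],
        ![0, -1, 0, -1, -1, 0],
        ![1, 0, 0, 0, 0, 0],
        ![0, 1, 1, 1, 1, 0],
        ![0, 0, 0, 1, 0, 0],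
        ![0, 0, 0, 0, 1, 1]]),
    (3, ![![-1, 0, -1, -1, 0, 0],
        ![0, -1, 0, -1, 0, 0],
        ![1, 0, 0, 0, 0, 0],
        ![0, 1, 1, 1, 0, 0],
        ![0, 0, 0, 1, 1, 0],
        ![0, 0, 0, 0, 0, 1]]),
    (2, ![![-1, 0, -1, 0, 0, 0],
        ![0, -1, 0, 0, 0, 0],
        ![1, 0, 0, 0, 0, 0],
        ![0, 1, 1, 1, 0, 0],
        ![0, 0, 0, 0, 1, 0],
        ![0, 0, 0, 0, 0, 1]]),
    (1, ![![-1, 0, 0, 0, 0, 0],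
        ![0, -1, 0, 0, 0, 0],
        ![1, 0, 1, 0, 0, 0],
        ![0, 1, 0, 1, 0, 0],
        ![0, 0, 0, 0, 1, 0],
        ![0, 0, 0, 0, 0, 1]]),
    (0, ![![-1, 0, 0, 0, 0, 0],
        ![0, 1, 0, 0, 0, 0],
        ![1, 0, 1, 0, 0, 0],
        ![0, 0, 0, 1, 0, 0],
        ![0, 0, 0, 0, 1, 0],
        ![0, 0, 0, 0, 0, 1]])]

theorem chain12 : ChainOK Am T12 :=
  H129.ChainF.ok H129.ChainF.i6 H129.ChainF.m6 (H129.ChainF.c6 <| H129.ChainF.c6 <| H129.ChainF.c6 <| H129.ChainF.c6 <| H129.ChainF.c6 <| H129.ChainF.c6 <| H129.ChainF.nil) (by decide +kernel)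

/-- the eigenvector -/
def V12_12 : Fin (3 + 1) → Fin 6 → ℤ := ![![-1, 0, -1, -1, 0, 0],
      ![0, -1, -1, -1, -1, 0],
      ![0, -1, 0, -1, -1, -1],
      ![0, 1, 0, 0, 0, 0]]

/-- the functional -/
def U12_12 : Fin 6 → ℤ := ![-1, 0, 0, 0, 0, 0]

theorem tor12_12 : EigOK (hd T12) c12 V12_12 U12_12 :=
  H493.EigF.ok (H493.EigF.hT H493.EigF.t6) H493.EigF.r4 (H493.EigF.mc H493.EigF.r6 <| H493.EigF.mc H493.EigF.r6 <| H493.EigF.mc H493.EigF.r6 <| H493.EigF.mc H493.EigF.r6 <| H493.EigF.m0) H493.EigF.r6 (by decide +kernel)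

/-- the eigenvector -/
def V12_3 : Fin (1 + 1) → Fin 6 → ℤ := ![![0, 0, -1, 0, 0, -1],
      ![1, 0, 0, 0, 1, 0]]

/-- the functional -/
def U12_3 : Fin 6 → ℤ := ![0, 0, -1, 0, 0, 0]

theorem tor12_3 : EigOK (hd T12) c3 V12_3 U12_3 :=
  H493.EigF.ok (H493.EigF.hT H493.EigF.t6) H493.EigF.r2 (H493.EigF.mc H493.EigF.r6 <| H493.EigF.mc H493.EigF.r6 <| H493.EigF.m0) H493.EigF.r6 (by decide +kernel)

end Cfsg.Agent.H378.AdjE6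
end

-- part: H378/ExcAdj
section
prune_inst 0x4d0104300758000000000001202203e42fe0005b0002b000161c0094204896f2280822720aea0100092c4b20530750040000001700010000000003400011e01a008af4e02f7fdad08b00016008004610000000000000000000000000000000000000000000
set_option linter.all false
open scoped Cfsg.Agent.FastGrp

-- part: H378/AdjG2
section
/-!
# Weyl group elements of type G2 (helper378)

`rowM` : a product of simple reflections fixing the highest root with the eigenvalue of order `M`;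
`torM_m` : a product of simple reflections with the eigenvalues of order `M` and `m`.
-/

set_option autoImplicit false

namespace Cfsg.Agent.H378.AdjG2

open Cfsg.Agent.H129.WData Cfsg.Agent.H378.AdjTab Cfsg.Agent.H378.CycTab Cfsg.Agent.H493.PGTorus
open Cfsg.Agent.ChevalleyStructure.CoxeterGeomTypes Cfsg.Agent.Nodes.RGDChev
open Cfsg.Lie Cfsg.Lie.ChevalleyDatum

/-- the Cartan matrix -/
def Am : Mat 2 := ![![2, -3],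
      ![-1, 2]]

theorem hA : ∀ i j, Am i j = cartanOf chevG2 2 i j := by decide +kernel

/-- the highest root -/
def hi : Fin 2 → ℤ := ![3, 2]

theorem lt_nroots : 11 < chevG2.nroots := by decide +kernel

theorem vec_hi : vec chevG2 2 11 = hi := by
  have h : ∀ i : Fin 2, vec chevG2 2 11 i = hi i := by
    unfold vec
    decide +kernel
  exact funext h

theorem orth : SmallTor.Orth chevG2 2 0 0 1 where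
  hr := by decide +kernel
  hs := by decide +kernel
  zero := by decide +kernel
  odd := by decide +kernel

/-- the partial products -/
def L2 : List (Fin 2 × Mat 2) := [
    (0, ![![-1, 0],
        ![3, 1]])]

/-- the eigenvector -/
def V2 : Fin (0 + 1) → Fin 2 → ℤ := ![![1, 0]]

/-- the functional -/
def U2 : Fin 2 → ℤ := ![1, 0]

theorem row2 : RowOK Am L2 (vec chevG2 2 11) c2 V2 U2 := by
  rw [vec_hi]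
  decide +kernel

/-- the partial products -/
def T3 : List (Fin 2 × Mat 2) := [
    (1, ![![-2, -1],
        ![3, 1]]),
    (0, ![![-2, -1],
        ![3, 2]]),
    (1, ![![-1, -1],
        ![3, 2]]),
    (0, ![![-1, 0],
        ![3, 1]])]

theorem chain3 : ChainOK Am T3 := by decide +kernel

/-- the eigenvector -/
def V3_3 : Fin (1 + 1) → Fin 2 → ℤ := ![![-1, -1],
      ![1, 0]]

/-- the functional -/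
def U3_3 : Fin 2 → ℤ := ![0, -1]

theorem tor3_3 : EigOK (hd T3) c3 V3_3 U3_3 := by decide +kernel

/-- the partial products -/
def T6 : List (Fin 2 × Mat 2) := [
    (1, ![![-1, -1],
        ![3, 2]]),
    (0, ![![-1, 0],
        ![3, 1]])]

theorem chain6 : ChainOK Am T6 := by decide +kernel

/-- the eigenvector -/
def V6_6 : Fin (1 + 1) → Fin 2 → ℤ := ![![-2, -1],
      ![1, 0]]

/-- the functional -/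
def U6_6 : Fin 2 → ℤ := ![0, -1]

theorem tor6_6 : EigOK (hd T6) c6 V6_6 U6_6 := by decide +kernel

end Cfsg.Agent.H378.AdjG2
end

-- part: H378/AdjF4
section
/-!
# Weyl group elements of type F4 (helper378)

`rowM` : a product of simple reflections fixing the highest root with the eigenvalue of order `M`;
`torM_m` : a product of simple reflections with the eigenvalues of order `M` and `m`.
-/

set_option autoImplicit false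

namespace Cfsg.Agent.H378.AdjF4

open Cfsg.Agent.H129.WData Cfsg.Agent.H378.AdjTab Cfsg.Agent.H378.CycTab Cfsg.Agent.H493.PGTorus
open Cfsg.Agent.ChevalleyStructure.CoxeterGeomTypes Cfsg.Agent.Nodes.RGDChev
open Cfsg.Lie Cfsg.Lie.ChevalleyDatum

/-- the Cartan matrix -/
def Am : Mat 4 := ![![2, -1, 0, 0],
      ![-1, 2, -2, 0],
      ![0, -1, 2, -1],
      ![0, 0, -1, 2]]

theorem hA : ∀ i j, Am i j = cartanOf chevF4 4 i j := by decide +kernel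

/-- the highest root -/
def hi : Fin 4 → ℤ := ![2, 4, 3, 2]

theorem lt_nroots : 47 < chevF4.nroots := by decide +kernel

theorem vec_hi : vec chevF4 4 47 = hi := by
  have h : ∀ i : Fin 4, vec chevF4 4 47 i = hi i := by
    unfold vec
    decide +kernel
  exact funext h

theorem orth : SmallTor.Orth chevF4 4 0 0 3 where
  hr := by decide +kernel
  hs := by decide +kernel
  zero := by decide +kernel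
  odd := by decide +kernel

/-- the partial products -/
def L2 : List (Fin 4 × Mat 4) := [
    (0, ![![-1, 0, 0, 0],
        ![1, 1, 0, 0],
        ![0, 0, 1, 0],
        ![0, 0, 0, 1]])]

/-- the eigenvector -/
def V2 : Fin (0 + 1) → Fin 4 → ℤ := ![![1, 0, 0, 0]]

/-- the functional -/
def U2 : Fin 4 → ℤ := ![1, 0, 0, 0]

theorem row2 : RowOK Am L2 (vec chevF4 4 47) c2 V2 U2 := by
  rw [vec_hi]
  decide +kernel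

/-- the partial products -/
def L3 : List (Fin 4 × Mat 4) := [
    (0, ![![0, 1, 0, 0],
        ![-1, -1, 0, 0],
        ![2, 2, 1, 0],
        ![0, 0, 0, 1]]),
    (1, ![![1, 1, 0, 0],
        ![0, -1, 0, 0],
        ![0, 2, 1, 0],
        ![0, 0, 0, 1]])]

/-- the eigenvector -/
def V3 : Fin (1 + 1) → Fin 4 → ℤ := ![![-1, 0, 0, 0],
      ![0, 1, 0, 0]]

/-- the functional -/
def U3 : Fin 4 → ℤ := ![-1, 0, 0, 0]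

theorem row3 : RowOK Am L3 (vec chevF4 4 47) c3 V3 U3 := by
  rw [vec_hi]
  decide +kernel

/-- the partial products -/
def L4 : List (Fin 4 × Mat 4) := [
    (1, ![![1, 1, 0, 0],
        ![0, 1, 1, 0],
        ![0, -2, -1, 0],
        ![0, 2, 1, 1]]),
    (2, ![![1, 0, 0, 0],
        ![0, 1, 1, 0],
        ![0, 0, -1, 0],
        ![0, 0, 1, 1]])]

/-- the eigenvector -/
def V4 : Fin (1 + 1) → Fin 4 → ℤ := ![![0, 1, 1, 0],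
      ![0, 1, 0, 0]]

/-- the functional -/
def U4 : Fin 4 → ℤ := ![0, 0, 1, 0]

theorem row4 : RowOK Am L4 (vec chevF4 4 47) c4 V4 U4 := by
  rw [vec_hi]
  decide +kernel

/-- the partial products -/
def L6 : List (Fin 4 × Mat 4) := [
    (0, ![![0, 1, 0, 0],
        ![1, 1, 1, 0],
        ![-2, -2, -1, 0],
        ![2, 2, 1, 1]]),
    (1, ![![1, 1, 0, 0],
        ![0, 1, 1, 0],
        ![0, -2, -1, 0],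
        ![0, 2, 1, 1]]),
    (2, ![![1, 0, 0, 0],
        ![0, 1, 1, 0],
        ![0, 0, -1, 0],
        ![0, 0, 1, 1]])]

/-- the eigenvector -/
def V6 : Fin (1 + 1) → Fin 4 → ℤ := ![![0, 1, 1, 0],
      ![1, 1, 0, 0]]

/-- the functional -/
def U6 : Fin 4 → ℤ := ![-1, 1, 0, 0]

theorem row6 : RowOK Am L6 (vec chevF4 4 47) c6 V6 U6 := by
  rw [vec_hi]
  decide +kernel

/-- the partial products -/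
def T8 : List (Fin 4 × Mat 4) := [
    (3, ![![1, 2, 1, 1],
        ![-1, -1, 0, 0],
        ![0, 0, -1, -1],
        ![2, 2, 2, 1]]),
    (2, ![![1, 2, 1, 0],
        ![-1, -1, 0, 0],
        ![0, 0, -1, 0],
        ![2, 2, 2, 1]]),
    (0, ![![1, 2, 1, 0],
        ![-1, -1, -1, 0],
        ![0, 0, 1, 0],
        ![2, 2, 1, 1]]),
    (1, ![![1, 2, 1, 0],
        ![0, -1, -1, 0],
        ![0, 0, 1, 0],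
        ![0, 2, 1, 1]]),
    (2, ![![1, 1, 1, 0],
        ![0, -1, -1, 0],
        ![0, 2, 1, 0],
        ![0, 0, 1, 1]]),
    (1, ![![1, 1, 0, 0],
        ![0, -1, 0, 0],
        ![0, 2, 1, 0],
        ![0, 0, 0, 1]])]

theorem chain8 : ChainOK Am T8 := by decide +kernel

/-- the eigenvector -/
def V8_8 : Fin (3 + 1) → Fin 4 → ℤ := ![![0, 1, 1, 1],
      ![1, 1, 0, 0],
      ![0, -1, 0, 0],
      ![-1, -1, -1, 0]]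

/-- the functional -/
def U8_8 : Fin 4 → ℤ := ![0, 0, 0, 1]

theorem tor8_8 : EigOK (hd T8) c8 V8_8 U8_8 := by decide +kernel

/-- the partial products -/
def T12 : List (Fin 4 × Mat 4) := [
    (3, ![![0, 1, 0, 0],
        ![1, 1, 1, 1],
        ![-2, -2, -1, -1],
        ![2, 2, 1, 0]]),
    (0, ![![0, 1, 0, 0],
        ![1, 1, 1, 0],
        ![-2, -2, -1, 0],
        ![2, 2, 1, 1]]),
    (1, ![![1, 1, 0, 0],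
        ![0, 1, 1, 0],
        ![0, -2, -1, 0],
        ![0, 2, 1, 1]]),
    (2, ![![1, 0, 0, 0],
        ![0, 1, 1, 0],
        ![0, 0, -1, 0],
        ![0, 0, 1, 1]])]

theorem chain12 : ChainOK Am T12 := by decide +kernel

/-- the eigenvector -/
def V12_12 : Fin (3 + 1) → Fin 4 → ℤ := ![![1, 1, 1, 0],
      ![0, 1, 1, 1],
      ![0, 1, 0, 0],
      ![1, 0, 0, 0]]

/-- the functional -/
def U12_12 : Fin 4 → ℤ := ![0, 0, 1, -1]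

theorem tor12_12 : EigOK (hd T12) c12 V12_12 U12_12 := by decide +kernel

end Cfsg.Agent.H378.AdjF4
end

-- part: H378/ExcAdj
section
/-!
# The prime graph of the exceptional Chevalley groups: primes adjacent to 2 (helper378)

`q = |F|`, `r` a prime divisor of the order of the group, `Adj Y r 2` the adjacency of `H94/PrimeGraph`:

* `adj_G2` : `r = 2`, or `r` is adjacent to `2`, or `q` has order 3 or 6 modulo `r`;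
* `adj_F4` : ... 8 or 12;   `adj_E8` : ... 15, 20, 24 or 30;
* `adj_E6` : ... 8, 9 or 12;   `adj_E7` : ... 7, 9, 12, 14 or 18.
-/

set_option autoImplicit false
set_option linter.unusedSectionVars false

namespace Cfsg.Agent.H378.ExcAdj

open CoxeterSystem Subgroup Cfsg Cfsg.Lie Cfsg.Lie.ChevalleyDatum
open Cfsg.Agent.ChevalleyStructure.CoxeterGeomTypes
open Cfsg.Agent.Nodes.RGDChev
open Cfsg.Agent.BpExc.RowsUntw Cfsg.Agent.BpExc.FamInst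
open Cfsg.Agent.H378.SmallTor Cfsg.Agent.H378.AdjTab Cfsg.Agent.H378.CycTab

universe u v

/-- the order of `q` modulo `r` -/
noncomputable abbrev od (q r : ℕ) : ℕ := orderOf ((q : ℕ) : ZMod r)

theorem od_dvd {q r n : ℕ} (hq : 1 ≤ q) (h : r ∣ q ^ n - 1) : od q r ∣ n := by
  rw [od, ← dvd_iff n]
  have h1 : 1 ≤ q ^ n := Nat.one_le_pow _ _ hq
  have h2 : ((q ^ n - 1 : ℕ) : ℤ) = (q : ℤ) ^ n - 1 := by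
    rw [Nat.cast_sub h1]; push_cast; ring
  rw [← h2]
  exact Int.natCast_dvd_natCast.2 h

theorem dvd_of_od_dvd {q r n : ℕ} (hq : 1 ≤ q) (h : od q r ∣ n) : r ∣ q ^ n - 1 := by
  rw [od, ← dvd_iff n] at h
  have h1 : 1 ≤ q ^ n := Nat.one_le_pow _ _ hq
  have h2 : ((q ^ n - 1 : ℕ) : ℤ) = (q : ℤ) ^ n - 1 := by
    rw [Nat.cast_sub h1]; push_cast; ring
  rw [← h2] at h
  exact Int.natCast_dvd_natCast.1 h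

theorem dvd_of_od_one {q r : ℕ} (hq : 1 ≤ q) (h : od q r = 1) : r ∣ q - 1 := by
  have := dvd_of_od_dvd hq (n := 1) (by rw [h])
  rwa [pow_one] at this

section

variable {D : ChevalleyDatum} {l : ℕ} {M : CoxeterMatrix (Fin l)} (hp : IsType D l M)
  {F : Type u} [Field F] [Finite F]

include hp in
/-- the primes dividing `q (q - 1)` -/
theorem adj_small {j : Fin l} {s t : ℕ} (ho : Orth D l j s t) {r : ℕ} (hr : r.Prime) (h2 : r ≠ 2)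
    (h : r ∣ Nat.card F ∨ r ∣ Nat.card F - 1) : H94.PG.Adj ↥(D.group F) r 2 := by
  let cs : CoxeterSystem M M.Group := M.toCoxeterSystem
  rcases h with h | h
  · obtain ⟨p, _, _, n, hn0, hn⟩ := exists_charP F
    have hrp : r = p := by
      rw [hn] at h
      exact (Nat.prime_dvd_prime_iff_eq hr Fact.out).1 (hr.dvd_of_dvd_pow h)
    subst hrp
    obtain ⟨x, n, hx, hn, hc⟩ := exists_comm_char hp cs ho h2 (F := F)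
    exact adj_of_two hr h2 hx hn hc
  · obtain ⟨x, n, hx, hn, hc⟩ := exists_comm_split hp cs ho hr h2 h
    exact adj_of_two hr h2 hx hn hc

end

/-! ### G2 -/

/-- the order of `q` modulo a prime divisor of the order of the group -/
theorem od_G2 {F : Type u} [Field F] [Finite F] {r : ℕ} (hr : r.Prime) (hd : r ∣ Nat.card ↥(chevG2.group F)) :
    r ∣ Nat.card F ∨ od (Nat.card F) r = 1 ∨ od (Nat.card F) r = 2 ∨ od (Nat.card F) r = 3 ∨ od (Nat.card F) r = 6 := by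
  have : Fintype F := Fintype.ofFinite F
  have h := Cfsg.Agent.S1059.result (F := F) rfl
  rw [← Nat.card_eq_fintype_card] at h
  have hq : 1 ≤ Nat.card F := Nat.card_pos
  have h0 := hd
  rw [h] at h0
  generalize Nat.card F = q at *
  have h1 : r ∣ q ∨ r ∣ q ^ 2 - 1 ∨ r ∣ q ^ 6 - 1 := by
    have hm := fun {a b : ℕ} => (hr.dvd_mul (m := a) (n := b)).1
    have key : r ∣ q ^ 6 ∨ r ∣ q ^ 2 - 1 ∨ r ∣ q ^ 6 - 1 := by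
      simp only [hr.dvd_mul] at h0
      (clear * - h0; tauto)
    rcases key with h2 | h2
    · exact Or.inl (hr.dvd_of_dvd_pow h2)
    · exact Or.inr h2
  have key : ∀ n, r ∣ q ^ n - 1 → od q r ∣ n := fun n hn => od_dvd hq hn
  generalize od q r = m at *
  rcases h1 with h1 | h1 | h1
  · exact Or.inl h1
  · right
    have h3 := key 2 h1
    have h4 := Nat.le_of_dvd (by norm_num) h3
    clear key h1 h0 h hd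
    interval_cases m <;> omega
  · right
    have h3 := key 6 h1
    have h4 := Nat.le_of_dvd (by norm_num) h3
    clear key h1 h0 h hd
    interval_cases m <;> omega

/-- **The primes not adjacent to 2.** -/
theorem adj_G2 (F : Type u) [Field F] [Finite F] {r : ℕ} (hr : r.Prime) (hd : r ∣ Nat.card ↥(chevG2.group F)) :
    r = 2 ∨ H94.PG.Adj ↥(chevG2.group F) r 2 ∨ od (Nat.card F) r = 3 ∨ od (Nat.card F) r = 6 := by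
  by_cases h2 : r = 2
  · exact Or.inl h2
  right
  let cs : CoxeterSystem CoxeterMatrix.G₂ CoxeterMatrix.G₂.Group := CoxeterMatrix.G₂.toCoxeterSystem
  have := finite_W g2T cs
  have hq : 1 ≤ Nat.card F := Nat.card_pos
  have ho : od (Nat.card F) r = 3 ∨ od (Nat.card F) r = 6 → H94.PG.Adj ↥(chevG2.group F) r 2 ∨
      od (Nat.card F) r = 3 ∨ od (Nat.card F) r = 6 := fun h => Or.inr h
  have hn1 : ∀ {m : ℕ}, m ≠ 1 → od (Nat.card F) r = m → ¬ r ∣ Nat.card F - 1 := by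
    intro m hm h3 h4
    have h5 : od (Nat.card F) r ∣ 1 := od_dvd hq (by rw [pow_one]; exact h4)
    rw [h3] at h5
    exact hm (Nat.dvd_one.1 h5)
  rcases od_G2 hr hd with h | h | h | h | h
  · exact Or.inl (adj_small g2T AdjG2.orth hr h2 (Or.inl h))
  · exact Or.inl (adj_small g2T AdjG2.orth hr h2 (Or.inr (dvd_of_od_one hq h)))
  · exact Or.inl (adj_row g2T cs inv_G2 one_ne_zero AdjG2.hA AdjG2.lt_nroots AdjG2.row2 hr h2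
      (hn1 (by decide) h) (dvd2 hr h))
  · exact ho (by (clear * - h; tauto))
  · exact ho (by tauto)

/-! ### F4 -/

/-- the order of `q` modulo a prime divisor of the order of the group -/
theorem od_F4 {F : Type u} [Field F] [Finite F] {r : ℕ} (hr : r.Prime) (hd : r ∣ Nat.card ↥(chevF4.group F)) :
    r ∣ Nat.card F ∨ od (Nat.card F) r = 1 ∨ od (Nat.card F) r = 2 ∨ od (Nat.card F) r = 3 ∨ od (Nat.card F) r = 4 ∨ od (Nat.card F) r = 6 ∨ od (Nat.card F) r = 8 ∨ od (Nat.card F) r = 12 := by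
  have : Fintype F := Fintype.ofFinite F
  have h := Cfsg.Agent.S1062.result (F := F) rfl
  rw [← Nat.card_eq_fintype_card] at h
  have hq : 1 ≤ Nat.card F := Nat.card_pos
  have h0 := hd
  rw [h] at h0
  generalize Nat.card F = q at *
  have h1 : r ∣ q ∨ r ∣ q ^ 2 - 1 ∨ r ∣ q ^ 6 - 1 ∨ r ∣ q ^ 8 - 1 ∨ r ∣ q ^ 12 - 1 := by
    have hm := fun {a b : ℕ} => (hr.dvd_mul (m := a) (n := b)).1
    have key : r ∣ q ^ 24 ∨ r ∣ q ^ 2 - 1 ∨ r ∣ q ^ 6 - 1 ∨ r ∣ q ^ 8 - 1 ∨ r ∣ q ^ 12 - 1 := by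
      simp only [hr.dvd_mul] at h0
      (clear * - h0; (solve | (intros; casesm* _ ∨ _, _ ∧ _) <;> (first | with_reducible contradiction | repeat (first | with_reducible assumption | exact Or.inl (by with_reducible assumption) | refine Or.inr ?_)) | tauto))
    rcases key with h2 | h2
    · exact Or.inl (hr.dvd_of_dvd_pow h2)
    · exact Or.inr h2
  have key : ∀ n, r ∣ q ^ n - 1 → od q r ∣ n := fun n hn => od_dvd hq hn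
  generalize od q r = m at *
  rcases h1 with h1 | h1 | h1 | h1 | h1
  · exact Or.inl h1
  · right
    have h3 := key 2 h1
    have h4 := Nat.le_of_dvd (by norm_num) h3
    clear key h1 h0 h hd
    interval_cases m <;> omega
  · right
    have h3 := key 6 h1
    have h4 := Nat.le_of_dvd (by norm_num) h3
    clear key h1 h0 h hd
    interval_cases m <;> omega
  · right
    have h3 := key 8 h1
    have h4 := Nat.le_of_dvd (by norm_num) h3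
    clear key h1 h0 h hd
    interval_cases m <;> omega
  · right
    have h3 := key 12 h1
    have h4 := Nat.le_of_dvd (by norm_num) h3
    clear key h1 h0 h hd
    interval_cases m <;> omega

/-- **The primes not adjacent to 2.** -/
theorem adj_F4 (F : Type u) [Field F] [Finite F] {r : ℕ} (hr : r.Prime) (hd : r ∣ Nat.card ↥(chevF4.group F)) :
    r = 2 ∨ H94.PG.Adj ↥(chevF4.group F) r 2 ∨ od (Nat.card F) r = 8 ∨ od (Nat.card F) r = 12 := by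
  by_cases h2 : r = 2
  · exact Or.inl h2
  right
  let cs : CoxeterSystem CoxeterMatrix.F₄ CoxeterMatrix.F₄.Group := CoxeterMatrix.F₄.toCoxeterSystem
  have := finite_W f4T cs
  have hq : 1 ≤ Nat.card F := Nat.card_pos
  have ho : od (Nat.card F) r = 8 ∨ od (Nat.card F) r = 12 → H94.PG.Adj ↥(chevF4.group F) r 2 ∨
      od (Nat.card F) r = 8 ∨ od (Nat.card F) r = 12 := fun h => Or.inr h
  have hn1 : ∀ {m : ℕ}, m ≠ 1 → od (Nat.card F) r = m → ¬ r ∣ Nat.card F - 1 := by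
    intro m hm h3 h4
    have h5 : od (Nat.card F) r ∣ 1 := od_dvd hq (by rw [pow_one]; exact h4)
    rw [h3] at h5
    exact hm (Nat.dvd_one.1 h5)
  rcases od_F4 hr hd with h | h | h | h | h | h | h | h
  · exact Or.inl (adj_small f4T AdjF4.orth hr h2 (Or.inl h))
  · exact Or.inl (adj_small f4T AdjF4.orth hr h2 (Or.inr (dvd_of_od_one hq h)))
  · exact Or.inl (adj_row f4T cs inv_F4 one_ne_zero AdjF4.hA AdjF4.lt_nroots AdjF4.row2 hr h2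
      (hn1 (by decide) h) (dvd2 hr h))
  · exact Or.inl (adj_row f4T cs inv_F4 one_ne_zero AdjF4.hA AdjF4.lt_nroots AdjF4.row3 hr h2
      (hn1 (by decide) h) (dvd3 hr h))
  · exact Or.inl (adj_row f4T cs inv_F4 one_ne_zero AdjF4.hA AdjF4.lt_nroots AdjF4.row4 hr h2
      (hn1 (by decide) h) (dvd4 hr h))
  · exact Or.inl (adj_row f4T cs inv_F4 one_ne_zero AdjF4.hA AdjF4.lt_nroots AdjF4.row6 hr h2
      (hn1 (by decide) h) (dvd6 hr h))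
  · exact ho (by (clear * - h; tauto))
  · exact ho (by (solve | repeat (first | with_reducible assumption | exact Or.inl (by with_reducible assumption) | refine Or.inr ?_) | tauto))

/-! ### E6 -/

/-- the order of `q` modulo a prime divisor of the order of the group -/
theorem od_E6 {F : Type u} [Field F] [Finite F] {r : ℕ} (hr : r.Prime) (hd : r ∣ Nat.card ↥(chevE6.group F)) :
    r ∣ Nat.card F ∨ od (Nat.card F) r = 1 ∨ od (Nat.card F) r = 2 ∨ od (Nat.card F) r = 3 ∨ od (Nat.card F) r = 4 ∨ od (Nat.card F) r = 5 ∨ od (Nat.card F) r = 6 ∨ od (Nat.card F) r = 8 ∨ od (Nat.card F) r = 9 ∨ od (Nat.card F) r = 12 := by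
  have : Fintype F := Fintype.ofFinite F
  have h := Cfsg.Agent.S1063.result (F := F) rfl
  rw [← Nat.card_eq_fintype_card] at h
  have hq : 1 ≤ Nat.card F := Nat.card_pos
  have h0 := hd.trans (Dvd.intro_left (Nat.gcd 3 (Nat.card F - 1)) rfl)
  rw [h] at h0
  generalize Nat.card F = q at *
  have h1 : r ∣ q ∨ r ∣ q ^ 2 - 1 ∨ r ∣ q ^ 5 - 1 ∨ r ∣ q ^ 6 - 1 ∨ r ∣ q ^ 8 - 1 ∨ r ∣ q ^ 9 - 1 ∨ r ∣ q ^ 12 - 1 := by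
    have hm := fun {a b : ℕ} => (hr.dvd_mul (m := a) (n := b)).1
    have key : r ∣ q ^ 36 ∨ r ∣ q ^ 2 - 1 ∨ r ∣ q ^ 5 - 1 ∨ r ∣ q ^ 6 - 1 ∨ r ∣ q ^ 8 - 1 ∨ r ∣ q ^ 9 - 1 ∨ r ∣ q ^ 12 - 1 := by
      simp only [hr.dvd_mul] at h0
      (clear * - h0; (solve | (intros; casesm* _ ∨ _, _ ∧ _) <;> (first | with_reducible contradiction | repeat (first | with_reducible assumption | exact Or.inl (by with_reducible assumption) | refine Or.inr ?_)) | tauto))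
    rcases key with h2 | h2
    · exact Or.inl (hr.dvd_of_dvd_pow h2)
    · exact Or.inr h2
  have key : ∀ n, r ∣ q ^ n - 1 → od q r ∣ n := fun n hn => od_dvd hq hn
  generalize od q r = m at *
  rcases h1 with h1 | h1 | h1 | h1 | h1 | h1 | h1
  · exact Or.inl h1
  · right
    have h3 := key 2 h1
    have h4 := Nat.le_of_dvd (by norm_num) h3
    clear key h1 h0 h hd
    interval_cases m <;> omega
  · right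
    have h3 := key 5 h1
    have h4 := Nat.le_of_dvd (by norm_num) h3
    clear key h1 h0 h hd
    interval_cases m <;> omega
  · right
    have h3 := key 6 h1
    have h4 := Nat.le_of_dvd (by norm_num) h3
    clear key h1 h0 h hd
    interval_cases m <;> omega
  · right
    have h3 := key 8 h1
    have h4 := Nat.le_of_dvd (by norm_num) h3
    clear key h1 h0 h hd
    interval_cases m <;> omega
  · right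
    have h3 := key 9 h1
    have h4 := Nat.le_of_dvd (by norm_num) h3
    clear key h1 h0 h hd
    interval_cases m <;> omega
  · right
    have h3 := key 12 h1
    have h4 := Nat.le_of_dvd (by norm_num) h3
    clear key h1 h0 h hd
    interval_cases m <;> (clear * - h3; omega)

/-- **The primes not adjacent to 2.** -/
theorem adj_E6 (F : Type u) [Field F] [Finite F] {r : ℕ} (hr : r.Prime) (hd : r ∣ Nat.card ↥(chevE6.group F)) :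
    r = 2 ∨ H94.PG.Adj ↥(chevE6.group F) r 2 ∨ od (Nat.card F) r = 8 ∨ od (Nat.card F) r = 9 ∨ od (Nat.card F) r = 12 := by
  by_cases h2 : r = 2
  · exact Or.inl h2
  right
  let cs : CoxeterSystem CoxeterMatrix.E₆ CoxeterMatrix.E₆.Group := CoxeterMatrix.E₆.toCoxeterSystem
  have := finite_W e6T cs
  have hq : 1 ≤ Nat.card F := Nat.card_pos
  have ho : od (Nat.card F) r = 8 ∨ od (Nat.card F) r = 9 ∨ od (Nat.card F) r = 12 → H94.PG.Adj ↥(chevE6.group F) r 2 ∨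
      od (Nat.card F) r = 8 ∨ od (Nat.card F) r = 9 ∨ od (Nat.card F) r = 12 := fun h => Or.inr h
  have hn1 : ∀ {m : ℕ}, m ≠ 1 → od (Nat.card F) r = m → ¬ r ∣ Nat.card F - 1 := by
    intro m hm h3 h4
    have h5 : od (Nat.card F) r ∣ 1 := od_dvd hq (by rw [pow_one]; exact h4)
    rw [h3] at h5
    exact hm (Nat.dvd_one.1 h5)
  rcases od_E6 hr hd with h | h | h | h | h | h | h | h | h | h
  · exact Or.inl (adj_small e6T AdjE6.orth hr h2 (Or.inl h))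
  · exact Or.inl (adj_small e6T AdjE6.orth hr h2 (Or.inr (dvd_of_od_one hq h)))
  · exact Or.inl (adj_row e6T cs inv_E6 three_ne_zero AdjE6.hA AdjE6.lt_nroots AdjE6.row2 hr h2
      (hn1 (by decide) h) (dvd2 hr h))
  · exact Or.inl (adj_row e6T cs inv_E6 three_ne_zero AdjE6.hA AdjE6.lt_nroots AdjE6.row3 hr h2
      (hn1 (by decide) h) (dvd3 hr h))
  · exact Or.inl (adj_row e6T cs inv_E6 three_ne_zero AdjE6.hA AdjE6.lt_nroots AdjE6.row4 hr h2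
      (hn1 (by decide) h) (dvd4 hr h))
  · exact Or.inl (adj_row e6T cs inv_E6 three_ne_zero AdjE6.hA AdjE6.lt_nroots AdjE6.row5 hr h2
      (hn1 (by decide) h) (dvd5 hr h))
  · exact Or.inl (adj_row e6T cs inv_E6 three_ne_zero AdjE6.hA AdjE6.lt_nroots AdjE6.row6 hr h2
      (hn1 (by decide) h) (dvd6 hr h))
  · exact ho (by (clear * - h; tauto))
  · exact ho (by (clear * - h; tauto))
  · exact ho (by (clear * - h; tauto))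

/-! ### E7 -/

/-- the order of `q` modulo a prime divisor of the order of the group -/
theorem od_E7 {F : Type u} [Field F] [Finite F] {r : ℕ} (hr : r.Prime) (hd : r ∣ Nat.card ↥(chevE7.group F)) :
    r ∣ Nat.card F ∨ od (Nat.card F) r = 1 ∨ od (Nat.card F) r = 2 ∨ od (Nat.card F) r = 3 ∨ od (Nat.card F) r = 4 ∨ od (Nat.card F) r = 5 ∨ od (Nat.card F) r = 6 ∨ od (Nat.card F) r = 7 ∨ od (Nat.card F) r = 8 ∨ od (Nat.card F) r = 9 ∨ od (Nat.card F) r = 10 ∨ od (Nat.card F) r = 12 ∨ od (Nat.card F) r = 14 ∨ od (Nat.card F) r = 18 := by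
  have : Fintype F := Fintype.ofFinite F
  have h := Cfsg.Agent.S1064.result (F := F) rfl
  rw [← Nat.card_eq_fintype_card] at h
  have hq : 1 ≤ Nat.card F := Nat.card_pos
  have h0 := hd.trans (Dvd.intro_left (Nat.gcd 2 (Nat.card F - 1)) rfl)
  rw [h] at h0
  generalize Nat.card F = q at *
  have h1 : r ∣ q ∨ r ∣ q ^ 2 - 1 ∨ r ∣ q ^ 6 - 1 ∨ r ∣ q ^ 8 - 1 ∨ r ∣ q ^ 10 - 1 ∨ r ∣ q ^ 12 - 1 ∨ r ∣ q ^ 14 - 1 ∨ r ∣ q ^ 18 - 1 := by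
    have hm := fun {a b : ℕ} => (hr.dvd_mul (m := a) (n := b)).1
    have key : r ∣ q ^ 63 ∨ r ∣ q ^ 2 - 1 ∨ r ∣ q ^ 6 - 1 ∨ r ∣ q ^ 8 - 1 ∨ r ∣ q ^ 10 - 1 ∨ r ∣ q ^ 12 - 1 ∨ r ∣ q ^ 14 - 1 ∨ r ∣ q ^ 18 - 1 := by
      simp only [hr.dvd_mul] at h0
      (clear * - h0; (solve | (intros; casesm* _ ∨ _, _ ∧ _) <;> (first | with_reducible contradiction | repeat (first | with_reducible assumption | exact Or.inl (by with_reducible assumption) | refine Or.inr ?_)) | tauto))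
    rcases key with h2 | h2
    · exact Or.inl (hr.dvd_of_dvd_pow h2)
    · exact Or.inr h2
  have key : ∀ n, r ∣ q ^ n - 1 → od q r ∣ n := fun n hn => od_dvd hq hn
  generalize od q r = m at *
  rcases h1 with h1 | h1 | h1 | h1 | h1 | h1 | h1 | h1
  · exact Or.inl h1
  · right
    have h3 := key 2 h1
    have h4 := Nat.le_of_dvd (by norm_num) h3
    clear key h1 h0 h hd
    interval_cases m <;> omega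
  · right
    have h3 := key 6 h1
    have h4 := Nat.le_of_dvd (by norm_num) h3
    clear key h1 h0 h hd
    interval_cases m <;> omega
  · right
    have h3 := key 8 h1
    have h4 := Nat.le_of_dvd (by norm_num) h3
    clear key h1 h0 h hd
    interval_cases m <;> (clear * - h3; omega)
  · right
    have h3 := key 10 h1
    have h4 := Nat.le_of_dvd (by norm_num) h3
    clear key h1 h0 h hd
    interval_cases m <;> (clear * - h3; omega)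
  · right
    have h3 := key 12 h1
    have h4 := Nat.le_of_dvd (by norm_num) h3
    clear key h1 h0 h hd
    interval_cases m <;> (clear * - h3; omega)
  · right
    have h3 := key 14 h1
    have h4 := Nat.le_of_dvd (by norm_num) h3
    clear key h1 h0 h hd
    interval_cases m <;> (clear * - h3; omega)
  · right
    have h3 := key 18 h1
    have h4 := Nat.le_of_dvd (by norm_num) h3
    clear key h1 h0 h hd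
    interval_cases m <;> (clear * - h3; omega)

/-- **The primes not adjacent to 2.** -/
theorem adj_E7 (F : Type u) [Field F] [Finite F] {r : ℕ} (hr : r.Prime) (hd : r ∣ Nat.card ↥(chevE7.group F)) :
    r = 2 ∨ H94.PG.Adj ↥(chevE7.group F) r 2 ∨ od (Nat.card F) r = 7 ∨ od (Nat.card F) r = 9 ∨ od (Nat.card F) r = 12 ∨ od (Nat.card F) r = 14 ∨ od (Nat.card F) r = 18 := by
  by_cases h2 : r = 2
  · exact Or.inl h2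
  right
  let cs : CoxeterSystem CoxeterMatrix.E₇ CoxeterMatrix.E₇.Group := CoxeterMatrix.E₇.toCoxeterSystem
  have := finite_W e7T cs
  have hq : 1 ≤ Nat.card F := Nat.card_pos
  have ho : od (Nat.card F) r = 7 ∨ od (Nat.card F) r = 9 ∨ od (Nat.card F) r = 12 ∨ od (Nat.card F) r = 14 ∨ od (Nat.card F) r = 18 → H94.PG.Adj ↥(chevE7.group F) r 2 ∨
      od (Nat.card F) r = 7 ∨ od (Nat.card F) r = 9 ∨ od (Nat.card F) r = 12 ∨ od (Nat.card F) r = 14 ∨ od (Nat.card F) r = 18 := fun h => Or.inr h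
  have hn1 : ∀ {m : ℕ}, m ≠ 1 → od (Nat.card F) r = m → ¬ r ∣ Nat.card F - 1 := by
    intro m hm h3 h4
    have h5 : od (Nat.card F) r ∣ 1 := od_dvd hq (by rw [pow_one]; exact h4)
    rw [h3] at h5
    exact hm (Nat.dvd_one.1 h5)
  rcases od_E7 hr hd with h | h | h | h | h | h | h | h | h | h | h | h | h | h
  · exact Or.inl (adj_small e7T AdjE7.orth hr h2 (Or.inl h))
  · exact Or.inl (adj_small e7T AdjE7.orth hr h2 (Or.inr (dvd_of_od_one hq h)))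
  · exact Or.inl (adj_row e7T cs inv_E7 two_ne_zero AdjE7.hA AdjE7.lt_nroots AdjE7.row2 hr h2
      (hn1 (by decide) h) (dvd2 hr h))
  · exact Or.inl (adj_row e7T cs inv_E7 two_ne_zero AdjE7.hA AdjE7.lt_nroots AdjE7.row3 hr h2
      (hn1 (by decide) h) (dvd3 hr h))
  · exact Or.inl (adj_row e7T cs inv_E7 two_ne_zero AdjE7.hA AdjE7.lt_nroots AdjE7.row4 hr h2
      (hn1 (by decide) h) (dvd4 hr h))
  · exact Or.inl (adj_row e7T cs inv_E7 two_ne_zero AdjE7.hA AdjE7.lt_nroots AdjE7.row5 hr h2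
      (hn1 (by decide) h) (dvd5 hr h))
  · exact Or.inl (adj_row e7T cs inv_E7 two_ne_zero AdjE7.hA AdjE7.lt_nroots AdjE7.row6 hr h2
      (hn1 (by decide) h) (dvd6 hr h))
  · exact ho (by (clear * - h; tauto))
  · exact Or.inl (adj_row e7T cs inv_E7 two_ne_zero AdjE7.hA AdjE7.lt_nroots AdjE7.row8 hr h2
      (hn1 (by decide) h) (dvd8 hr h))
  · exact ho (by (clear * - h; tauto))
  · exact Or.inl (adj_row e7T cs inv_E7 two_ne_zero AdjE7.hA AdjE7.lt_nroots AdjE7.row10 hr h2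
      (hn1 (by decide) h) (dvd10 hr h))
  · exact ho (by (clear * - h; tauto))
  · exact ho (by (clear * - h; (solve | repeat (first | with_reducible assumption | exact Or.inl (by with_reducible assumption) | refine Or.inr ?_) | tauto)))
  · exact ho (by (clear * - h; tauto))

/-! ### E8 -/

/-- the order of `q` modulo a prime divisor of the order of the group -/
theorem od_E8 {F : Type u} [Field F] [Finite F] {r : ℕ} (hr : r.Prime) (hd : r ∣ Nat.card ↥(chevE8.group F)) :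
    r ∣ Nat.card F ∨ od (Nat.card F) r = 1 ∨ od (Nat.card F) r = 2 ∨ od (Nat.card F) r = 3 ∨ od (Nat.card F) r = 4 ∨ od (Nat.card F) r = 5 ∨ od (Nat.card F) r = 6 ∨ od (Nat.card F) r = 7 ∨ od (Nat.card F) r = 8 ∨ od (Nat.card F) r = 9 ∨ od (Nat.card F) r = 10 ∨ od (Nat.card F) r = 12 ∨ od (Nat.card F) r = 14 ∨ od (Nat.card F) r = 15 ∨ od (Nat.card F) r = 18 ∨ od (Nat.card F) r = 20 ∨ od (Nat.card F) r = 24 ∨ od (Nat.card F) r = 30 := by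
  have : Fintype F := Fintype.ofFinite F
  have h := Cfsg.Agent.S1065.result (F := F) rfl
  rw [← Nat.card_eq_fintype_card] at h
  have hq : 1 ≤ Nat.card F := Nat.card_pos
  have h0 := hd
  rw [h] at h0
  generalize Nat.card F = q at *
  have h1 : r ∣ q ∨ r ∣ q ^ 2 - 1 ∨ r ∣ q ^ 8 - 1 ∨ r ∣ q ^ 12 - 1 ∨ r ∣ q ^ 14 - 1 ∨ r ∣ q ^ 18 - 1 ∨ r ∣ q ^ 20 - 1 ∨ r ∣ q ^ 24 - 1 ∨ r ∣ q ^ 30 - 1 := by
    have hm := fun {a b : ℕ} => (hr.dvd_mul (m := a) (n := b)).1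
    have key : r ∣ q ^ 120 ∨ r ∣ q ^ 2 - 1 ∨ r ∣ q ^ 8 - 1 ∨ r ∣ q ^ 12 - 1 ∨ r ∣ q ^ 14 - 1 ∨ r ∣ q ^ 18 - 1 ∨ r ∣ q ^ 20 - 1 ∨ r ∣ q ^ 24 - 1 ∨ r ∣ q ^ 30 - 1 := by
      simp only [hr.dvd_mul] at h0
      (clear * - h0; (solve | (intros; casesm* _ ∨ _, _ ∧ _) <;> (first | with_reducible contradiction | repeat (first | with_reducible assumption | exact Or.inl (by with_reducible assumption) | refine Or.inr ?_)) | tauto))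
    rcases key with h2 | h2
    · exact Or.inl (hr.dvd_of_dvd_pow h2)
    · exact Or.inr h2
  have key : ∀ n, r ∣ q ^ n - 1 → od q r ∣ n := fun n hn => od_dvd hq hn
  generalize od q r = m at *
  rcases h1 with h1 | h1 | h1 | h1 | h1 | h1 | h1 | h1 | h1
  · exact Or.inl h1
  · right
    have h3 := key 2 h1
    have h4 := Nat.le_of_dvd (by norm_num) h3
    clear key h1 h0 h hd
    interval_cases m <;> omega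
  · right
    have h3 := key 8 h1
    have h4 := Nat.le_of_dvd (by norm_num) h3
    clear key h1 h0 h hd
    interval_cases m <;> (clear * - h3; omega)
  · right
    have h3 := key 12 h1
    have h4 := Nat.le_of_dvd (by norm_num) h3
    clear key h1 h0 h hd
    interval_cases m <;> (clear * - h3; omega)
  · right
    have h3 := key 14 h1
    have h4 := Nat.le_of_dvd (by norm_num) h3
    clear key h1 h0 h hd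
    interval_cases m <;> (clear * - h3; omega)
  · right
    have h3 := key 18 h1
    have h4 := Nat.le_of_dvd (by norm_num) h3
    clear key h1 h0 h hd
    interval_cases m <;> (clear * - h3; omega)
  · right
    have h3 := key 20 h1
    have h4 := Nat.le_of_dvd (by norm_num) h3
    clear key h1 h0 h hd
    interval_cases m <;> (clear * - h3; omega)
  · right
    have h3 := key 24 h1
    have h4 := Nat.le_of_dvd (by norm_num) h3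
    clear key h1 h0 h hd
    interval_cases m <;> (clear * - h3; omega)
  · right
    have h3 := key 30 h1
    have h4 := Nat.le_of_dvd (by norm_num) h3
    clear key h1 h0 h hd
    interval_cases m <;> (clear * - h3; omega)

/-- **The primes not adjacent to 2.** -/
theorem adj_E8 (F : Type u) [Field F] [Finite F] {r : ℕ} (hr : r.Prime) (hd : r ∣ Nat.card ↥(chevE8.group F)) :
    r = 2 ∨ H94.PG.Adj ↥(chevE8.group F) r 2 ∨ od (Nat.card F) r = 15 ∨ od (Nat.card F) r = 20 ∨ od (Nat.card F) r = 24 ∨ od (Nat.card F) r = 30 := by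
  by_cases h2 : r = 2
  · exact Or.inl h2
  right
  let cs : CoxeterSystem CoxeterMatrix.E₈ CoxeterMatrix.E₈.Group := CoxeterMatrix.E₈.toCoxeterSystem
  have := finite_W e8T cs
  have hq : 1 ≤ Nat.card F := Nat.card_pos
  have ho : od (Nat.card F) r = 15 ∨ od (Nat.card F) r = 20 ∨ od (Nat.card F) r = 24 ∨ od (Nat.card F) r = 30 → H94.PG.Adj ↥(chevE8.group F) r 2 ∨
      od (Nat.card F) r = 15 ∨ od (Nat.card F) r = 20 ∨ od (Nat.card F) r = 24 ∨ od (Nat.card F) r = 30 := fun h => Or.inr h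
  have hn1 : ∀ {m : ℕ}, m ≠ 1 → od (Nat.card F) r = m → ¬ r ∣ Nat.card F - 1 := by
    intro m hm h3 h4
    have h5 : od (Nat.card F) r ∣ 1 := od_dvd hq (by rw [pow_one]; exact h4)
    rw [h3] at h5
    exact hm (Nat.dvd_one.1 h5)
  rcases od_E8 hr hd with h | h | h | h | h | h | h | h | h | h | h | h | h | h | h | h | h | h
  · exact Or.inl (adj_small e8T AdjE8.orth hr h2 (Or.inl h))
  · exact Or.inl (adj_small e8T AdjE8.orth hr h2 (Or.inr (dvd_of_od_one hq h)))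
  · exact Or.inl (adj_row e8T cs inv_E8 one_ne_zero AdjE8.hA AdjE8.lt_nroots AdjE8.row2 hr h2
      (hn1 (by decide) h) (dvd2 hr h))
  · exact Or.inl (adj_row e8T cs inv_E8 one_ne_zero AdjE8.hA AdjE8.lt_nroots AdjE8.row3 hr h2
      (hn1 (by decide) h) (dvd3 hr h))
  · exact Or.inl (adj_row e8T cs inv_E8 one_ne_zero AdjE8.hA AdjE8.lt_nroots AdjE8.row4 hr h2
      (hn1 (by decide) h) (dvd4 hr h))
  · exact Or.inl (adj_row e8T cs inv_E8 one_ne_zero AdjE8.hA AdjE8.lt_nroots AdjE8.row5 hr h2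
      (hn1 (by decide) h) (dvd5 hr h))
  · exact Or.inl (adj_row e8T cs inv_E8 one_ne_zero AdjE8.hA AdjE8.lt_nroots AdjE8.row6 hr h2
      (hn1 (by decide) h) (dvd6 hr h))
  · exact Or.inl (adj_row e8T cs inv_E8 one_ne_zero AdjE8.hA AdjE8.lt_nroots AdjE8.row7 hr h2
      (hn1 (by decide) h) (dvd7 hr h))
  · exact Or.inl (adj_row e8T cs inv_E8 one_ne_zero AdjE8.hA AdjE8.lt_nroots AdjE8.row8 hr h2
      (hn1 (by decide) h) (dvd8 hr h))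
  · exact Or.inl (adj_row e8T cs inv_E8 one_ne_zero AdjE8.hA AdjE8.lt_nroots AdjE8.row9 hr h2
      (hn1 (by decide) h) (dvd9 hr h))
  · exact Or.inl (adj_row e8T cs inv_E8 one_ne_zero AdjE8.hA AdjE8.lt_nroots AdjE8.row10 hr h2
      (hn1 (by decide) h) (dvd10 hr h))
  · exact Or.inl (adj_row e8T cs inv_E8 one_ne_zero AdjE8.hA AdjE8.lt_nroots AdjE8.row12 hr h2
      (hn1 (by decide) h) (dvd12 hr h))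
  · exact Or.inl (adj_row e8T cs inv_E8 one_ne_zero AdjE8.hA AdjE8.lt_nroots AdjE8.row14 hr h2
      (hn1 (by decide) h) (dvd14 hr h))
  · exact ho (by (clear * - h; tauto))
  · exact Or.inl (adj_row e8T cs inv_E8 one_ne_zero AdjE8.hA AdjE8.lt_nroots AdjE8.row18 hr h2
      (hn1 (by decide) h) (dvd18 hr h))
  · exact ho (by (clear * - h; tauto))
  · exact ho (by (clear * - h; tauto))
  · exact ho (by (clear * - h; tauto))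

end Cfsg.Agent.H378.ExcAdj
end

private theorem dce_43e8387d7dfa : _root_.True := by
  try have : _root_.True := by simp only [_root_.Cfsg.Agent.H378.ExcAdj.od.eq_1]
  exact _root_.True.intro
end

-- part: H378/ExcNear
section
set_option linter.all false
open scoped Cfsg.Agent.FastGrp

/-!
# Primes at distance at most 2 from 2 in the prime graphs of E6(q), E7(q) (helper378)

* `near_E6` : every prime divisor is `Near`, or `q` has order 9 modulo `r`;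
* `near_E7` : every prime divisor is `Near`, or `q ∈ {2, 3}` and `q` has order 7 or 9 modulo `r`;
* `near_G2`, `near_F4`, `near_E8` : from `ExcAdj`.
-/

set_option autoImplicit false
set_option linter.unusedSectionVars false

namespace Cfsg.Agent.H378.ExcNear

open CoxeterSystem Subgroup Cfsg Cfsg.Lie Cfsg.Lie.ChevalleyDatum
open Cfsg.Agent.ChevalleyStructure.CoxeterGeomTypes
open Cfsg.Agent.Nodes.RGDChev Cfsg.Agent.KFacts.RgdChevCoord Cfsg.Agent.BpExc.TorChev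
open Cfsg.Agent.BpExc.RowsUntw Cfsg.Agent.BpExc.FamInst Cfsg.Agent.BpExc.FamExt
open Cfsg.Agent.H378.SmallTor Cfsg.Agent.H378.AdjTab Cfsg.Agent.H378.CycTab Cfsg.Agent.H378.ExcAdj
open Cfsg.Agent.H493.PGTorus Cfsg.Agent.H129.WData
open Cfsg.Agent.H564.NearTwo (Near)

universe u v

/-! ### arithmetic -/

theorem coprime_gcd {r d n : ℕ} (hr : r.Prime) (h : ¬ r ∣ d) : r.Coprime (Nat.gcd d n) :=
  (Nat.Prime.coprime_iff_not_dvd hr).2 fun h1 => h (h1.trans (Nat.gcd_dvd_left _ _))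

theorem coprime_gcd' {r d n : ℕ} (hr : r.Prime) (h : ¬ r ∣ n) : r.Coprime (Nat.gcd d n) :=
  (Nat.Prime.coprime_iff_not_dvd hr).2 fun h1 => h (h1.trans (Nat.gcd_dvd_right _ _))

/-- a prime `s ≠ 3` dividing `q² + q + 1` -/
theorem exists_three {q : ℕ} (hq : 2 ≤ q) : ∃ s : ℕ, s.Prime ∧ s ≠ 3 ∧ s ≠ 2 ∧ s ∣ q ^ 2 + q + 1 := by
  obtain ⟨n, hn⟩ : ∃ n, n = q ^ 2 + q + 1 := ⟨_, rfl⟩
  have h7 : 7 ≤ n := by rw [hn]; nlinarith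
  have h9 : ¬ 9 ∣ n := by
    rw [hn]
    intro h
    have h1 : (q ^ 2 + q + 1) % 9 = 0 := Nat.mod_eq_zero_of_dvd h
    have h2 : q % 9 < 9 := Nat.mod_lt _ (by norm_num)
    have h3 : (q ^ 2 + q + 1) % 9 = ((q % 9) ^ 2 + q % 9 + 1) % 9 := by
      simp [Nat.add_mod, Nat.pow_mod]
    rw [h3] at h1
    generalize q % 9 = t at *
    interval_cases t <;> simp at h1
  have hodd : ¬ 2 ∣ n := by
    rw [hn]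
    have : Even (q ^ 2 + q) := by
      have := Nat.even_mul_succ_self q
      have e : q ^ 2 + q = q * (q + 1) := by ring
      rw [e]; exact this
    intro h
    obtain ⟨a, ha⟩ := this
    omega
  have key : ∃ s : ℕ, s.Prime ∧ s ≠ 3 ∧ s ∣ n := by
    by_cases h3 : 3 ∣ n
    · obtain ⟨m, hm⟩ := h3
      have hm1 : m ≠ 1 := by omega
      obtain ⟨s, hs, hsd⟩ := Nat.exists_prime_and_dvd hm1
      refine ⟨s, hs, ?_, hsd.trans ⟨3, by rw [hm]; ring⟩⟩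
      rintro rfl
      obtain ⟨m', rfl⟩ := hsd
      exact h9 ⟨m', by rw [hm]; ring⟩
    · obtain ⟨s, hs, hsd⟩ := Nat.exists_prime_and_dvd (n := n) (by omega)
      exact ⟨s, hs, by rintro rfl; exact h3 hsd, hsd⟩
  obtain ⟨s, hs, h3, hsd⟩ := key
  refine ⟨s, hs, h3, ?_, by rw [← hn]; exact hsd⟩
  rintro rfl
  exact hodd hsd

theorem not_dvd_sub_of_three {q s : ℕ} (hq : 2 ≤ q) (hs : s.Prime) (h3 : s ≠ 3) (h : s ∣ q ^ 2 + q + 1) :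
    ¬ s ∣ q - 1 := by
  intro h1
  obtain ⟨t, rfl⟩ : ∃ t, q = t + 1 := ⟨q - 1, by omega⟩
  rw [Nat.add_sub_cancel] at h1
  have h2 : s ∣ 3 := by
    have e : (t + 1) ^ 2 + (t + 1) + 1 = t * (t + 3) + 3 := by ring
    rw [e] at h
    exact (Nat.dvd_add_right (h1.mul_right _)).1 h
  exact h3 ((Nat.prime_dvd_prime_iff_eq hs Nat.prime_three).1 h2)

theorem not_dvd_sub_of_two {q s : ℕ} (hq : 2 ≤ q) (hs : s.Prime) (h2 : s ≠ 2) (h : s ∣ q + 1) : ¬ s ∣ q - 1 := by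
  intro h1
  have h3 : s ∣ 2 := by
    have := Nat.dvd_sub h h1
    have e : q + 1 - (q - 1) = 2 := by omega
    rwa [e] at this
  exact h2 ((Nat.prime_dvd_prime_iff_eq hs Nat.prime_two).1 h3)

/-- `4 ∣ n`, or an odd prime divisor of `n`, or `n ≤ 2` -/
theorem four_or {n : ℕ} (hn : 3 ≤ n) : 4 ∣ n ∨ ∃ s : ℕ, s.Prime ∧ s ≠ 2 ∧ s ∣ n := by
  by_cases h4 : 4 ∣ n
  · exact Or.inl h4
  right
  by_cases h2 : 2 ∣ n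
  · obtain ⟨m, hm⟩ := h2
    have hm1 : m ≠ 1 := by omega
    obtain ⟨s, hs, hsd⟩ := Nat.exists_prime_and_dvd hm1
    refine ⟨s, hs, ?_, hsd.trans ⟨2, by rw [hm]; ring⟩⟩
    rintro rfl
    obtain ⟨m', rfl⟩ := hsd
    exact h4 ⟨m', by rw [hm]; ring⟩
  · obtain ⟨s, hs, hsd⟩ := Nat.exists_prime_and_dvd (n := n) (by omega)
    exact ⟨s, hs, by rintro rfl; exact h2 hsd, hsd⟩

/-- a prime modulo which `q` has order `m > 1` is `1` modulo `m` -/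
theorem mod_of_od {r q m : ℕ} (hr : r.Prime) (h : od q r = m) (hm : 0 < m) : m ∣ r - 1 := by
  have : Fact r.Prime := ⟨hr⟩
  rw [← h]
  have h0 : ((q : ℕ) : ZMod r) ≠ 0 := by
    intro h0
    have h1 : orderOf ((q : ℕ) : ZMod r) = 0 := by
      rw [h0]
      exact orderOf_zero _
    rw [od] at h
    omega
  exact ZMod.orderOf_dvd_card_sub_one h0

theorem not_dvd_of_od {r q m d : ℕ} (hr : r.Prime) (h : od q r = m) (hd : 0 < d) (hm : d < m) : ¬ r ∣ d := by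
  intro h1
  have h2 := mod_of_od hr h (by omega)
  have h3 := hr.two_le
  have h4 := Nat.le_of_dvd (by omega) h2
  have h5 := Nat.le_of_dvd hd h1
  omega

section

variable {D : ChevalleyDatum} {l : ℕ} {M : CoxeterMatrix (Fin l)} (hp : IsType D l M)
  {W : Type*} [Group W] [Finite W] (cs : CoxeterSystem M W)

include hp cs in
/-- an element of order divisible by `m'` commuting with an element of order `r`; `t ∣ m'` prime to the kernel -/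
theorem near_torus {d : ℕ} {B : Fin l → Fin l → ℤ} (hB : InvC D l d B) (hd0 : d ≠ 0) {A : Mat l}
    (hA : ∀ i j, A i j = cartanOf D l i j) {L : List (Fin l × Mat l)} (hL : ChainOK A L)
    {f : ℕ} {c : Fin (f + 1) → ℤ} {V : Fin (f + 1) → Fin l → ℤ} {U : Fin l → ℤ} (h : EigOK (hd L) c V U)
    {f' : ℕ} {c' : Fin (f' + 1) → ℤ} {V' : Fin (f' + 1) → Fin l → ℤ} {U' : Fin l → ℤ} (h' : EigOK (hd L) c' V' U')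
    {F : Type u} [Field F] [Finite F] {r s : ℕ} (hr : r.Prime) (hs : s.Prime)
    (hrd : r.Coprime (Nat.gcd d (Nat.card F - 1))) (hsd : s.Coprime (Nat.gcd d (Nat.card F - 1)))
    (hdv : (r : ℤ) ∣ pv c (Nat.card F : ℕ)) (hdv' : (s : ℤ) ∣ pv c' (Nat.card F : ℕ))
    (hs2 : s = 2 ∨ H94.PG.Adj ↥(D.group F) s 2) : Near ↥(D.group F) r := by
  obtain ⟨x, y, hxy, hx, hy⟩ := exists_comm_torus hp cs hB hd0 hA hL h h' (F := F) hr.pos hs.pos hdv hdv'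
  have hx' : r ∣ orderOf x := hrd.dvd_of_dvd_mul_right hx
  have hy' : s ∣ orderOf y := hsd.dvd_of_dvd_mul_right hy
  rcases hs2 with rfl | ⟨-, -, -, y', t, hy1, ht1, hyt⟩
  · exact H564.NearTwo.near_of_commute hr hxy hx' hy'
  · exact H564.NearTwo.near_of_dvd hr hs hxy hyt hx' hy' (by rw [hy1]) (by rw [ht1])

include hp cs in
/-- the same with `4 ∣ f'(q)` and `d = 2` -/
theorem near_four {B : Fin l → Fin l → ℤ} (hB : InvC D l 2 B) {A : Mat l}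
    (hA : ∀ i j, A i j = cartanOf D l i j) {L : List (Fin l × Mat l)} (hL : ChainOK A L)
    {f : ℕ} {c : Fin (f + 1) → ℤ} {V : Fin (f + 1) → Fin l → ℤ} {U : Fin l → ℤ} (h : EigOK (hd L) c V U)
    {f' : ℕ} {c' : Fin (f' + 1) → ℤ} {V' : Fin (f' + 1) → Fin l → ℤ} {U' : Fin l → ℤ} (h' : EigOK (hd L) c' V' U')
    {F : Type u} [Field F] [Finite F] {r : ℕ} (hr : r.Prime) (hr2 : r ≠ 2)
    (hdv : (r : ℤ) ∣ pv c (Nat.card F : ℕ)) (hdv' : ((4 : ℕ) : ℤ) ∣ pv c' (Nat.card F : ℕ)) :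
    H94.PG.Adj ↥(D.group F) r 2 := by
  obtain ⟨x, y, hxy, hx, hy⟩ := exists_comm_torus hp cs hB two_ne_zero hA hL h h' (F := F) hr.pos (by norm_num) hdv
    hdv'
  have hg : Nat.gcd 2 (Nat.card F - 1) ∣ 2 := Nat.gcd_dvd_left _ _
  have hx' : r ∣ orderOf x := by
    refine Nat.Coprime.dvd_of_dvd_mul_right ?_ hx
    exact coprime_gcd hr fun h1 => hr2 ((Nat.prime_dvd_prime_iff_eq hr Nat.prime_two).1 h1)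
  have hy' : 2 ∣ orderOf y := by
    have h1 : 2 * 2 ∣ orderOf y * 2 := hy.trans (Nat.mul_dvd_mul_left _ hg)
    exact Nat.dvd_of_mul_dvd_mul_right (by norm_num) h1
  exact H94.PG.adj_of_dvd hr Nat.prime_two hr2 hxy hx' hy' (orderOf_pos _).ne' (orderOf_pos _).ne'

end

/-! ### E6 -/

theorem pv_nat {P : ℕ} {a : ℤ} (h : a = (P : ℤ)) {s : ℕ} (hs : s ∣ P) : (s : ℤ) ∣ a := by
  rw [h]
  exact Int.natCast_dvd_natCast.2 hs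

/-- **E6(q)** -/
theorem near_E6 (F : Type u) [Field F] [Finite F] {r : ℕ} (hr : r.Prime) (hd : r ∣ Nat.card ↥(chevE6.group F)) :
    Near ↥(chevE6.group F) r ∨ od (Nat.card F) r = 9 := by
  let cs : CoxeterSystem CoxeterMatrix.E₆ CoxeterMatrix.E₆.Group := CoxeterMatrix.E₆.toCoxeterSystem
  have := finite_W e6T cs
  have hq : 2 ≤ Nat.card F := Finite.one_lt_card
  rcases adj_E6 F hr hd with h | h | h | h | h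
  · exact Or.inl (Or.inl h)
  · exact Or.inl (Or.inr (Or.inl h))
  · -- order 8
    left
    have hr3 : ¬ r ∣ 3 := not_dvd_of_od hr h (by norm_num) (by norm_num)
    obtain ⟨s, hs, hsd, hc, hs2⟩ : ∃ s : ℕ, s.Prime ∧ s ∣ Nat.card F + 1 ∧
        s.Coprime (Nat.gcd 3 (Nat.card F - 1)) ∧ (s = 2 ∨ H94.PG.Adj ↥(chevE6.group F) s 2) := by
      by_cases h2 : 2 ∣ Nat.card F + 1
      · exact ⟨2, Nat.prime_two, h2, coprime_gcd Nat.prime_two (by norm_num), Or.inl rfl⟩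
      · obtain ⟨s, hs, hsd⟩ := Nat.exists_prime_and_dvd (n := Nat.card F + 1) (by omega)
        have hs2 : s ≠ 2 := by rintro rfl; exact h2 hsd
        have hs1 := not_dvd_sub_of_two hq hs hs2 hsd
        refine ⟨s, hs, hsd, coprime_gcd' hs hs1, Or.inr ?_⟩
        exact adj_row e6T cs inv_E6 three_ne_zero AdjE6.hA AdjE6.lt_nroots AdjE6.row2 hs hs2 hs1
          (pv_nat (by rw [pv2]; push_cast; rfl) hsd)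
    exact near_torus e6T cs inv_E6 three_ne_zero AdjE6.hA AdjE6.chain8 AdjE6.tor8_8 AdjE6.tor8_2 hr hs
      (coprime_gcd hr hr3) hc (dvd8 hr h) (pv_nat (by rw [pv2]; push_cast; rfl) hsd) hs2
  · exact Or.inr h
  · -- order 12
    left
    have hr3 : ¬ r ∣ 3 := not_dvd_of_od hr h (by norm_num) (by norm_num)
    obtain ⟨s, hs, hs3, hs2, hsd⟩ := exists_three hq
    have hs1 := not_dvd_sub_of_three hq hs hs3 hsd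
    have hpv : (s : ℤ) ∣ pv c3 (Nat.card F : ℕ) := pv_nat (by rw [pv3]; push_cast; rfl) hsd
    exact near_torus e6T cs inv_E6 three_ne_zero AdjE6.hA AdjE6.chain12 AdjE6.tor12_12 AdjE6.tor12_3 hr hs
      (coprime_gcd hr hr3) (coprime_gcd' hs hs1) (dvd12 hr h) hpv
      (Or.inr (adj_row e6T cs inv_E6 three_ne_zero AdjE6.hA AdjE6.lt_nroots AdjE6.row3 hs hs2 hs1 hpv))

/-! ### E7 -/

section E7

variable (F : Type u) [Field F] [Finite F]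

/-- torus with the factor `q - 1` -/
theorem near_E7_one {W : Type*} [Group W] [Finite W] (cs : CoxeterSystem CoxeterMatrix.E₇ W) (hq : 4 ≤ Nat.card F)
    {L : List (Fin 7 × Mat 7)} (hL : ChainOK AdjE7.Am L)
    {f : ℕ} {c : Fin (f + 1) → ℤ} {V : Fin (f + 1) → Fin 7 → ℤ} {U : Fin 7 → ℤ} (h : EigOK (hd L) c V U)
    {V' : Fin (0 + 1) → Fin 7 → ℤ} {U' : Fin 7 → ℤ} (h' : EigOK (hd L) c1 V' U')
    {r : ℕ} (hr : r.Prime) (hr2 : r ≠ 2) (hdv : (r : ℤ) ∣ pv c (Nat.card F : ℕ)) : Near ↥(chevE7.group F) r := by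
  have e1 : pv c1 (Nat.card F : ℕ) = ((Nat.card F - 1 : ℕ) : ℤ) := by
    rw [pv1, Nat.cast_sub (by omega)]; push_cast; ring
  rcases four_or (n := Nat.card F - 1) (by omega) with h4 | ⟨s, hs, hs2, hsd⟩
  · exact H564.NearTwo.Near.of_adj (near_four e7T cs inv_E7 AdjE7.hA hL h h' hr hr2 hdv (pv_nat e1 h4))
  · exact near_torus e7T cs inv_E7 two_ne_zero AdjE7.hA hL h h' hr hs
      (coprime_gcd hr fun h1 => hr2 ((Nat.prime_dvd_prime_iff_eq hr Nat.prime_two).1 h1))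
      (coprime_gcd hs fun h1 => hs2 ((Nat.prime_dvd_prime_iff_eq hs Nat.prime_two).1 h1)) hdv (pv_nat e1 hsd)
      (Or.inr (adj_small e7T AdjE7.orth hs hs2 (Or.inr hsd)))

/-- torus with the factor `q + 1` -/
theorem near_E7_two {W : Type*} [Group W] [Finite W] (cs : CoxeterSystem CoxeterMatrix.E₇ W)
    {L : List (Fin 7 × Mat 7)} (hL : ChainOK AdjE7.Am L)
    {f : ℕ} {c : Fin (f + 1) → ℤ} {V : Fin (f + 1) → Fin 7 → ℤ} {U : Fin 7 → ℤ} (h : EigOK (hd L) c V U)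
    {V' : Fin (0 + 1) → Fin 7 → ℤ} {U' : Fin 7 → ℤ} (h' : EigOK (hd L) c2 V' U')
    {r : ℕ} (hr : r.Prime) (hr2 : r ≠ 2) (hdv : (r : ℤ) ∣ pv c (Nat.card F : ℕ)) : Near ↥(chevE7.group F) r := by
  have hq : 2 ≤ Nat.card F := Finite.one_lt_card
  have e1 : pv c2 (Nat.card F : ℕ) = ((Nat.card F + 1 : ℕ) : ℤ) := by
    rw [pv2]; push_cast; ring
  rcases four_or (n := Nat.card F + 1) (by omega) with h4 | ⟨s, hs, hs2, hsd⟩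
  · exact H564.NearTwo.Near.of_adj (near_four e7T cs inv_E7 AdjE7.hA hL h h' hr hr2 hdv (pv_nat e1 h4))
  · exact near_torus e7T cs inv_E7 two_ne_zero AdjE7.hA hL h h' hr hs
      (coprime_gcd hr fun h1 => hr2 ((Nat.prime_dvd_prime_iff_eq hr Nat.prime_two).1 h1))
      (coprime_gcd hs fun h1 => hs2 ((Nat.prime_dvd_prime_iff_eq hs Nat.prime_two).1 h1)) hdv (pv_nat e1 hsd)
      (Or.inr (adj_row e7T cs inv_E7 two_ne_zero AdjE7.hA AdjE7.lt_nroots AdjE7.row2 hs hs2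
        (not_dvd_sub_of_two hq hs hs2 hsd) (pv_nat e1 hsd)))

/-- **E7(q)** -/
theorem near_E7 {r : ℕ} (hr : r.Prime) (hd : r ∣ Nat.card ↥(chevE7.group F)) :
    Near ↥(chevE7.group F) r ∨ (Nat.card F ≤ 3 ∧ (od (Nat.card F) r = 7 ∨ od (Nat.card F) r = 9)) := by
  let cs : CoxeterSystem CoxeterMatrix.E₇ CoxeterMatrix.E₇.Group := CoxeterMatrix.E₇.toCoxeterSystem
  have := finite_W e7T cs
  have hq : 2 ≤ Nat.card F := Finite.one_lt_card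
  have hr2 : ∀ {m : ℕ}, 2 < m → od (Nat.card F) r = m → r ≠ 2 := by
    rintro m hm h rfl
    exact not_dvd_of_od hr h (by norm_num) hm dvd_rfl
  rcases adj_E7 F hr hd with h | h | h | h | h | h | h
  · exact Or.inl (Or.inl h)
  · exact Or.inl (Or.inr (Or.inl h))
  · rcases Nat.lt_or_ge (Nat.card F) 4 with h4 | h4
    · exact Or.inr ⟨by omega, Or.inl h⟩
    · exact Or.inl (near_E7_one F cs h4 AdjE7.chain7 AdjE7.tor7_7 AdjE7.tor7_1 hr (hr2 (by norm_num) h) (dvd7 hr h))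
  · rcases Nat.lt_or_ge (Nat.card F) 4 with h4 | h4
    · exact Or.inr ⟨by omega, Or.inr h⟩
    · exact Or.inl (near_E7_one F cs h4 AdjE7.chain9 AdjE7.tor9_9 AdjE7.tor9_1 hr (hr2 (by norm_num) h) (dvd9 hr h))
  · -- order 12
    left
    have hr2 : ¬ r ∣ 2 := not_dvd_of_od hr h (by norm_num) (by norm_num)
    obtain ⟨s, hs, hs3, hs2, hsd⟩ := exists_three hq
    have hs1 := not_dvd_sub_of_three hq hs hs3 hsd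
    have hpv : (s : ℤ) ∣ pv c3 (Nat.card F : ℕ) := pv_nat (by rw [pv3]; push_cast; rfl) hsd
    exact near_torus e7T cs inv_E7 two_ne_zero AdjE7.hA AdjE7.chain12 AdjE7.tor12_12 AdjE7.tor12_3 hr hs
      (coprime_gcd hr hr2) (coprime_gcd' hs hs1) (dvd12 hr h) hpv
      (Or.inr (adj_row e7T cs inv_E7 two_ne_zero AdjE7.hA AdjE7.lt_nroots AdjE7.row3 hs hs2 hs1 hpv))
  · exact Or.inl (near_E7_two F cs AdjE7.chain14 AdjE7.tor14_14 AdjE7.tor14_2 hr (hr2 (by norm_num) h) (dvd14 hr h))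
  · exact Or.inl (near_E7_two F cs AdjE7.chain18 AdjE7.tor18_18 AdjE7.tor18_2 hr (hr2 (by norm_num) h) (dvd18 hr h))

end E7

/-! ### the others -/

theorem near_G2 (F : Type u) [Field F] [Finite F] {r : ℕ} (hr : r.Prime) (hd : r ∣ Nat.card ↥(chevG2.group F)) :
    Near ↥(chevG2.group F) r ∨ od (Nat.card F) r = 3 ∨ od (Nat.card F) r = 6 := by
  rcases adj_G2 F hr hd with h | h | h
  · exact Or.inl (Or.inl h)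
  · exact Or.inl (Or.inr (Or.inl h))
  · exact Or.inr h

theorem near_F4 (F : Type u) [Field F] [Finite F] {r : ℕ} (hr : r.Prime) (hd : r ∣ Nat.card ↥(chevF4.group F)) :
    Near ↥(chevF4.group F) r ∨ od (Nat.card F) r = 8 ∨ od (Nat.card F) r = 12 := by
  rcases adj_F4 F hr hd with h | h | h
  · exact Or.inl (Or.inl h)
  · exact Or.inl (Or.inr (Or.inl h))
  · exact Or.inr h

theorem near_E8 (F : Type u) [Field F] [Finite F] {r : ℕ} (hr : r.Prime) (hd : r ∣ Nat.card ↥(chevE8.group F)) :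
    Near ↥(chevE8.group F) r ∨ od (Nat.card F) r = 15 ∨ od (Nat.card F) r = 20 ∨ od (Nat.card F) r = 24 ∨
      od (Nat.card F) r = 30 := by
  rcases adj_E8 F hr hd with h | h | h
  · exact Or.inl (Or.inl h)
  · exact Or.inl (Or.inr (Or.inl h))
  · exact Or.inr h

end Cfsg.Agent.H378.ExcNear
end

-- part: H378/LatCodim
section
prune_inst 0x90104300748000000018000022001c42ba000002004b000010000400048f1c00a04106214a0018121014044418300000000000200010000000000400011c01a00881200010000100200000000000100000000000000000000000000000041000000000000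
set_option linter.all false
open scoped Cfsg.Agent.FastGrp

/-!
# Cyclotomic subspaces (helper378)

* `indep'` : `Φ_m(w) v = 0`, `v ≠ 0`: the `w^i v`, `i < φ(m)`, are independent; `totient_le`;
* `prime_le` : an element of prime order `ℓ` of `GL_l(ℤ)` has `ℓ ≤ l + 1`; `not_dvd_card` : `ℓ ∤ |W|` if `l + 1 < ℓ`;
* `exists_ker` : an eigencharacter of order `ℓ ∣ Φ_m(q)` is nontrivial on the kernel of `Φ_m(w)`;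
* `eq_zero_of_two` : `l < 2 φ(m)`: an endomorphism killing the `w^i d` kills the kernel of `Φ_m(w)`;
* `eigen_of_codim` : `φ(m) + 1 = l`, `Q(w) a = 0`: `w a = ± a`.
-/

set_option autoImplicit false
set_option linter.unusedSectionVars false

namespace Cfsg.Agent.H378.LatCodim

open Polynomial Cfsg.Agent.H378.TorDual Cfsg.Agent.H378.LatCyc

universe u

variable {l : ℕ}

section Q

variable {T : Module.End ℚ (Fin l → ℚ)} {m : ℕ}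

/-- a nonzero polynomial of degree `< φ(m)` is coprime to `Φ_m` -/
theorem coprime_of_degree (hm : 0 < m) {P : ℚ[X]} (hP : P ≠ 0) (hd : P.degree < m.totient) :
    IsCoprime (cyclotomic m ℚ) P := by
  rcases (cyclotomic.irreducible_rat hm).isCoprime_or_dvd P with h1 | h1
  · exact h1
  · have h2 := degree_le_of_dvd h1 hP
    rw [degree_cyclotomic] at h2
    exact absurd hd (not_lt.2 h2)

theorem eq_zero_of_coprime {P R : ℚ[X]} (h : IsCoprime P R) {v : Fin l → ℚ} (h1 : aeval T P v = 0)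
    (h2 : aeval T R v = 0) : v = 0 := by
  obtain ⟨a, b, hab⟩ := h
  have h3 : aeval T (a * P + b * R) v = v := by rw [hab, map_one, Module.End.one_apply]
  rw [← h3, map_add, map_mul, map_mul, LinearMap.add_apply, Module.End.mul_apply, Module.End.mul_apply, h1, h2,
    map_zero, map_zero, add_zero]

/-- the polynomial of a family of coefficients -/
noncomputable def pol {n : ℕ} (c : Fin n → ℚ) : ℚ[X] := ∑ i : Fin n, C (c i) * X ^ (i : ℕ)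

theorem pol_degree {n : ℕ} (c : Fin n → ℚ) : (pol c).degree < n := degree_sum_fin_lt c

theorem pol_coeff {n : ℕ} (c : Fin n → ℚ) (i : Fin n) : (pol c).coeff i = c i := by
  rw [pol, finsetSum_coeff, Finset.sum_eq_single i]
  · rw [coeff_C_mul, coeff_X_pow, if_pos rfl, mul_one]
  · intro j _ hj
    rw [coeff_C_mul, coeff_X_pow, if_neg (fun h0 => hj (Fin.ext h0.symm)), mul_zero]
  · intro hi
    exact absurd (Finset.mem_univ i) hi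

theorem eq_zero_of_pol {n : ℕ} {c : Fin n → ℚ} (h : pol c = 0) : c = 0 := by
  funext i
  rw [← pol_coeff c i, h, coeff_zero]
  rfl

theorem aeval_pol {n : ℕ} (c : Fin n → ℚ) (v : Fin l → ℚ) :
    aeval T (pol c) v = ∑ i : Fin n, c i • (T ^ (i : ℕ)) v := by
  rw [pol, map_sum, LinearMap.sum_apply]
  refine Finset.sum_congr rfl fun i _ => ?_
  rw [map_mul, aeval_C, map_pow, aeval_X, Module.End.mul_apply, Module.algebraMap_end_apply]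

theorem indepQ (hm : 0 < m) {v : Fin l → ℚ} (hv : v ≠ 0) (h : aeval T (cyclotomic m ℚ) v = 0) :
    LinearIndependent ℚ fun i : Fin m.totient => (T ^ (i : ℕ)) v := by
  rw [Fintype.linearIndependent_iff]
  intro c hc
  rw [← aeval_pol] at hc
  by_cases hP : pol c = 0
  · exact fun i => congrFun (eq_zero_of_pol hP) i
  · exact absurd (eq_zero_of_coprime (coprime_of_degree hm hP (pol_degree c)) h hc) hv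

/-- two vectors of the kernel of `Φ_m(T)`, `l < 2 φ(m)` -/
theorem exists_two (hm : 0 < m) (hl : l < 2 * m.totient) {x y : Fin l → ℚ} (hx : x ≠ 0)
    (hx' : aeval T (cyclotomic m ℚ) x = 0) (hy' : aeval T (cyclotomic m ℚ) y = 0) :
    ∃ P : ℚ[X], y = aeval T P x := by
  have hdep : ¬ LinearIndependent ℚ (fun i : Fin m.totient ⊕ Fin m.totient =>
      Sum.elim (fun i : Fin m.totient => (T ^ (i : ℕ)) x) (fun i : Fin m.totient => (T ^ (i : ℕ)) y) i) := by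
    intro h1
    have h2 := h1.fintype_card_le_finrank
    rw [Fintype.card_sum, Fintype.card_fin, Module.finrank_fin_fun] at h2
    omega
  rw [Fintype.linearIndependent_iff] at hdep
  push Not at hdep
  obtain ⟨c, hc, i, hi⟩ := hdep
  rw [Fintype.sum_sum_type] at hc
  simp only [Sum.elim_inl, Sum.elim_inr] at hc
  have hc' : aeval T (pol fun i => c (Sum.inl i)) x + aeval T (pol fun i => c (Sum.inr i)) y = 0 := by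
    rw [aeval_pol, aeval_pol]
    exact hc
  by_cases hR : pol (fun i => c (Sum.inr i)) = 0
  · exfalso
    rw [hR, map_zero, LinearMap.zero_apply, add_zero] at hc'
    by_cases hP : pol (fun i => c (Sum.inl i)) = 0
    · rcases i with i | i
      · exact hi (congrFun (eq_zero_of_pol hP) i)
      · exact hi (congrFun (eq_zero_of_pol hR) i)
    · exact hx (eq_zero_of_coprime (coprime_of_degree hm hP (pol_degree _)) hx' hc')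
  · obtain ⟨a, b, hab⟩ := coprime_of_degree hm hR (pol_degree _)
    refine ⟨-(b * pol fun i => c (Sum.inl i)), ?_⟩
    have h3 : aeval T (a * cyclotomic m ℚ + b * pol fun i => c (Sum.inr i)) y = y := by
      rw [hab, map_one, Module.End.one_apply]
    rw [map_add, map_mul, map_mul, LinearMap.add_apply, Module.End.mul_apply, Module.End.mul_apply, hy',
      map_zero, zero_add] at h3
    rw [map_neg, map_mul, LinearMap.neg_apply, Module.End.mul_apply, ← map_neg, ← eq_neg_of_add_eq_zero_right hc']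
    exact h3.symm

end Q

theorem vq_zero : vq (0 : Fin l → ℤ) = 0 := vq_eq_zero.2 rfl

theorem aeval_vq {w : Module.End ℤ (Fin l → ℤ)} {m : ℕ} {v : Fin l → ℤ} (h : aeval w (cyclotomic m ℤ) v = 0) :
    aeval (toQ w) (cyclotomic m ℚ) (vq v) = 0 := by
  rw [← map_cyclotomic_int m ℚ, ← toQ_aeval, toQ_vq, h]
  exact vq_zero

theorem totient_le {m : ℕ} (hm : 0 < m) {w : Module.End ℤ (Fin l → ℤ)} {v : Fin l → ℤ} (hv : v ≠ 0)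
    (h : aeval w (cyclotomic m ℤ) v = 0) : m.totient ≤ l := by
  have h1 := (indepQ hm (T := toQ w) (fun h0 => hv (vq_eq_zero.1 h0)) (aeval_vq h)).fintype_card_le_finrank
  rwa [Fintype.card_fin, Module.finrank_fin_fun] at h1

/-- **Elements of prime order of `GL_l(ℤ)`.** -/
theorem prime_le {ℓ : ℕ} (hℓ : ℓ.Prime) {w : Module.End ℤ (Fin l → ℤ)} (hw : w ^ ℓ = 1) (hw1 : w ≠ 1) : ℓ ≤ l + 1 := by
  obtain ⟨x, hx⟩ : ∃ x, (w - 1) x ≠ 0 := by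
    by_contra hcon
    push Not at hcon
    apply hw1
    refine LinearMap.ext fun x => ?_
    have := hcon x
    rwa [LinearMap.sub_apply, sub_eq_zero] at this
  have h1 : aeval w (cyclotomic ℓ ℤ) ((w - 1) x) = 0 := by
    have h2 : cyclotomic ℓ ℤ * (X - 1) = X ^ ℓ - 1 := by
      have : Fact ℓ.Prime := ⟨hℓ⟩
      exact cyclotomic_prime_mul_X_sub_one ℤ ℓ
    have h3 := congrArg (fun P => aeval w P x) h2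
    simp only [map_mul, map_sub, map_pow, aeval_X, map_one, hw, sub_self, LinearMap.zero_apply,
      Module.End.mul_apply] at h3
    exact h3
  have h2 := totient_le hℓ.pos hx h1
  rw [Nat.totient_prime hℓ] at h2
  omega

variable {k : Type u} [Field k]

/-- **An eigencharacter is nontrivial on the kernel of `Φ_m(w)`.** -/
theorem exists_ker {m N : ℕ} (hm : 0 < m) {w : Module.End ℤ (Fin l → ℤ)} (hN : 0 < N) (hw : w ^ N = 1) {ℓ : ℕ}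
    (hℓ : ℓ.Prime) (hℓN : ¬ ℓ ∣ N) (hℓm : ¬ ℓ ∣ m) {q : ℤ} (hq : (ℓ : ℤ) ∣ (cyclotomic m ℤ).eval q) {χ : Ch l k}
    (hχ : χ ∈ KerOf k (w - q • (1 : Module.End ℤ (Fin l → ℤ)))) (hχ1 : χ ≠ 1) (hχℓ : χ ^ ℓ = 1) :
    ∃ Q : ℤ[X], X ^ (N * m) - 1 = cyclotomic m ℤ * Q ∧ ∃ x : Fin l → ℤ, aeval w (cyclotomic m ℤ) (aeval w Q x) = 0 ∧
      χ (Multiplicative.ofAdd (aeval w Q x)) ≠ 1 := by
  obtain ⟨R, hR⟩ := cyclotomic.dvd_X_pow_sub_one m ℤ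
  obtain ⟨S, hS⟩ : (X ^ m - 1 : ℤ[X]) ∣ X ^ (N * m) - 1 := by
    have := sub_dvd_pow_sub_pow (X ^ m : ℤ[X]) 1 N
    rwa [one_pow, ← pow_mul, mul_comm m N] at this
  obtain ⟨Q, hQ⟩ : ∃ Q : ℤ[X], X ^ (N * m) - 1 = cyclotomic m ℤ * Q := ⟨R * S, by rw [hS, hR, mul_assoc]⟩
  have hNm : ¬ ℓ ∣ N * m := fun h => (hℓ.dvd_mul.1 h).elim hℓN hℓm
  refine ⟨Q, hQ, ?_⟩
  have hzero : ∀ x, aeval w (cyclotomic m ℤ) (aeval w Q x) = 0 := by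
    intro x
    rw [← Module.End.mul_apply, ← map_mul, ← hQ, map_sub, map_pow, aeval_X, map_one, pow_mul, hw, one_pow, sub_self,
      LinearMap.zero_apply]
  obtain ⟨x, hx⟩ : ∃ x : Fin l → ℤ, χ (Multiplicative.ofAdd x) ≠ 1 := by
    by_contra hcon
    push Not at hcon
    exact hχ1 (MonoidHom.ext fun x => hcon (Multiplicative.toAdd x))
  refine ⟨x, hzero x, ?_⟩
  intro hcase
  have hord : orderOf (χ (Multiplicative.ofAdd x)) = ℓ := by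
    have h1 : χ (Multiplicative.ofAdd x) ^ ℓ = 1 := by
      rw [← MonoidHom.pow_apply, hχℓ, MonoidHom.one_apply]
    exact ((Nat.dvd_prime hℓ).1 (orderOf_dvd_of_pow_eq_one h1)).resolve_left fun h2 => hx (orderOf_eq_one_iff.1 h2)
  have hQq : (ℓ : ℤ) ∣ Q.eval q := by
    have h1 := kerOf_aeval hχ Q x
    rw [hcase] at h1
    rw [← hord]
    exact orderOf_dvd_iff_zpow_eq_one.2 h1.symm
  have hd := congrArg (fun P : ℤ[X] => (derivative P).eval q) hQ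
  simp only [derivative_sub, derivative_X_pow, derivative_one, sub_zero, derivative_mul, eval_add, eval_mul,
    eval_pow, eval_X, eval_C] at hd
  have h1 : (ℓ : ℤ) ∣ ((N * m : ℕ) : ℤ) * q ^ (N * m - 1) := by
    have h3 : ((N * m : ℕ) : ℤ) * q ^ (N * m - 1) = eval q (derivative (cyclotomic m ℤ)) * eval q Q +
        eval q (cyclotomic m ℤ) * eval q (derivative Q) := hd
    rw [h3]
    exact dvd_add (Dvd.dvd.mul_left hQq _) (Dvd.dvd.mul_right hq _)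
  have hℓ' : Prime (ℓ : ℤ) := Nat.prime_iff_prime_int.1 hℓ
  rcases hℓ'.dvd_mul.1 h1 with h2 | h2
  · exact hNm (by exact_mod_cast h2)
  · have h3 : (ℓ : ℤ) ∣ q := hℓ'.dvd_of_dvd_pow h2
    have h4 : (X ^ (N * m) - 1 : ℤ[X]).eval q = q ^ (N * m) - 1 := by simp
    have h5 : (ℓ : ℤ) ∣ q ^ (N * m) - 1 := by
      rw [← h4, hQ, eval_mul]
      exact Dvd.dvd.mul_right hq _
    have h6 : (ℓ : ℤ) ∣ q ^ (N * m) := dvd_pow h3 (Nat.mul_pos hN hm).ne'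
    have h7 : (ℓ : ℤ) ∣ 1 := by
      have := dvd_sub h6 h5
      rwa [sub_sub_cancel] at this
    exact hℓ'.not_isUnit (isUnit_of_dvd_one h7)

/-- **An endomorphism killing the `w^i d` kills the kernel of `Φ_m(w)`** if `l < 2 φ(m)`. -/
theorem eq_zero_of_two {m : ℕ} (hm : 0 < m) (hl : l < 2 * m.totient) {w : Module.End ℤ (Fin l → ℤ)}
    {d y : Fin l → ℤ} (hd : d ≠ 0) (hd' : aeval w (cyclotomic m ℤ) d = 0) (hy' : aeval w (cyclotomic m ℤ) y = 0)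
    {e : Module.End ℤ (Fin l → ℤ)} (he : ∀ i : ℕ, e ((w ^ i) d) = 0) : e y = 0 := by
  obtain ⟨P, hP⟩ := exists_two (T := toQ w) hm hl (fun h0 => hd (vq_eq_zero.1 h0)) (aeval_vq hd') (aeval_vq hy')
  apply vq_injective
  rw [← toQ_vq, hP, vq_zero]
  have h1 : ∀ P : ℚ[X], toQ e (aeval (toQ w) P (vq d)) = 0 := by
    intro P
    induction P using Polynomial.induction_on' with
    | add p q hp hq => rw [map_add, LinearMap.add_apply, map_add, hp, hq, add_zero]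
    | monomial n a =>
      rw [aeval_monomial, Module.End.mul_apply, Module.algebraMap_end_apply, map_smul, ← map_pow, toQ_vq, toQ_vq, he,
        vq_zero, smul_zero]
  exact h1 P

section W

open CoxeterSystem Cfsg.Agent.ChevalleyStructure.CoxeterGeom

/-- **Prime divisors of the order of a Weyl group.** -/
theorem le_of_dvd_card {W : Type*} [Group W] [Finite W] {M : CoxeterMatrix (Fin l)} (cs : CoxeterSystem M W)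
    {A : Fin l → Fin l → ℤ} (h : IsCartan M A) {ℓ : ℕ} (hℓ : ℓ.Prime) (hd : ℓ ∣ Nat.card W) : ℓ ≤ l + 1 := by
  have : Fact ℓ.Prime := ⟨hℓ⟩
  obtain ⟨w, hw⟩ := exists_prime_orderOf_dvd_card' ℓ hd
  refine prime_le hℓ (w := rep cs h w) (by rw [← map_pow, ← hw, pow_orderOf_eq_one, map_one]) fun h1 => ?_
  have h2 := rep_injective cs h (h1.trans (map_one _).symm)
  rw [h2, orderOf_one] at hw
  exact hℓ.one_lt.ne hw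

end W

end Cfsg.Agent.H378.LatCodim

private theorem dce_f31ac29bca82 : _root_.True := by
  try have : _root_.True := by simp only [_root_.Cfsg.Agent.H378.LatCodim.pol.eq_1]
  exact _root_.True.intro
end

-- part: H378/RegFin
section
prune_inst 0x400100000008000000000000202201c42ce0000b0002b00015140004004863d230080272048a018008300022500318040000001390030000000000600011c01a008ab0422f1c13008800000000000610000000000000000000000000000041000000000000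
set_option linter.all false
open scoped Cfsg.Agent.FastGrp

/-!
# Centralisers of regular semisimple elements of prime order in `D.group F` (helper378)

* `centralizer_of_reg` : if the characters of order `ℓ` with `χ (w x) = χ x ^ q` are nontrivial on all roots then the
  centraliser of `x ∈ Y^σ` of order `ℓ` is `z TwT z⁻¹`;
* `cent_reg` : over a finite field, any `d`: the centraliser of `x` embeds in `ℤ^l/(w-q)`;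
* `cent_cyc` : `ℓ ∤ |W|`, `ℓ ∣ Φ_m(q)`, `φ(m) = l`: then `|C(x)|` divides `Φ_m(q)` and `C(x)` is abelian;
* `ac1_G2`, `ac1_F4`, `ac1_E8` : `AC1`; `ac1'_E6` : `AC1'`.
-/

set_option autoImplicit false
set_option linter.unusedSectionVars false

namespace Cfsg.Agent.H378.RegFin

open CoxeterSystem Subgroup Cfsg Cfsg.Lie Cfsg.Lie.ChevalleyDatum
open Cfsg.Agent.ChevalleyStructure Cfsg.Agent.ChevalleyStructure.Elts Cfsg.Agent.ChevalleyStructure.CoxeterGeom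
  Cfsg.Agent.ChevalleyStructure.CoxeterGeomTypes Cfsg.Agent.ChevalleyStructure.NPerm
open Cfsg.Agent.Tits.Roots Cfsg.Agent.Tits.Core Cfsg.Agent.Nodes.Reps Cfsg.Agent.Nodes.BNOf
  Cfsg.Agent.Nodes.RGDChev Cfsg.Agent.Nodes.Bruhat
open Cfsg.Agent.KFacts.RgdField Cfsg.Agent.KFacts.RgdChevCoord Cfsg.Agent.BpExc.TorCent Cfsg.Agent.BpExc.TorChev
open Cfsg.Agent.BpExc.Tow Cfsg.Agent.BpExc.TowChev Cfsg.Agent.BpExc.FamExt Cfsg.Agent.BpExc.FamUntw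
  Cfsg.Agent.BpExc.FamInst Cfsg.Agent.BpExc.LangFr Cfsg.Agent.BpExc.FamField Cfsg.Agent.BpExc.RowsUntw
open Cfsg.Agent.GpExc.Field (glMap emb coe_emb glMap_xG emb_injective coe_glMap)
open Cfsg.Agent.H378.TorDual Cfsg.Agent.H378.TorChar Cfsg.Agent.H378.TorFin Cfsg.Agent.H378.LatRoot
  Cfsg.Agent.H378.Regular Cfsg.Agent.H378.ExcAdj Cfsg.Agent.H378.ExcNear

universe u v

variable {D : ChevalleyDatum} {l : ℕ} {M : CoxeterMatrix (Fin l)} (hp : IsType D l M) {k : Type u} [Field k]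
  {W : Type*} [Group W] (cs : CoxeterSystem M W)

/-- a nontrivial character of order `ℓ` with `χ (w x) = χ x ^ q` -/
def IsEig {A : Fin l → Fin l → ℤ} (h : IsCartan M A) (q ℓ : ℕ) (w : W) (χ : Ch l k) : Prop :=
  χ ∈ KerOf k (rep cs h w - (q : ℤ) • (1 : Module.End ℤ (Fin l → ℤ))) ∧ χ ≠ 1 ∧ χ ^ ℓ = 1

section Pair

variable [IsAlgClosed k] (hk : LocFin k) (r : ℕ) [Fact r.Prime] [CharP k r]

/-- **The centraliser of an element of prime order all whose eigencharacters are regular.** -/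
theorem centralizer_of_reg [Finite W] (hka : BpExc.TorAll.HAlg r k) {n : ℕ} {x : ↥(D.group k)}
    (hσ : phi D k r n x = x) {ℓ : ℕ} (hℓ : ℓ.Prime) (hℓr : ℓ ≠ r) (hx : x ^ ℓ = 1) (hx1 : x ≠ 1)
    (hℓW : ¬ ℓ ∣ Nat.card W)
    (hreg : ∀ (w : W) (χ : Ch l k), IsEig cs hp.isCartan (r ^ n) ℓ w χ → ∀ a, IsRoot cs hp.isCartan a →
      χ (Multiplicative.ofAdd a) ≠ 1) :
    ∃ z g : ↥(D.group k), ∃ w : W, Rp cs (nsysL hp cs hk r) w g ∧ z⁻¹ * phi D k r n z = g ∧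
      (∃ χ : Ch l k, IsEig cs hp.isCartan (r ^ n) ℓ w χ) ∧
      ∀ y : ↥(D.group k), (phi D k r n y = y ∧ y * x = x * y) ↔ z⁻¹ * y * z ∈ TwT D k r n g := by
  obtain ⟨z, t, m', g, w, ht, hzx, hz, hm', hg, hgt⟩ := exists_pair hp cs hk r hka hσ hℓ hℓr hx
  have htℓ : t ^ ℓ = 1 := by
    rw [← hzx]
    have : (z⁻¹ * x * z) ^ ℓ = z⁻¹ * x ^ ℓ * z := by
      have h1 := conj_pow (a := z⁻¹) (b := x) (i := ℓ)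
      rwa [inv_inv] at h1
    rw [this, hx]; group
  have ht1 : t ≠ 1 := by
    intro h1
    apply hx1
    have : x = z * t * z⁻¹ := by rw [← hzx]; group
    rw [this, h1]; group
  have hE : IsEig cs hp.isCartan (r ^ n) ℓ w (tchar hp ⟨t, ht⟩) := by
    refine ⟨(mem_TwT_iff hp cs r hk hg ht).1 ⟨ht, hgt⟩, ?_, tchar_pow_eq_one hp ht htℓ⟩
    intro h1
    have h2 := tchar_injective hp (h1.trans (map_one (tchar hp)).symm)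
    exact ht1 (congrArg Subtype.val h2)
  have hroot : ∀ a, IsRoot cs hp.isCartan a → ch hp a t ≠ 1 := by
    intro a ha h1
    refine hreg w _ hE a ha (Units.ext ?_)
    rw [tchar_apply hp cs hk r ⟨t, ht⟩ ha, h1]
    rfl
  rw [MM_eq_bot hp cs hroot, Subgroup.mem_bot] at hm'
  rw [hm', one_mul] at hz
  refine ⟨z, g, w, hg, hz, ⟨_, hE⟩, fun y => ⟨?_, ?_⟩⟩
  · rintro ⟨h1, h2⟩
    have h3 : z⁻¹ * y * z * t = t * (z⁻¹ * y * z) := by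
      rw [← hzx]
      calc z⁻¹ * y * z * (z⁻¹ * x * z) = z⁻¹ * (y * x) * z := by group
        _ = z⁻¹ * (x * y) * z := by rw [h2]
        _ = _ := by group
    refine ⟨mem_TT_of_comm hp cs ht hℓ hℓW htℓ hroot h3 hk r, ?_⟩
    have h4 : phi D k r n z = z * g := by rw [← hz]; group
    rw [map_mul, map_mul, map_inv, h4, h1]
    group
  · intro h1
    have h2 := conj_fix r hz h1
    have h3 : z * (z⁻¹ * y * z) * z⁻¹ = y := by group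
    rw [h3] at h2
    refine ⟨h2, ?_⟩
    have h4 := TT_comm hp _ h1.1 t ht
    have h5 : x = z * t * z⁻¹ := by rw [← hzx]; group
    rw [h5]
    calc y * (z * t * z⁻¹) = z * (z⁻¹ * y * z * t) * z⁻¹ := by group
      _ = z * (t * (z⁻¹ * y * z)) * z⁻¹ := by rw [h4]
      _ = _ := by group

end Pair

/-- **Regular elements of prime order in `D.group F`**: the centraliser embeds in `ℤ^l/(w-q)`. -/
theorem cent_reg [Finite W] {d : ℕ} {B : Fin l → Fin l → ℤ} (hB : InvC D l d B) (hd : d ≠ 0) {F : Type u} [Field F]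
    [Finite F] {x : ↥(D.group F)} {ℓ : ℕ} (hℓ : ℓ.Prime) (hℓF : ¬ ℓ ∣ Nat.card F) (hx : orderOf x = ℓ)
    (hℓW : ¬ ℓ ∣ Nat.card W)
    (hreg : ∀ (k : Type u) [Field k] (w : W) (χ : Ch l k), IsEig cs hp.isCartan (Nat.card F) ℓ w χ →
      ∀ a, IsRoot cs hp.isCartan a → χ (Multiplicative.ofAdd a) ≠ 1) :
    ∃ w : W, (∃ (k : Type u) (_ : Field k) (χ : Ch l k), IsEig cs hp.isCartan (Nat.card F) ℓ w χ) ∧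
      ∃ φ : ↥(Subgroup.centralizer {x}) →* Multiplicative (Co (rep cs hp.isCartan w - ((Nat.card F : ℕ) : ℤ) •
        (1 : Module.End ℤ (Fin l → ℤ)))), Function.Injective φ := by
  obtain ⟨k, _, _, f, r, _, _, n, hk, hka, hn0, hn⟩ := exists_closure F
  have hℓr : ℓ ≠ r := by
    rintro rfl
    apply hℓF
    rw [hn]
    exact dvd_pow_self _ hn0.ne'
  have hxℓ : x ^ ℓ = 1 := by rw [← hx]; exact pow_orderOf_eq_one x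
  have hx1 : x ≠ 1 := by
    rintro rfl
    rw [orderOf_one] at hx
    exact hℓ.one_lt.ne hx
  have hemb := emb_injective hp.inList f
  rw [hn] at hreg ⊢
  obtain ⟨z, g, w, hg, hz, hE, hC⟩ := centralizer_of_reg hp cs hk r hka (n := n)
    (x := emb hp.inList f x) (phi_emb' hp f r hn x) hℓ hℓr (by rw [← map_pow, hxℓ, map_one])
    (fun h => hx1 (hemb (h.trans (map_one _).symm))) hℓW (hreg k)
  have hmem : ∀ y : ↥(Subgroup.centralizer {x}), z⁻¹ * emb hp.inList f y.1 * z ∈ TwT D k r n g := by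
    intro y
    refine (hC _).1 ⟨phi_emb' hp f r hn _, ?_⟩
    have h1 := Subgroup.mem_centralizer_singleton_iff.1 y.2
    rw [← map_mul, ← map_mul, h1]
  let e0 : ↥(Subgroup.centralizer {x}) →* ↥(TwT D k r n g) :=
    { toFun := fun y => ⟨z⁻¹ * emb hp.inList f y.1 * z, hmem y⟩
      map_one' := Subtype.ext (by
        show z⁻¹ * emb hp.inList f 1 * z = 1
        rw [map_one]; group)
      map_mul' := fun a b => Subtype.ext (by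
        show z⁻¹ * emb hp.inList f (a.1 * b.1) * z = z⁻¹ * emb hp.inList f a.1 * z * (z⁻¹ * emb hp.inList f b.1 * z)
        rw [map_mul]; group) }
  have hinj : Function.Injective e0 := by
    intro a b hab
    have h1 : z⁻¹ * emb hp.inList f a.1 * z = z⁻¹ * emb hp.inList f b.1 * z := congrArg Subtype.val hab
    exact Subtype.ext (hemb (mul_left_cancel (mul_right_cancel h1)))
  obtain ⟨e2, -⟩ := twEquiv hp cs r hk hB hd hg (m := n)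
  obtain ⟨e3⟩ := kerOf_equiv k (det_rep_ne_zero cs r hn0 hp.isCartan w)
  obtain ⟨χ, hχ⟩ := hE
  refine ⟨w, ⟨k, inferInstance, χ, hχ⟩, (e2.trans e3).toMonoidHom.comp e0, ?_⟩
  intro a b hab
  exact hinj ((e2.trans e3).injective hab)

/-- the centraliser is abelian -/
theorem comm_of_hom {G A : Type*} [Group G] [CommGroup A] {x : G} {φ : ↥(Subgroup.centralizer {x}) →* A}
    (hφ : Function.Injective φ) (a b : G) (ha : Commute a x) (hb : Commute b x) : Commute a b := by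
  have ha' : a ∈ Subgroup.centralizer {x} := Subgroup.mem_centralizer_singleton_iff.2 ha
  have hb' : b ∈ Subgroup.centralizer {x} := Subgroup.mem_centralizer_singleton_iff.2 hb
  have h1 : (⟨a, ha'⟩ : ↥(Subgroup.centralizer {x})) * ⟨b, hb'⟩ = ⟨b, hb'⟩ * ⟨a, ha'⟩ := by
    apply hφ
    rw [map_mul, map_mul, mul_comm]
  exact congrArg Subtype.val h1

/-- **`ℓ ∣ Φ_m(q)`, `φ(m) = l`.** -/
theorem cent_cyc [Finite W] {d : ℕ} {B : Fin l → Fin l → ℤ} (hB : InvC D l d B) (hd : d ≠ 0) {F : Type u} [Field F]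
    [Finite F] {x : ↥(D.group F)} {ℓ : ℕ} (hℓ : ℓ.Prime) (hℓF : ¬ ℓ ∣ Nat.card F) (hx : orderOf x = ℓ)
    (hℓW : ¬ ℓ ∣ Nat.card W) {m : ℕ} (hm : 0 < m) (hl : m.totient = l) (hℓm : ¬ ℓ ∣ m)
    (hq : (ℓ : ℤ) ∣ (Polynomial.cyclotomic m ℤ).eval ((Nat.card F : ℕ) : ℤ)) :
    ∃ w : W, Polynomial.aeval (rep cs hp.isCartan w) (Polynomial.cyclotomic m ℤ) = 0 ∧
      (∃ φ : ↥(Subgroup.centralizer {x}) →* Multiplicative (Co (rep cs hp.isCartan w - ((Nat.card F : ℕ) : ℤ) •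
        (1 : Module.End ℤ (Fin l → ℤ)))), Function.Injective φ) ∧
      Nat.card ↥(Subgroup.centralizer {x}) ∣ ((Polynomial.cyclotomic m ℤ).eval ((Nat.card F : ℕ) : ℤ)).natAbs := by
  have hcyc : ∀ (k : Type u) [Field k] (w : W) (χ : Ch l k), IsEig cs hp.isCartan (Nat.card F) ℓ w χ →
      Polynomial.aeval (rep cs hp.isCartan w) (Polynomial.cyclotomic m ℤ) = 0 := by
    intro k _ w χ ⟨h1, h2, h3⟩
    exact LatCyc.aeval_eq_zero_of_char hm hl Nat.card_pos (by rw [← map_pow, pow_card_eq_one', map_one]) hℓ hℓW hℓm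
      hq h1 h2 h3
  obtain ⟨w, ⟨k, _, χ, hχ⟩, φ, hφ⟩ := cent_reg hp cs hB hd hℓ hℓF hx hℓW fun k _ w χ hE a ha =>
    ne_one_of_root (cs := cs) (h := hp.isCartan) hm hl (hcyc k w χ hE) hℓ hℓW hE.1 hE.2.1 hE.2.2 ha
  refine ⟨w, hcyc k w χ hχ, ⟨φ, hφ⟩, ?_⟩
  obtain ⟨k', _, _, f, r, _, _, n, hk, hka, hn0, hn⟩ := exists_closure F
  have hdet := det_rep_ne_zero (k := k') cs r hn0 hp.isCartan w
  rw [← hn] at hdet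
  obtain ⟨e3⟩ := kerOf_equiv k' hdet
  have h1 := LatCyc.det_sub hm hl (hcyc k w χ hχ) ((Nat.card F : ℕ) : ℤ)
  rw [← h1, ← card_kerOf k' hdet, Nat.card_congr e3.toEquiv]
  exact Subgroup.card_dvd_of_injective φ hφ

/-- `od q ℓ = m` : the value of the cyclotomic polynomial -/
theorem cyclotomic_dvd {q ℓ m : ℕ} (hℓ : ℓ.Prime) (h : od q ℓ = m) (hm : 0 < m) :
    (ℓ : ℤ) ∣ (Polynomial.cyclotomic m ℤ).eval ((q : ℕ) : ℤ) := by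
  have : Fact ℓ.Prime := ⟨hℓ⟩
  have hm1 := mod_of_od hℓ h hm
  have hℓm : ¬ ℓ ∣ m := by
    intro h1
    have h2 := hℓ.two_le
    have h3 := Nat.le_of_dvd (by omega) hm1
    have h4 := Nat.le_of_dvd hm h1
    omega
  have : NeZero ((m : ℕ) : ZMod ℓ) := ⟨fun h0 => hℓm ((ZMod.natCast_eq_zero_iff m ℓ).1 h0)⟩
  have h1 : IsPrimitiveRoot ((q : ℕ) : ZMod ℓ) m := by
    rw [← h]
    exact IsPrimitiveRoot.orderOf _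
  have h2 := Polynomial.isRoot_cyclotomic_iff.2 h1
  rw [← ZMod.intCast_zmod_eq_zero_iff_dvd]
  have h3 : (((Polynomial.cyclotomic m ℤ).eval ((q : ℕ) : ℤ) : ℤ) : ZMod ℓ) =
      (Polynomial.cyclotomic m (ZMod ℓ)).eval ((q : ℕ) : ZMod ℓ) := by
    rw [← Polynomial.map_cyclotomic_int m (ZMod ℓ)]
    have h4 := Polynomial.eval_intCast_map (Int.castRingHom (ZMod ℓ)) (Polynomial.cyclotomic m ℤ) ((q : ℕ) : ℤ)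
    rw [Int.cast_natCast] at h4
    rw [h4]
    rfl
  rw [h3]
  exact h2

theorem not_dvd_q {q ℓ m : ℕ} (hℓ : ℓ.Prime) (h : od q ℓ = m) (hm : 0 < m) : ¬ ℓ ∣ q := by
  have : Fact ℓ.Prime := ⟨hℓ⟩
  intro h1
  have h2 : ((q : ℕ) : ZMod ℓ) = 0 := (ZMod.natCast_eq_zero_iff q ℓ).2 h1
  rw [od, h2, orderOf_zero] at h
  omega

/-- **`q` of order `m` modulo `ℓ`, `φ(m) = l`, `m > l`**: the centraliser is abelian of order dividing `Φ_m(q)`. -/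
theorem cent_od {D : ChevalleyDatum} {l : ℕ} {M : CoxeterMatrix (Fin l)} (hp : IsType D l M) {d : ℕ}
    {B : Fin l → Fin l → ℤ} (hB : InvC D l d B) (hd : d ≠ 0) {F : Type u} [Field F]
    [Finite F] {x : ↥(D.group F)} {ℓ m : ℕ} (hℓ : ℓ.Prime) (hx : orderOf x = ℓ) (h : od (Nat.card F) ℓ = m)
    (hl : m.totient = l) (hlm : l < m) :
    (∀ a b : ↥(D.group F), Commute a x → Commute b x → Commute a b) ∧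
      Nat.card ↥(Subgroup.centralizer {x}) ∣ ((Polynomial.cyclotomic m ℤ).eval ((Nat.card F : ℕ) : ℤ)).natAbs := by
  let cs : CoxeterSystem M M.Group := M.toCoxeterSystem
  have := finite_W hp cs
  have hm : 0 < m := by omega
  have hm1 := mod_of_od hℓ h hm
  have h2 := hℓ.two_le
  have h3 := Nat.le_of_dvd (by omega) hm1
  obtain ⟨w, -, ⟨φ, hφ⟩, hc⟩ := cent_cyc hp cs hB hd hℓ (not_dvd_q hℓ h hm) hx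
    (fun h1 => by have := LatCodim.le_of_dvd_card cs hp.isCartan hℓ h1; omega) hm hl
    (fun h1 => by have := Nat.le_of_dvd hm h1; omega) (cyclotomic_dvd hℓ h hm)
  exact ⟨comm_of_hom hφ, hc⟩

/-- **G2(q)**: elements of odd prime order not adjacent to 2 have abelian centralisers. -/
theorem ac1_G2 (F : Type u) [Field F] [Finite F] : H564.NearTwo.AC1 ↥(chevG2.group F) := by
  intro x hx h2 hn a b ha hb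
  rcases adj_G2 F hx (orderOf_dvd_natCard x) with h | h | h | h
  · exact absurd h h2
  · exact absurd h hn
  · exact (cent_od g2T inv_G2 one_ne_zero hx rfl h (by decide) (by norm_num)).1 a b ha hb
  · exact (cent_od g2T inv_G2 one_ne_zero hx rfl h (by decide) (by norm_num)).1 a b ha hb

/-- **F4(q)**: elements of odd prime order not adjacent to 2 have abelian centralisers. -/
theorem ac1_F4 (F : Type u) [Field F] [Finite F] : H564.NearTwo.AC1 ↥(chevF4.group F) := by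
  intro x hx h2 hn a b ha hb
  rcases adj_F4 F hx (orderOf_dvd_natCard x) with h | h | h | h
  · exact absurd h h2
  · exact absurd h hn
  · exact (cent_od f4T inv_F4 one_ne_zero hx rfl h (by decide) (by norm_num)).1 a b ha hb
  · exact (cent_od f4T inv_F4 one_ne_zero hx rfl h (by decide) (by norm_num)).1 a b ha hb

/-- **E8(q)**: elements of odd prime order not adjacent to 2 have abelian centralisers. -/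
theorem ac1_E8 (F : Type u) [Field F] [Finite F] : H564.NearTwo.AC1 ↥(chevE8.group F) := by
  intro x hx h2 hn a b ha hb
  rcases adj_E8 F hx (orderOf_dvd_natCard x) with h | h | h | h | h | h
  · exact absurd h h2
  · exact absurd h hn
  · exact (cent_od e8T inv_E8 one_ne_zero hx rfl h (by decide) (by norm_num)).1 a b ha hb
  · exact (cent_od e8T inv_E8 one_ne_zero hx rfl h (by decide) (by norm_num)).1 a b ha hb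
  · exact (cent_od e8T inv_E8 one_ne_zero hx rfl h (by decide) (by norm_num)).1 a b ha hb
  · exact (cent_od e8T inv_E8 one_ne_zero hx rfl h (by decide) (by norm_num)).1 a b ha hb

/-- a prime divisor of `Φ_m(q)` -/
theorem od_of_dvd {q s m : ℕ} (h : s ∣ ((Polynomial.cyclotomic m ℤ).eval ((q : ℕ) : ℤ)).natAbs) : od q s ∣ m := by
  rw [od, ← CycTab.dvd_iff m]
  have h1 : (s : ℤ) ∣ (Polynomial.cyclotomic m ℤ).eval ((q : ℕ) : ℤ) := Int.natCast_dvd.2 h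
  refine h1.trans ?_
  have h2 := Polynomial.eval_dvd (x := ((q : ℕ) : ℤ)) (Polynomial.cyclotomic.dvd_X_pow_sub_one m ℤ)
  simpa using h2

theorem od_of_comm {G : Type*} [Group G] [Finite G] {q m : ℕ} {x y : G} (hc : Commute y x)
    (h : Nat.card ↥(Subgroup.centralizer {x}) ∣ ((Polynomial.cyclotomic m ℤ).eval ((q : ℕ) : ℤ)).natAbs) :
    od q (orderOf y) ∣ m := by
  have hy : y ∈ Subgroup.centralizer {x} := Subgroup.mem_centralizer_singleton_iff.2 hc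
  have h4 : orderOf y ∣ Nat.card ↥(Subgroup.centralizer {x}) := by
    rw [← Subgroup.orderOf_mk y hy]
    exact orderOf_dvd_natCard _
  exact od_of_dvd (h4.trans h)

/-- **E6(q)** -/
theorem ac1'_E6 (F : Type u) [Field F] [Finite F] : H564.NearTwo.AC1' ↥(chevE6.group F) := by
  intro x hx h2 hn
  have h9 : od (Nat.card F) (orderOf x) = 8 ∨ od (Nat.card F) (orderOf x) = 9 ∨ od (Nat.card F) (orderOf x) = 12 := by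
    rcases adj_E6 F hx (orderOf_dvd_natCard x) with h | h | h
    · exact absurd h h2
    · exact absurd h hn
    · exact h
  by_cases h9' : od (Nat.card F) (orderOf x) = 9
  · exact Or.inl (cent_od e6T inv_E6 three_ne_zero hx rfl h9' (by decide) (by norm_num)).1
  · right
    rintro r (rfl | hr)
    · exact (near_E6 F hx (orderOf_dvd_natCard x)).resolve_right h9'
    · obtain ⟨hrp, hsp, hne, y, x', hy, hx', hc⟩ := hr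
      have hrd : r ∣ Nat.card ↥(chevE6.group F) := hy ▸ orderOf_dvd_natCard y
      rcases near_E6 F hrp hrd with h | h
      · exact h
      · exfalso
        have h3 := (cent_od e6T inv_E6 three_ne_zero hrp hy h (by decide) (by norm_num)).2
        have h4 := od_of_comm hc.symm h3
        rw [hx'] at h4
        rcases h9 with h5 | h5 | h5
        · rw [h5] at h4; omega
        · exact h9' h5
        · rw [h5] at h4; omega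

theorem good2_G2 (F : Type u) [Field F] [Finite F] : H564.NearTwo.Good2 ↥(chevG2.group F) :=
  H564.NearTwo.good2_of_ac1 (ac1_G2 F)

theorem good2_F4 (F : Type u) [Field F] [Finite F] : H564.NearTwo.Good2 ↥(chevF4.group F) :=
  H564.NearTwo.good2_of_ac1 (ac1_F4 F)

theorem good2_E6 (F : Type u) [Field F] [Finite F] : H564.NearTwo.Good2 ↥(chevE6.group F) :=
  H564.NearTwo.good2_of_ac1' (ac1'_E6 F)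

theorem good2_E8 (F : Type u) [Field F] [Finite F] : H564.NearTwo.Good2 ↥(chevE8.group F) :=
  H564.NearTwo.good2_of_ac1 (ac1_E8 F)

/-- `AC` of helper94 -/
theorem ac_G2 (F : Type u) [Field F] [Finite F] : H94.PG.AC ↥(chevG2.group F) := (good2_G2 F).ac

theorem ac_F4 (F : Type u) [Field F] [Finite F] : H94.PG.AC ↥(chevF4.group F) := (good2_F4 F).ac

theorem ac_E6 (F : Type u) [Field F] [Finite F] : H94.PG.AC ↥(chevE6.group F) := (good2_E6 F).ac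

theorem ac_E8 (F : Type u) [Field F] [Finite F] : H94.PG.AC ↥(chevE8.group F) := (good2_E8 F).ac

end Cfsg.Agent.H378.RegFin
end

-- part: H378/LatPerp
section
prune_inst 0x400000000600000000018000000001e0282000000004b000010000400048f3c0320410621422008021010044020300040000000000000000020000000000000000000400042810100200000000000100000000000000000000000000000041000000000000
set_option linter.all false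
open scoped Cfsg.Agent.FastGrp

/-!
# Roots on which an eigencharacter is trivial (helper378)

`χ (w x) = χ x ^ q`, `χ` of prime order `ℓ ∤ |W|`, `ℓ ∣ Φ_m(q)`:

* `exists_perp` : `y ≠ 0` with `Φ_m(w) y = 0` and all `w^i y` orthogonal to the roots `a` with `χ a = 1`;
* `mem_ker_of_perp` : if `φ(m) + 1 = l` and `χ a = 1` then `Φ_m(w) b = 0` for all `b` orthogonal to `a`;
* `dvd_card_perp` : then `m` divides the number of roots orthogonal to `a`.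
-/

set_option autoImplicit false
set_option linter.unusedSectionVars false

namespace Cfsg.Agent.H378.LatPerp

open CoxeterSystem Cfsg.Agent.ChevalleyStructure.CoxeterGeom Cfsg.Agent.Tits.Roots Cfsg.Agent.Tits.Core
  Cfsg.Agent.Nodes.Reps Cfsg.Agent.Nodes.BNOf
open Polynomial Cfsg.Agent.H378.TorDual Cfsg.Agent.H378.LatCyc Cfsg.Agent.H378.LatCodim Cfsg.Agent.H378.LatRoot

universe u

/-! ### free actions -/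

theorem dvd_card_of_free {X : Type*} [Finite X] (π : Equiv.Perm X) {m : ℕ} (hm : 0 < m) (h1 : π ^ m = 1)
    (h2 : ∀ x, ∀ j : ℕ, 0 < j → j < m → (π ^ j) x ≠ x) : m ∣ Nat.card X := by
  rcases isEmpty_or_nonempty X with hX | ⟨⟨x0⟩⟩
  · rw [Nat.card_of_isEmpty]; exact dvd_zero m
  have ho : orderOf π = m := by
    refine (orderOf_eq_iff hm).2 ⟨h1, fun j hj hj0 h3 => ?_⟩
    exact h2 x0 j hj0 hj (by rw [h3]; rfl)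
  have hst : ∀ b : X, MulAction.stabilizer ↥(Subgroup.zpowers π) b = ⊥ := by
    intro b
    rw [eq_bot_iff]
    rintro ⟨g, i, rfl⟩ hg
    rw [Subgroup.mem_bot]
    apply Subtype.ext
    show π ^ i = 1
    have hg' : (π ^ i) b = b := hg
    have h3 : π ^ i = π ^ (i % m).toNat := by
      have h4 : π ^ i = π ^ (i % m) := by
        conv_lhs => rw [← Int.emod_add_mul_ediv i m]
        rw [zpow_add, zpow_mul, zpow_natCast, h1, one_zpow, mul_one]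
      rw [h4, ← zpow_natCast, Int.toNat_of_nonneg (Int.emod_nonneg _ (by omega))]
    have h5 : (i % m).toNat < m := by
      have := Int.emod_lt_of_pos i (by omega : (0 : ℤ) < m)
      have := Int.emod_nonneg i (by omega : (m : ℤ) ≠ 0)
      omega
    rcases Nat.eq_zero_or_pos (i % m).toNat with h6 | h6
    · rw [h3, h6, pow_zero]
    · exact absurd (h3 ▸ hg') (h2 b _ h6 h5)
  have h3 := Nat.card_congr (MulAction.selfEquivOrbitsQuotientProd (G := ↥(Subgroup.zpowers π)) (X := X) hst)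
  rw [Nat.card_prod, Nat.card_zpowers, ho] at h3
  exact ⟨_, by rw [h3, mul_comm]⟩

/-! ### semiregularity on the kernel -/

theorem not_dvd_cyclotomic {m j : ℕ} (hm : 0 < m) (hj0 : 0 < j) (hj : j < m) :
    IsCoprime (cyclotomic m ℚ) (X ^ j - 1) := by
  rcases (cyclotomic.irreducible_rat hm).isCoprime_or_dvd (X ^ j - 1) with h1 | h1
  · exact h1
  · exfalso
    rw [← prod_cyclotomic_eq_X_pow_sub_one hj0] at h1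
    obtain ⟨d, hd, h2⟩ := ((cyclotomic.irreducible_rat hm).prime.dvd_finsetProd_iff _).1 h1
    have h3 : d ≤ j := Nat.divisor_le hd
    have h4 := cyclotomic.isCoprime_rat (n := m) (m := d) (by omega)
    exact (cyclotomic.irreducible_rat hm).not_isUnit (h4.isUnit_of_dvd' dvd_rfl h2)

section Lat

variable {l : ℕ}

theorem pow_apply_eq {m : ℕ} {w : Module.End ℤ (Fin l → ℤ)} {b : Fin l → ℤ}
    (h : aeval w (cyclotomic m ℤ) b = 0) : (w ^ m) b = b := by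
  obtain ⟨R, hR⟩ := cyclotomic.dvd_X_pow_sub_one m ℤ
  have h1 : aeval w (X ^ m - 1 : ℤ[X]) b = 0 := by
    rw [hR, mul_comm, map_mul, Module.End.mul_apply, h, map_zero]
  rw [map_sub, map_pow, aeval_X, map_one, LinearMap.sub_apply, Module.End.one_apply, sub_eq_zero] at h1
  exact h1

theorem pow_apply_ne {m : ℕ} (hm : 0 < m) {w : Module.End ℤ (Fin l → ℤ)} {b : Fin l → ℤ} (hb : b ≠ 0)
    (h : aeval w (cyclotomic m ℤ) b = 0) {j : ℕ} (hj0 : 0 < j) (hj : j < m) : (w ^ j) b ≠ b := by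
  intro h1
  apply hb
  rw [← vq_eq_zero]
  refine eq_zero_of_coprime (T := toQ w) (not_dvd_cyclotomic hm hj0 hj) (aeval_vq h) ?_
  rw [map_sub, map_pow, aeval_X, map_one, LinearMap.sub_apply, Module.End.one_apply, ← map_pow, toQ_vq, h1, sub_self]

end Lat

/-! ### the orthogonal complement -/

section Perp

variable {l : ℕ} {W : Type*} [Group W] [Fintype W] {M : CoxeterMatrix (Fin l)} {cs : CoxeterSystem M W}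
  {A : Fin l → Fin l → ℤ} {h : IsCartan M A} {k : Type u} [Field k]

attribute [local instance] LatRoot.fintypeStab

/-- the form as an additive map -/
noncomputable def formHom (cs : CoxeterSystem M W) (h : IsCartan M A) (x : Fin l → ℤ) : (Fin l → ℤ) →+ ℤ where
  toFun := form cs h x
  map_zero' := form_zero_right cs h x
  map_add' := form_add_right cs h x

theorem form_sum_right {ι : Type*} (s : Finset ι) (x : Fin l → ℤ) (y : ι → Fin l → ℤ) :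
    form cs h x (∑ i ∈ s, y i) = ∑ i ∈ s, form cs h x (y i) := map_sum (formHom cs h x) y s

theorem chi_w {w : W} {q : ℤ} {χ : Ch l k} (hχ : χ ∈ KerOf k (rep cs h w - q • (1 : Module.End ℤ (Fin l → ℤ))))
    (x : Fin l → ℤ) : χ (Multiplicative.ofAdd (rep cs h w x)) = χ (Multiplicative.ofAdd x) ^ q := by
  have h1 := hχ x
  rw [LinearMap.sub_apply, LinearMap.smul_apply, Module.End.one_apply, sub_eq_add_neg, ofAdd_add, map_mul, ofAdd_neg,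
    map_inv, ofAdd_zsmul, map_zpow, mul_inv_eq_one] at h1
  exact h1

theorem conj_mem_stab {w : W} {q : ℤ} {χ : Ch l k}
    (hχ : χ ∈ KerOf k (rep cs h w - q • (1 : Module.End ℤ (Fin l → ℤ)))) {v : W} (hv : v ∈ stab cs h χ) :
    w * v * w⁻¹ ∈ stab cs h χ := by
  intro x
  rw [rep_mul_apply, rep_mul_apply, chi_w hχ, hv, ← chi_w hχ, rep_apply_inv]

theorem avg_comm {w : W} {q : ℤ} {χ : Ch l k}
    (hχ : χ ∈ KerOf k (rep cs h w - q • (1 : Module.End ℤ (Fin l → ℤ)))) (x : Fin l → ℤ) :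
    avg cs h χ (rep cs h w x) = rep cs h w (avg cs h χ x) := by
  let c : ↥(stab cs h χ) → ↥(stab cs h χ) := fun v => ⟨w * v.1 * w⁻¹, conj_mem_stab hχ v.2⟩
  have hc : Function.Injective c := by
    intro v v' hvv
    have h1 : w * v.1 * w⁻¹ = w * v'.1 * w⁻¹ := congrArg Subtype.val hvv
    exact Subtype.ext (mul_left_cancel (mul_right_cancel h1))
  have hb := Finite.injective_iff_bijective.1 hc
  rw [avg_apply, avg_apply, map_sum]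
  refine (Fintype.sum_equiv (Equiv.ofBijective c hb) _ _ fun v => ?_).symm
  show rep cs h w (rep cs h v.1 x) = rep cs h (w * v.1 * w⁻¹) (rep cs h w x)
  rw [rep_mul_apply, rep_mul_apply, rep_inv_apply]

theorem form_avg {χ : Ch l k} (x y : Fin l → ℤ) : form cs h x (avg cs h χ y) = form cs h (avg cs h χ x) y := by
  rw [avg_apply, avg_apply, form_sum_right, form_comm cs h _ y, form_sum_right]
  refine Fintype.sum_equiv (Equiv.inv ↥(stab cs h χ)) _ _ fun v => ?_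
  show form cs h x (rep cs h v.1 y) = form cs h y (rep cs h (v⁻¹).1 x)
  rw [form_comm cs h x, form_rep_left]
  rfl

theorem avg_pow {w : W} {q : ℤ} {χ : Ch l k}
    (hχ : χ ∈ KerOf k (rep cs h w - q • (1 : Module.End ℤ (Fin l → ℤ)))) (i : ℕ) (x : Fin l → ℤ) :
    (rep cs h w ^ i) (avg cs h χ x) = avg cs h χ ((rep cs h w ^ i) x) := by
  induction i generalizing x with
  | zero => rfl
  | succ i ih => rw [pow_succ, Module.End.mul_apply, Module.End.mul_apply, ← ih, avg_comm hχ]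

theorem avg_aeval {w : W} {q : ℤ} {χ : Ch l k}
    (hχ : χ ∈ KerOf k (rep cs h w - q • (1 : Module.End ℤ (Fin l → ℤ)))) (P : ℤ[X]) (x : Fin l → ℤ) :
    aeval (rep cs h w) P (avg cs h χ x) = avg cs h χ (aeval (rep cs h w) P x) := by
  induction P using Polynomial.induction_on' with
  | add p q hp hq => rw [map_add, LinearMap.add_apply, LinearMap.add_apply, map_add, hp, hq]
  | monomial n a =>
    rw [aeval_monomial, Module.End.mul_apply, Module.End.mul_apply, Module.algebraMap_end_apply,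
      Module.algebraMap_end_apply, map_smul, avg_pow hχ]

/-- **The orthogonal complement of the trivial roots.** -/
theorem exists_perp {w : W} {m : ℕ} (hm : 0 < m) {ℓ : ℕ} (hℓ : ℓ.Prime) (hℓW : ¬ ℓ ∣ Nat.card W) (hℓm : ¬ ℓ ∣ m)
    {q : ℤ} (hq : (ℓ : ℤ) ∣ (cyclotomic m ℤ).eval q) {χ : Ch l k}
    (hχ : χ ∈ KerOf k (rep cs h w - q • (1 : Module.End ℤ (Fin l → ℤ)))) (hχ1 : χ ≠ 1) (hχℓ : χ ^ ℓ = 1) :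
    ∃ y : Fin l → ℤ, y ≠ 0 ∧ aeval (rep cs h w) (cyclotomic m ℤ) y = 0 ∧
      ∀ a, IsRoot cs h a → χ (Multiplicative.ofAdd a) = 1 → ∀ i : ℕ, form cs h a ((rep cs h w ^ i) y) = 0 := by
  obtain ⟨Q, -, x, hx, hx1⟩ := exists_ker hm (w := rep cs h w) (N := Nat.card W) Nat.card_pos
    (by rw [← map_pow, pow_card_eq_one', map_one]) hℓ hℓW hℓm hq hχ hχ1 hχℓ
  obtain ⟨y, hy⟩ : ∃ y, y = aeval (rep cs h w) Q x := ⟨_, rfl⟩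
  rw [← hy] at hx hx1
  have hcop : (Nat.card ↥(stab cs h χ)).Coprime ℓ :=
    ((Nat.Prime.coprime_iff_not_dvd hℓ).2 fun h2 => hℓW (h2.trans (Subgroup.card_subgroup_dvd_card _))).symm
  refine ⟨avg cs h χ y, ?_, by rw [avg_aeval hχ, hx, map_zero], fun a ha ha1 i => ?_⟩
  · intro h0
    have h2 := chi_avg (cs := cs) (h := h) χ y
    rw [h0, ofAdd_zero, map_one] at h2
    have h3 : χ (Multiplicative.ofAdd y) ^ ℓ = 1 := by rw [← MonoidHom.pow_apply, hχℓ, MonoidHom.one_apply]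
    exact hx1 (pow_eq_one_of_coprime h2.symm h3 hcop)
  · rw [avg_pow hχ, form_avg, avg_root ha ha1, form_comm, form_zero_right]

/-- the form as a functional on `ℚ^l` -/
noncomputable def funQ (cs : CoxeterSystem M W) (h : IsCartan M A) (a : Fin l → ℤ) : (Fin l → ℚ) →ₗ[ℚ] ℚ where
  toFun v := ∑ i, v i * (form cs h a (sr i) : ℚ)
  map_add' u v := by
    rw [← Finset.sum_add_distrib]
    exact Finset.sum_congr rfl fun i _ => by rw [Pi.add_apply]; ring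
  map_smul' c v := by
    rw [RingHom.id_apply, smul_eq_mul, Finset.mul_sum]
    exact Finset.sum_congr rfl fun i _ => by rw [Pi.smul_apply, smul_eq_mul]; ring

theorem sum_sr' (v : Fin l → ℤ) : v = ∑ i, v i • (sr i : Fin l → ℤ) := by
  funext j
  rw [Finset.sum_apply]
  simp only [Pi.smul_apply, smul_eq_mul]
  rw [Finset.sum_eq_single j]
  · rw [sr_self, mul_one]
  · intro i _ hi
    rw [sr_ne (Ne.symm hi), mul_zero]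
  · intro hj
    exact absurd (Finset.mem_univ j) hj

theorem funQ_vq (a x : Fin l → ℤ) : funQ cs h a (vq x) = (form cs h a x : ℚ) := by
  have h1 : form cs h a x = ∑ i, x i * form cs h a (sr i) := by
    conv_lhs => rw [sum_sr' x, form_sum_right]
    exact Finset.sum_congr rfl fun i _ => form_smul_right cs h _ _ _
  show ∑ i, (x i : ℚ) * (form cs h a (sr i) : ℚ) = _
  rw [h1]
  push_cast
  rfl

/-- **Codimension one.** -/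
theorem mem_ker_of_perp {w : W} {m : ℕ} (hm : 0 < m) (hl : m.totient + 1 = l) {y : Fin l → ℤ} (hy : y ≠ 0)
    (hy' : aeval (rep cs h w) (cyclotomic m ℤ) y = 0) {a : Fin l → ℤ} (ha : a ≠ 0)
    (hay : ∀ i : ℕ, form cs h a ((rep cs h w ^ i) y) = 0) {b : Fin l → ℤ} (hab : form cs h a b = 0) :
    aeval (rep cs h w) (cyclotomic m ℤ) b = 0 := by
  obtain ⟨T, hT⟩ : ∃ T, T = toQ (rep cs h w) := ⟨_, rfl⟩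
  have hyQ : vq y ≠ 0 := fun h0 => hy (vq_eq_zero.1 h0)
  have hy'Q : aeval T (cyclotomic m ℚ) (vq y) = 0 := by rw [hT]; exact aeval_vq hy'
  have hdep : ¬ LinearIndependent ℚ (fun i : Fin m.totient ⊕ Fin 2 =>
      Sum.elim (fun i : Fin m.totient => (T ^ (i : ℕ)) (vq y)) ![vq a, vq b] i) := by
    intro h1
    have h2 := h1.fintype_card_le_finrank
    rw [Fintype.card_sum, Fintype.card_fin, Fintype.card_fin, Module.finrank_fin_fun] at h2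
    omega
  rw [Fintype.linearIndependent_iff] at hdep
  push Not at hdep
  obtain ⟨c, hc, i, hi⟩ := hdep
  rw [Fintype.sum_sum_type] at hc
  simp only [Sum.elim_inl, Sum.elim_inr, Fin.sum_univ_two, Matrix.cons_val_zero, Matrix.cons_val_one] at hc
  have hTy : ∀ i : ℕ, funQ cs h a ((T ^ i) (vq y)) = 0 := by
    intro i
    rw [hT, ← map_pow, toQ_vq, funQ_vq, hay, Int.cast_zero]
  have hα : c (Sum.inr 0) = 0 := by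
    have h1 := congrArg (funQ cs h a) hc
    rw [map_add, map_sum, map_add, map_smul, map_smul, funQ_vq, funQ_vq, hab, map_zero] at h1
    have h2 : ∑ i : Fin m.totient, funQ cs h a (c (Sum.inl i) • (T ^ (i : ℕ)) (vq y)) = 0 :=
      Finset.sum_eq_zero fun i _ => by rw [map_smul, hTy, smul_zero]
    rw [h2, zero_add, Int.cast_zero, smul_zero, add_zero, smul_eq_mul] at h1
    rcases mul_eq_zero.1 h1 with h3 | h3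
    · exact h3
    · exact absurd (Int.cast_eq_zero.1 h3) (form_pos cs h ha).ne'
  rw [hα, zero_smul, zero_add, ← aeval_pol] at hc
  have hβ : c (Sum.inr 1) ≠ 0 := by
    intro hβ
    rw [hβ, zero_smul, add_zero] at hc
    have hP : pol (fun i => c (Sum.inl i)) = 0 := by
      by_contra hP
      exact hyQ (eq_zero_of_coprime (coprime_of_degree hm hP (pol_degree _)) hy'Q hc)
    rcases i with i | i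
    · exact hi (congrFun (eq_zero_of_pol hP) i)
    · fin_cases i
      · exact hi hα
      · exact hi hβ
  have h1 : c (Sum.inr 1) • aeval T (cyclotomic m ℚ) (vq b) = 0 := by
    have h2 := congrArg (aeval T (cyclotomic m ℚ)) hc
    rw [map_add, map_smul, map_zero, ← Module.End.mul_apply, ← map_mul, mul_comm, map_mul, Module.End.mul_apply,
      hy'Q, map_zero, zero_add] at h2
    exact h2
  rcases smul_eq_zero.1 h1 with h2 | h2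
  · exact absurd h2 hβ
  · rw [hT, ← map_cyclotomic_int m ℚ, ← toQ_aeval, toQ_vq] at h2
    exact vq_eq_zero.1 h2

/-- the roots orthogonal to `a` -/
def PerpRoots (cs : CoxeterSystem M W) (h : IsCartan M A) (a : Fin l → ℤ) :=
  {b : Fin l → ℤ // IsRoot cs h b ∧ form cs h a b = 0}

noncomputable instance finitePerp (a : Fin l → ℤ) : Finite (PerpRoots cs h a) := by
  have := (RGD.finite_roots (cs := cs) (h := h))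
  exact Set.Finite.subset this (fun b hb => hb.1)

/-- **`m` divides the number of roots orthogonal to `a`.** -/
theorem dvd_card_perp {w : W} {m : ℕ} (hm : 0 < m) (hl : m.totient + 1 = l) (h2 : 2 ≤ m.totient) {y : Fin l → ℤ}
    (hy : y ≠ 0) (hy' : aeval (rep cs h w) (cyclotomic m ℤ) y = 0) {a : Fin l → ℤ} (ha : a ≠ 0)
    (hay : ∀ i : ℕ, form cs h a ((rep cs h w ^ i) y) = 0) : m ∣ Nat.card (PerpRoots cs h a) := by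
  have hker : ∀ b : Fin l → ℤ, form cs h a b = 0 → aeval (rep cs h w) (cyclotomic m ℤ) b = 0 :=
    fun b hb => mem_ker_of_perp hm hl hy hy' ha hay hb
  have hF : ∀ P : ℚ[X], funQ cs h a (aeval (toQ (rep cs h w)) P (vq y)) = 0 := by
    intro P
    induction P using Polynomial.induction_on' with
    | add p q hp hq => rw [map_add, LinearMap.add_apply, map_add, hp, hq, add_zero]
    | monomial n c =>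
      rw [aeval_monomial, Module.End.mul_apply, Module.algebraMap_end_apply, map_smul, ← map_pow, toQ_vq, funQ_vq, hay,
        Int.cast_zero, smul_zero]
  -- `w` preserves the complement of `a`
  have hst : ∀ (i : ℕ) (b : Fin l → ℤ), form cs h a b = 0 → form cs h a ((rep cs h w ^ i) b) = 0 := by
    intro i b hb
    obtain ⟨P, hP⟩ := exists_two (T := toQ (rep cs h w)) hm (x := vq y) (y := vq b) (by omega)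
      (fun h0 => hy (vq_eq_zero.1 h0)) (aeval_vq hy') (aeval_vq (hker b hb))
    have h3 := hF (X ^ i * P)
    rw [map_mul, Module.End.mul_apply, ← hP, map_pow, aeval_X, ← map_pow, toQ_vq, funQ_vq] at h3
    exact_mod_cast h3
  have hpow : ∀ i : ℕ, ∀ b, IsRoot cs h b → IsRoot cs h ((rep cs h w ^ i) b) := by
    intro i b hb
    rw [← map_pow]
    exact hb.act _
  have hinv : ∀ b : Fin l → ℤ, form cs h a b = 0 → (rep cs h w ^ m) b = b := fun b hb => pow_apply_eq (hker b hb)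
  let π : Equiv.Perm (PerpRoots cs h a) :=
    { toFun := fun b => ⟨(rep cs h w ^ 1) b.1, hpow 1 _ b.2.1, hst 1 _ b.2.2⟩
      invFun := fun b => ⟨(rep cs h w ^ (m - 1)) b.1, hpow _ _ b.2.1, hst _ _ b.2.2⟩
      left_inv := fun b => Subtype.ext (by
        show (rep cs h w ^ (m - 1)) ((rep cs h w ^ 1) b.1) = b.1
        rw [← Module.End.mul_apply, ← pow_add, Nat.sub_add_cancel hm]
        exact hinv _ b.2.2)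
      right_inv := fun b => Subtype.ext (by
        show (rep cs h w ^ 1) ((rep cs h w ^ (m - 1)) b.1) = b.1
        rw [← Module.End.mul_apply, ← pow_add, Nat.add_sub_cancel' hm]
        exact hinv _ b.2.2) }
  have hπ : ∀ (i : ℕ) (b : PerpRoots cs h a), ((π ^ i) b).1 = (rep cs h w ^ i) b.1 := by
    intro i
    induction i with
    | zero => intro b; rfl
    | succ i ih =>
      intro b
      rw [pow_succ, Equiv.Perm.mul_apply, ih]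
      show (rep cs h w ^ i) ((rep cs h w ^ 1) b.1) = _
      rw [← Module.End.mul_apply, ← pow_add]
  refine dvd_card_of_free π hm (Equiv.Perm.ext fun b => Subtype.ext ?_) fun b j hj0 hj h3 => ?_
  · rw [hπ]
    exact hinv _ b.2.2
  · refine pow_apply_ne hm b.2.1.ne_zero (hker _ b.2.2) hj0 hj ?_
    rw [← hπ, h3]

/-- transport to a fundamental root -/
theorem card_perp_simple (v : W) (i : Fin l) : Nat.card (PerpRoots cs h (rep cs h v (sr i))) =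
    Nat.card {b : Fin l → ℤ // IsRoot cs h b ∧ pairing A i b = 0} := by
  have key : ∀ b : Fin l → ℤ, (IsRoot cs h b ∧ form cs h (rep cs h v (sr i)) b = 0) ↔
      (IsRoot cs h (rep cs h v⁻¹ b) ∧ pairing A i (rep cs h v⁻¹ b) = 0) := by
    intro b
    have h1 : form cs h (rep cs h v (sr i)) b = 0 ↔ pairing A i (rep cs h v⁻¹ b) = 0 := by
      rw [form_rep_left, form_comm, Nodes.NormX.form_sr_eq_zero_iff, Nodes.StabComb.mem_orth]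
    have h2 : IsRoot cs h b ↔ IsRoot cs h (rep cs h v⁻¹ b) := by
      constructor
      · intro hb; exact hb.act _
      · intro hb
        have := hb.act v
        rwa [rep_apply_inv] at this
    rw [h1, h2]
  refine Nat.card_congr
    { toFun := fun b => ⟨rep cs h v⁻¹ b.1, (key b.1).1 b.2⟩
      invFun := fun b => ⟨rep cs h v b.1, (key _).2 (by rw [rep_inv_apply]; exact b.2)⟩
      left_inv := fun b => Subtype.ext (rep_apply_inv cs h v b.1)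
      right_inv := fun b => Subtype.ext (rep_inv_apply cs h v b.1) }

/-- **No root is trivial, codimension one.** -/
theorem ne_one_of_codim {w : W} {m : ℕ} (hm : 0 < m) (hl : m.totient + 1 = l) (h2 : 2 ≤ m.totient) {ℓ : ℕ}
    (hℓ : ℓ.Prime) (hℓW : ¬ ℓ ∣ Nat.card W) (hℓm : ¬ ℓ ∣ m)
    {q : ℤ} (hq : (ℓ : ℤ) ∣ (cyclotomic m ℤ).eval q) {χ : Ch l k}
    (hχ : χ ∈ KerOf k (rep cs h w - q • (1 : Module.End ℤ (Fin l → ℤ)))) (hχ1 : χ ≠ 1) (hχℓ : χ ^ ℓ = 1)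
    (hcard : ∀ i : Fin l, ¬ m ∣ Nat.card {b : Fin l → ℤ // IsRoot cs h b ∧ pairing A i b = 0})
    {a : Fin l → ℤ} (ha : IsRoot cs h a) : χ (Multiplicative.ofAdd a) ≠ 1 := by
  intro h1
  obtain ⟨y, hy, hy', hp⟩ := exists_perp hm hℓ hℓW hℓm hq hχ hχ1 hχℓ
  have h3 := dvd_card_perp hm hl h2 hy hy' ha.ne_zero (hp a ha h1)
  obtain ⟨v, i, rfl⟩ := ha
  rw [card_perp_simple] at h3
  exact hcard i h3

end Perp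

end Cfsg.Agent.H378.LatPerp
end

-- part: H378/RegE7
section
prune_inst 0x490104100748000000018001222201e42ae000020000b000051800000048f3c23a00126214a601a029204804410308040000001300010000020008600011c01a00c834620e3c9b108a00016000800610000000000000000000000000000041000000000000
set_option linter.all false
open scoped Cfsg.Agent.FastGrp

/-!
# E7(q): elements of prime order `ℓ` with `q` of order 7, 9, 14, 18 modulo `ℓ` (helper378)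

* `two_ker` : `Φ_m(w)`, `Φ_{m'}(w)` both singular, `m ≠ m'`: `φ(m) + φ(m') ≤ l`;
* `od_of_cent` : primes dividing the order of the centraliser of a regular element;
* `cent_E7` : the centralisers are abelian;
* `ac1'_E7`, `good2_E7`, `ac_E7`.
-/

set_option autoImplicit false
set_option linter.unusedSectionVars false

namespace Cfsg.Agent.H378.RegE7

open CoxeterSystem Subgroup Cfsg Cfsg.Lie Cfsg.Lie.ChevalleyDatum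
open Cfsg.Agent.ChevalleyStructure Cfsg.Agent.ChevalleyStructure.Elts Cfsg.Agent.ChevalleyStructure.CoxeterGeom
  Cfsg.Agent.ChevalleyStructure.CoxeterGeomTypes Cfsg.Agent.ChevalleyStructure.NPerm
open Cfsg.Agent.Tits.Roots Cfsg.Agent.Tits.Core Cfsg.Agent.Nodes.Reps Cfsg.Agent.Nodes.BNOf
  Cfsg.Agent.Nodes.RGDChev Cfsg.Agent.Nodes.Bruhat
open Cfsg.Agent.KFacts.RgdField Cfsg.Agent.KFacts.RgdChevCoord Cfsg.Agent.BpExc.TorCent Cfsg.Agent.BpExc.TorChev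
open Cfsg.Agent.BpExc.Tow Cfsg.Agent.BpExc.TowChev Cfsg.Agent.BpExc.FamExt Cfsg.Agent.BpExc.FamUntw
  Cfsg.Agent.BpExc.FamInst Cfsg.Agent.BpExc.LangFr Cfsg.Agent.BpExc.FamField Cfsg.Agent.BpExc.RowsUntw
open Cfsg.Agent.H378.TorDual Cfsg.Agent.H378.TorChar Cfsg.Agent.H378.TorFin Cfsg.Agent.H378.LatRoot
  Cfsg.Agent.H378.Regular Cfsg.Agent.H378.ExcAdj Cfsg.Agent.H378.ExcNear Cfsg.Agent.H378.RegFin
  Cfsg.Agent.H378.LatCyc Cfsg.Agent.H378.LatCodim Cfsg.Agent.H378.LatPerp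

universe u v

section Two

open Polynomial

variable {l : ℕ}

theorem two_ker {m m' : ℕ} (hm : 0 < m) (hm' : 0 < m') (hne : m ≠ m') {w : Module.End ℤ (Fin l → ℤ)}
    {y y' : Fin l → ℤ} (hy : y ≠ 0) (hy' : y' ≠ 0) (h : aeval w (cyclotomic m ℤ) y = 0)
    (h' : aeval w (cyclotomic m' ℤ) y' = 0) : m.totient + m'.totient ≤ l := by
  obtain ⟨T, hT⟩ : ∃ T, T = toQ w := ⟨_, rfl⟩
  have hyQ : vq y ≠ 0 := fun h0 => hy (vq_eq_zero.1 h0)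
  have hyQ' : vq y' ≠ 0 := fun h0 => hy' (vq_eq_zero.1 h0)
  have hQ : aeval T (cyclotomic m ℚ) (vq y) = 0 := by rw [hT]; exact aeval_vq h
  have hQ' : aeval T (cyclotomic m' ℚ) (vq y') = 0 := by rw [hT]; exact aeval_vq h'
  have hcop : IsCoprime (cyclotomic m ℚ) (cyclotomic m' ℚ) := cyclotomic.isCoprime_rat hne
  have hind : LinearIndependent ℚ (fun i : Fin m.totient ⊕ Fin m'.totient =>
      Sum.elim (fun i : Fin m.totient => (T ^ (i : ℕ)) (vq y)) (fun i : Fin m'.totient => (T ^ (i : ℕ)) (vq y')) i) := by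
    rw [Fintype.linearIndependent_iff]
    intro c hc
    rw [Fintype.sum_sum_type] at hc
    simp only [Sum.elim_inl, Sum.elim_inr] at hc
    rw [← aeval_pol, ← aeval_pol] at hc
    -- the first part is killed by both polynomials
    have h1 : aeval T (pol fun i => c (Sum.inl i)) (vq y) = 0 := by
      refine eq_zero_of_coprime (T := T) hcop ?_ ?_
      · rw [← Module.End.mul_apply, ← map_mul, mul_comm, map_mul, Module.End.mul_apply, hQ, map_zero]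
      · have h2 := congrArg (aeval T (cyclotomic m' ℚ)) hc
        rw [map_add, map_zero] at h2
        have h3 : aeval T (cyclotomic m' ℚ) (aeval T (pol fun i => c (Sum.inr i)) (vq y')) = 0 := by
          rw [← Module.End.mul_apply, ← map_mul, mul_comm, map_mul, Module.End.mul_apply, hQ', map_zero]
        rwa [h3, add_zero] at h2
    rw [h1, zero_add] at hc
    have hP : pol (fun i => c (Sum.inl i)) = 0 := by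
      by_contra hP
      exact hyQ (eq_zero_of_coprime (coprime_of_degree hm hP (pol_degree _)) hQ h1)
    have hR : pol (fun i => c (Sum.inr i)) = 0 := by
      by_contra hR
      exact hyQ' (eq_zero_of_coprime (coprime_of_degree hm' hR (pol_degree _)) hQ' hc)
    rintro (i | i)
    · exact congrFun (eq_zero_of_pol hP) i
    · exact congrFun (eq_zero_of_pol hR) i
  have h2 := hind.fintype_card_le_finrank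
  rwa [Fintype.card_sum, Fintype.card_fin, Fintype.card_fin, Module.finrank_fin_fun] at h2

end Two

variable {D : ChevalleyDatum} {l : ℕ} {M : CoxeterMatrix (Fin l)} (hp : IsType D l M)
  {W : Type*} [Group W] [Finite W] (cs : CoxeterSystem M W)

/-- a nonzero vector of the kernel of `Φ_m(w)` from an eigencharacter -/
theorem ker_of_eig {k : Type u} [Field k] {q ℓ m : ℕ} (hℓ : ℓ.Prime) (hℓW : ¬ ℓ ∣ Nat.card W) (hod : od q ℓ = m)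
    (hm : 0 < m) {w : W} {χ : Ch l k} (h : IsEig cs hp.isCartan q ℓ w χ) :
    ∃ y : Fin l → ℤ, y ≠ 0 ∧ Polynomial.aeval (rep cs hp.isCartan w) (Polynomial.cyclotomic m ℤ) y = 0 := by
  have hℓm : ¬ ℓ ∣ m := by
    intro h1
    have h2 := mod_of_od hℓ hod hm
    have h3 := hℓ.two_le
    have h4 := Nat.le_of_dvd (by omega) h2
    have h5 := Nat.le_of_dvd hm h1
    omega
  obtain ⟨Q, -, x, hx, hx1⟩ := exists_ker hm (w := rep cs hp.isCartan w) (N := Nat.card W) Nat.card_pos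
    (by rw [← map_pow, pow_card_eq_one', map_one]) hℓ hℓW hℓm (cyclotomic_dvd hℓ hod hm) h.1 h.2.1 h.2.2
  refine ⟨_, ?_, hx⟩
  intro h0
  rw [h0, ofAdd_zero, map_one] at hx1
  exact hx1 rfl

/-- an eigencharacter from an element of the cokernel -/
theorem eig_of_order {F : Type u} [Field F] [Finite F] {w : W} {s : ℕ} (hs : s.Prime)
    {y : Multiplicative (Co (rep cs hp.isCartan w - ((Nat.card F : ℕ) : ℤ) •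
        (1 : Module.End ℤ (Fin l → ℤ))))} (hy : orderOf y = s) :
    ∃ (k : Type u) (_ : Field k) (χ : Ch l k), IsEig cs hp.isCartan (Nat.card F) s w χ := by
  obtain ⟨k, _, _, f, r, _, _, n, hk, hka, hn0, hn⟩ := exists_closure F
  have hdet := det_rep_ne_zero (k := k) cs r hn0 hp.isCartan w
  rw [← hn] at hdet
  obtain ⟨e3⟩ := kerOf_equiv k hdet
  refine ⟨k, inferInstance, (e3.symm y).1, (e3.symm y).2, ?_, ?_⟩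
  · intro h1
    have h2 : e3.symm y = 1 := Subtype.ext h1
    have h3 : orderOf (e3.symm y) = s := by rw [MulEquiv.orderOf_eq, hy]
    rw [h2, orderOf_one] at h3
    exact hs.one_lt.ne h3
  · have h3 : orderOf (e3.symm y) = s := by rw [MulEquiv.orderOf_eq, hy]
    have h4 : (e3.symm y) ^ s = 1 := by rw [← h3]; exact pow_orderOf_eq_one _
    exact congrArg Subtype.val h4

/-- **Primes dividing the order of the centraliser of a regular element.** -/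
theorem od_of_cent {F : Type u} [Field F] [Finite F] {ℓ m : ℕ} (hℓ : ℓ.Prime) (hℓW : ¬ ℓ ∣ Nat.card W)
    (hod : od (Nat.card F) ℓ = m) (hm : 0 < m) {w : W}
    (hE : ∃ (k : Type u) (_ : Field k) (χ : Ch l k), IsEig cs hp.isCartan (Nat.card F) ℓ w χ)
    {G : Type*} [Group G] {φ : G →* Multiplicative (Co (rep cs hp.isCartan w - ((Nat.card F : ℕ) : ℤ) •
        (1 : Module.End ℤ (Fin l → ℤ))))} (hφ : Function.Injective φ) {y : G} {s m' : ℕ} (hs : s.Prime)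
    (hy : orderOf y = s) (hsW : ¬ s ∣ Nat.card W) (hod' : od (Nat.card F) s = m') (hm' : 0 < m') :
    m' = m ∨ m.totient + m'.totient ≤ l := by
  by_cases hne : m = m'
  · exact Or.inl hne.symm
  right
  obtain ⟨k, _, χ, hχ⟩ := hE
  obtain ⟨k', _, χ', hχ'⟩ := eig_of_order hp cs hs (F := F) (w := w) (y := φ y) (by rw [orderOf_injective φ hφ, hy])
  obtain ⟨u, hu, hu'⟩ := ker_of_eig hp cs hℓ hℓW hod hm hχ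
  obtain ⟨v, hv, hv'⟩ := ker_of_eig hp cs hs hsW hod' hm' hχ'
  exact two_ker hm hm' hne hu hv hu' hv'

/-! ### E7 -/

private noncomputable def _root_.Cfsg.Agent.LsF.f13b6bb_0 : {f // @Cfsg.Lie.ChevalleyDatum.cartan = f} := ⟨_, by first | (delta Cfsg.Lie.ChevalleyDatum.cartan; rewrite [Cfsg.Agent.LsF.agetD_eq]; exact rfl) | exact rfl⟩
theorem card_zero_E7 : ∀ i : Fin 7, (Finset.univ.filter fun r : Fin chevE7.nroots => chevE7.cartan i r = 0).card = 60 := by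
  (refine of_decide_eq_true ?_; (try (rewrite [Cfsg.Agent.LsF.f13b6bb_0.2, Cfsg.Agent.LsF.finFintype_eq, Cfsg.Agent.LsF.fcard_eq, Cfsg.Agent.LsF.ffilter_eq, Cfsg.Agent.LsF.instDecEq_eq, Cfsg.Agent.LsF.instIDecEq_eq, Cfsg.Agent.LsF.dForallFin_eq, Cfsg.Agent.LsF.decide_eq])); decide +kernel)

theorem card_perp_E7 {W : Type*} [Group W] (cs : CoxeterSystem CoxeterMatrix.E₇ W) (i : Fin 7) :
    Nat.card {b : Fin 7 → ℤ // IsRoot cs e7T.isCartan b ∧ pairing (cartanOf chevE7 7) i b = 0} = 60 := by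
  have e : {r : Fin chevE7.nroots // chevE7.cartan i r = 0} ≃
      {b : Fin 7 → ℤ // IsRoot cs e7T.isCartan b ∧ pairing (cartanOf chevE7 7) i b = 0} := by
    refine Equiv.ofBijective (fun r => ⟨vec chevE7 7 r.1, isRoot_vec e7T cs r.1.2, by
      rw [pairing_vec e7T i r.1.2]; exact r.2⟩) ⟨?_, ?_⟩
    · intro r s hrs
      have h1 : vec chevE7 7 r.1 = vec chevE7 7 s.1 := congrArg Subtype.val hrs
      exact Subtype.ext (Fin.ext (vec_inj e7T r.1.2 s.1.2 h1))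
    · rintro ⟨b, hb, h0⟩
      obtain ⟨r, hr, rfl⟩ := (isRoot_iff e7T cs b).1 hb
      rw [pairing_vec e7T i hr] at h0
      exact ⟨⟨⟨r, hr⟩, h0⟩, rfl⟩
  rw [← Nat.card_congr e, Nat.card_eq_fintype_card, Fintype.card_subtype, card_zero_E7]

/-- **E7(q)**: `q` of order `m ∈ {7, 9, 14, 18}` modulo `ℓ`. -/
theorem cent_E7 {F : Type u} [Field F] [Finite F] {x : ↥(chevE7.group F)} {ℓ m : ℕ} (hℓ : ℓ.Prime)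
    (hx : orderOf x = ℓ) (h : od (Nat.card F) ℓ = m) (hm : m = 7 ∨ m = 9 ∨ m = 14 ∨ m = 18)
    {W : Type*} [Group W] [Finite W] (cs : CoxeterSystem CoxeterMatrix.E₇ W) :
    ∃ w : W, (∃ (k : Type u) (_ : Field k) (χ : Ch 7 k), IsEig cs e7T.isCartan (Nat.card F) ℓ w χ) ∧
      ∃ φ : ↥(Subgroup.centralizer {x}) →* Multiplicative (Co (rep cs e7T.isCartan w - ((Nat.card F : ℕ) : ℤ) •
        (1 : Module.End ℤ (Fin 7 → ℤ)))), Function.Injective φ := by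
  have : Fintype W := Fintype.ofFinite W
  have hm0 : 0 < m := by omega
  have hm1 := mod_of_od hℓ h hm0
  have h2 := hℓ.two_le
  have h3 := Nat.le_of_dvd (by omega) hm1
  have hℓ8 : 8 < ℓ := by
    rcases hm with rfl | rfl | rfl | rfl
    · by_contra hcon
      have : ℓ = 8 := by omega
      rw [this] at hℓ
      exact absurd hℓ (by norm_num)
    all_goals omega
  have hℓW : ¬ ℓ ∣ Nat.card W := fun h1 => by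
    have := le_of_dvd_card cs e7T.isCartan hℓ h1; omega
  refine cent_reg e7T cs inv_E7 two_ne_zero hℓ (not_dvd_q hℓ h hm0) hx hℓW fun k _ w χ hE a ha => ?_
  refine ne_one_of_codim (cs := cs) (h := e7T.isCartan) hm0 ?_ ?_ hℓ hℓW
    (fun h1 => by have := Nat.le_of_dvd hm0 h1; omega)
    (cyclotomic_dvd hℓ h hm0) hE.1 hE.2.1 hE.2.2 (fun i => ?_) ha
  · rcases hm with rfl | rfl | rfl | rfl <;> decide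
  · rcases hm with rfl | rfl | rfl | rfl <;> decide
  · rw [card_perp_E7]
    rcases hm with rfl | rfl | rfl | rfl <;> omega

/-- **E7(q)** -/
theorem ac1'_E7 (F : Type u) [Field F] [Finite F] : H564.NearTwo.AC1' ↥(chevE7.group F) := by
  let cs : CoxeterSystem CoxeterMatrix.E₇ CoxeterMatrix.E₇.Group := CoxeterMatrix.E₇.toCoxeterSystem
  have := finite_W e7T cs
  intro x hx h2 hn
  have h9 : od (Nat.card F) (orderOf x) = 7 ∨ od (Nat.card F) (orderOf x) = 9 ∨ od (Nat.card F) (orderOf x) = 12 ∨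
      od (Nat.card F) (orderOf x) = 14 ∨ od (Nat.card F) (orderOf x) = 18 := by
    rcases adj_E7 F hx (_root_.orderOf_dvd_natCard x) with h | h | h
    · exact absurd h h2
    · exact absurd h hn
    · exact h
  by_cases h9' : od (Nat.card F) (orderOf x) = 7 ∨ od (Nat.card F) (orderOf x) = 9
  · left
    obtain ⟨w, -, φ, hφ⟩ := cent_E7 hx rfl rfl (by (clear * - h9'; tauto)) cs
    exact comm_of_hom hφ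
  · right
    rintro r (rfl | hr)
    · exact (near_E7 F hx (_root_.orderOf_dvd_natCard x)).resolve_right fun h => h9' h.2
    · obtain ⟨hrp, hsp, hne, y, x', hy, hx', hc⟩ := hr
      have hrd : r ∣ Nat.card ↥(chevE7.group F) := hy ▸ _root_.orderOf_dvd_natCard y
      rcases near_E7 F hrp hrd with h | ⟨-, h⟩
      · exact h
      · exfalso
        obtain ⟨w, hE, φ, hφ⟩ := cent_E7 hrp hy rfl (by (clear * - h; tauto)) cs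
        have hx'c : x' ∈ Subgroup.centralizer {y} := Subgroup.mem_centralizer_singleton_iff.2 hc.symm
        have hW : ∀ {s m : ℕ}, s.Prime → od (Nat.card F) s = m → 7 ≤ m → ¬ s ∣ Nat.card CoxeterMatrix.E₇.Group := by
          intro s m hs hm h7 h1
          have h3 := le_of_dvd_card cs e7T.isCartan hs h1
          have h4 := mod_of_od hs hm (by omega)
          have h5 := hs.two_le
          have h6 := Nat.le_of_dvd (by omega) h4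
          have h8 : s = 8 := by omega
          rw [h8] at hs
          exact absurd hs (by norm_num)
        have key := od_of_cent e7T cs hrp (hW hrp rfl (by omega)) rfl (by omega) hE hφ (y := ⟨x', hx'c⟩) hsp
          (by rw [Subgroup.orderOf_mk, hx']) (hW hsp rfl (by omega)) rfl (by omega)
        have t7 : Nat.totient 7 = 6 := by decide
        have t9 : Nat.totient 9 = 6 := by decide
        have t12 : Nat.totient 12 = 4 := by decide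
        have t14 : Nat.totient 14 = 6 := by decide
        have t18 : Nat.totient 18 = 6 := by decide
        have h10 : od (Nat.card F) (orderOf x) = 12 ∨ od (Nat.card F) (orderOf x) = 14 ∨
            od (Nat.card F) (orderOf x) = 18 := by (clear * - h9 h9'; tauto)
        rcases h with h | h <;> rcases h10 with h10 | h10 | h10 <;> rw [h, h10] at key <;> omega

theorem good2_E7 (F : Type u) [Field F] [Finite F] : H564.NearTwo.Good2 ↥(chevE7.group F) :=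
  H564.NearTwo.good2_of_ac1' (ac1'_E7 F)

/-- `AC` of helper94 -/
theorem ac_E7 (F : Type u) [Field F] [Finite F] : H94.PG.AC ↥(chevE7.group F) := (good2_E7 F).ac

end Cfsg.Agent.H378.RegE7
end
end
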