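import Cfsg.Agent.H378.RegE7
import Cfsg.Agent.H238.PairW
import Cfsg.Agent.H77.E4Poly_m3
import Cfsg.Agent.FastGrp
import Cfsg.Agent.Prune
set_option linter.all false
prune_inst 0x7f00000000000000000000000000000000000000000000000000000000000000000000000000000000000000000000000000000000000000000000000000000000000000000000000000000000000000003fffffffffffffffffffffffffffbeffbdffffffff
open scoped Cfsg.Agent.FastGrp

/-!
# Semisimple elements of prime order, arbitrary Frobenius automorphism (helper378)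

`Y = D.group k`, `σ` with `IsFrob p e σ`, `Fr … σ g`, `q = p ^ e`, `x ∈ Y^σ` of prime order `ℓ ≠ p`, `ℓ ∤ |W|`.

* `pair_core` : a lattice automorphism `g'` permuting the roots and a character `χ` of order `ℓ` with `χ (g' x) = χ x ^ q`:
  if `χ a = 1` for a root `a` then an element of order `p` centralises `x` in `Y^σ`; otherwise the centraliser of `x` in
  `Y^σ` embeds in the group of the characters with `χ' (g' x) = χ' x ^ q`;
* `adj_or_comm` : `G0` with `{y ^ d | σ y = y} ≤ G0 ≤ Y^σ`: either an element of order `p` commutes with `x`, or the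
  centraliser of `x` in `G0` is abelian;
* `cent_phi` : if `ℓ ∣ Φ_m(q)`, `φ(m) = l`: the centraliser of `x` is abelian of order dividing `Φ_m(q)`.
-/

set_option autoImplicit false
set_option linter.unusedSectionVars false

namespace Cfsg.Agent.H378.RegTw

open CoxeterSystem Subgroup Cfsg Cfsg.Lie Cfsg.Lie.ChevalleyDatum
open Cfsg.Agent.ChevalleyStructure Cfsg.Agent.ChevalleyStructure.Elts Cfsg.Agent.ChevalleyStructure.CoxeterGeom
  Cfsg.Agent.ChevalleyStructure.CoxeterGeomTypes Cfsg.Agent.ChevalleyStructure.NPerm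
open Cfsg.Agent.Tits.Roots Cfsg.Agent.Tits.Core Cfsg.Agent.Nodes.Reps Cfsg.Agent.Nodes.BNOf
  Cfsg.Agent.Nodes.RGDChev Cfsg.Agent.Nodes.Bruhat
open Cfsg.Agent.KFacts.RgdField Cfsg.Agent.KFacts.RgdChevCoord Cfsg.Agent.BpExc Cfsg.Agent.BpExc.TorCent
  Cfsg.Agent.BpExc.TorChev Cfsg.Agent.BpExc.Tow Cfsg.Agent.BpExc.TowChev Cfsg.Agent.BpExc.Fr Cfsg.Agent.BpExc.Pair
  Cfsg.Agent.BpExc.LangFr
open Cfsg.Agent.H129.TorusChar
open Cfsg.Agent.H378.TorDual Cfsg.Agent.H378.TorChar Cfsg.Agent.H378.TorFin Cfsg.Agent.H378.LatRoot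
  Cfsg.Agent.H378.LatCyc Cfsg.Agent.H378.Regular

universe u v

section Lat

variable {l : ℕ}

/-- the endomorphism of an automorphism -/
def endo (g : (Fin l → ℤ) ≃+ (Fin l → ℤ)) : Module.End ℤ (Fin l → ℤ) := g.toAddMonoidHom.toIntLinearMap

theorem endo_apply (g : (Fin l → ℤ) ≃+ (Fin l → ℤ)) (x : Fin l → ℤ) : endo g x = g x := rfl

theorem endo_mul_symm (g : (Fin l → ℤ) ≃+ (Fin l → ℤ)) : endo g * endo g.symm = 1 :=
  LinearMap.ext fun x => g.apply_symm_apply x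

theorem endo_pow (g : (Fin l → ℤ) ≃+ (Fin l → ℤ)) (n : ℕ) (x : Fin l → ℤ) : (endo g ^ n) x = g^[n] x := by
  induction n generalizing x with
  | zero => rfl
  | succ n ih =>
    rw [pow_succ, Module.End.mul_apply, ih, endo_apply]
    rfl

/-- `χ (g x) = χ x ^ q`, `χ ≠ 1`, `χ ^ ℓ = 1` -/
def EigG (k : Type u) [Field k] (q ℓ : ℕ) (g : (Fin l → ℤ) ≃+ (Fin l → ℤ)) (χ : Ch l k) : Prop :=
  χ ∈ KerOf k (endo g - (q : ℤ) • (1 : Module.End ℤ (Fin l → ℤ))) ∧ χ ≠ 1 ∧ χ ^ ℓ = 1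

theorem mem_kerOf_iff {k : Type u} [Field k] {q : ℕ} {g : (Fin l → ℤ) ≃+ (Fin l → ℤ)} {χ : Ch l k} :
    χ ∈ KerOf k (endo g - (q : ℤ) • (1 : Module.End ℤ (Fin l → ℤ))) ↔
      ∀ x, χ (Multiplicative.ofAdd (g x)) = χ (Multiplicative.ofAdd x) ^ q := by
  rw [mem_kerOf]
  refine forall_congr' fun x => ?_
  have e : (endo g - (q : ℤ) • (1 : Module.End ℤ (Fin l → ℤ))) x = g x + -((q : ℤ) • x) := by
    rw [← sub_eq_add_neg]
    rfl
  rw [e, ofAdd_add, map_mul, ofAdd_neg, map_inv, ofAdd_zsmul, map_zpow, zpow_natCast, mul_inv_eq_one]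

/-- an endomorphism of finite order: the primes `> l + 1` do not divide the order -/
theorem order_coprime {w : Module.End ℤ (Fin l → ℤ)} {N : ℕ} (hN : 0 < N) (hw : w ^ N = 1) {ℓ : ℕ} (hℓ : ℓ.Prime)
    (hl : l + 1 < ℓ) : ∃ n, 0 < n ∧ w ^ n = 1 ∧ ¬ ℓ ∣ n := by
  have h0 : 0 < orderOf w := orderOf_pos_iff.2 (isOfFinOrder_iff_pow_eq_one.2 ⟨N, hN, hw⟩)
  refine ⟨orderOf w, h0, pow_orderOf_eq_one w, ?_⟩
  rintro ⟨n, hn⟩
  have hn0 : 0 < n := Nat.pos_of_ne_zero fun h => by rw [h, mul_zero] at hn; omega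
  have h1 : (w ^ n) ^ ℓ = 1 := by rw [← pow_mul, mul_comm, ← hn, pow_orderOf_eq_one]
  have h2 : w ^ n ≠ 1 := fun h => by
    have h3 := Nat.le_of_dvd hn0 (orderOf_dvd_of_pow_eq_one h)
    rw [hn] at h3
    have := hℓ.two_le
    nlinarith
  have := LatCodim.prime_le hℓ h1 h2
  omega

section Root

variable {M : CoxeterMatrix (Fin l)} {A : Fin l → Fin l → ℤ} {h : IsCartan M A} {W : Type*} [Group W]
  {cs : CoxeterSystem M W}

theorem iter_root {g : (Fin l → ℤ) ≃+ (Fin l → ℤ)} (hg : ∀ a, IsRoot cs h (g a) ↔ IsRoot cs h a) (n : ℕ)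
    {a : Fin l → ℤ} (ha : IsRoot cs h a) : IsRoot cs h (g^[n] a) := by
  induction n with
  | zero => exact ha
  | succ n ih => rw [Function.iterate_succ_apply']; exact (hg _).2 ih

/-- finite order -/
theorem exists_pow_one [Finite W] {g : (Fin l → ℤ) ≃+ (Fin l → ℤ)} (hg : ∀ a, IsRoot cs h (g a) ↔ IsRoot cs h a) :
    ∃ N, 0 < N ∧ endo g ^ N = 1 := by
  have hfin : Finite {a // IsRoot cs h a} := by
    have h1 : Function.Surjective (fun wi : W × Fin l => (⟨rep cs h wi.1 (sr wi.2), wi.1, wi.2, rfl⟩ :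
        {a // IsRoot cs h a})) := by
      rintro ⟨a, w, i, rfl⟩
      exact ⟨(w, i), rfl⟩
    exact Finite.of_surjective _ h1
  let P : Equiv.Perm {a // IsRoot cs h a} :=
    { toFun := fun a => ⟨g a.1, (hg _).2 a.2⟩
      invFun := fun a => ⟨g.symm a.1, by rw [← hg, g.apply_symm_apply]; exact a.2⟩
      left_inv := fun a => Subtype.ext (g.symm_apply_apply _)
      right_inv := fun a => Subtype.ext (g.apply_symm_apply _) }
  have hP : ∀ (n : ℕ) (a : {a // IsRoot cs h a}), ((P ^ n) a).1 = g^[n] a.1 := by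
    intro n
    induction n with
    | zero => intro a; rfl
    | succ n ih =>
      intro a
      rw [pow_succ, Equiv.Perm.mul_apply, ih]
      rfl
  refine ⟨orderOf P, orderOf_pos P, LinearMap.ext fun x => ?_⟩
  have h1 : ∀ i, (endo g ^ orderOf P) (sr i) = sr i := by
    intro i
    have h2 : IsRoot cs h (sr i) := isRoot_sr cs h i
    have h3 := hP (orderOf P) ⟨sr i, h2⟩
    rw [pow_orderOf_eq_one] at h3
    rw [endo_pow]
    exact h3.symm
  rw [sum_sr x, map_sum, map_sum]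
  refine Finset.sum_congr rfl fun i _ => ?_
  rw [map_smul, h1]
  rfl

/-- **No root is trivial.** -/
theorem ne_one_of_root' [Finite W] {g : (Fin l → ℤ) ≃+ (Fin l → ℤ)} (hg : ∀ a, IsRoot cs h (g a) ↔ IsRoot cs h a)
    {m : ℕ} (hm : 0 < m) (hl : m.totient = l)
    (hw : Polynomial.aeval (endo g) (Polynomial.cyclotomic m ℤ) = 0) {k : Type u} [Field k] {ℓ : ℕ} (hℓ : ℓ.Prime)
    (hℓW : ¬ ℓ ∣ Nat.card W) {q : ℕ} {χ : Ch l k} (hE : EigG k q ℓ g χ)
    {a : Fin l → ℤ} (ha : IsRoot cs h a) : χ (Multiplicative.ofAdd a) ≠ 1 := by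
  obtain ⟨hχ, hχ1, hχℓ⟩ := hE
  intro h1
  have ha0 : a ≠ 0 := ha.ne_zero
  have hpow : ∀ i : ℕ, χ (Multiplicative.ofAdd (g^[i] a)) = 1 := by
    intro i
    induction i with
    | zero => exact h1
    | succ i ih => rw [Function.iterate_succ_apply', mem_kerOf_iff.1 hχ, ih, one_pow]
  have havg : avg cs h χ = 0 := by
    refine eq_zero_of_cyc hm hl ha0 (by rw [hw, LinearMap.zero_apply]) (w := endo g) fun i => ?_
    rw [endo_pow]
    exact avg_root (iter_root hg i ha) (hpow i)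
  apply hχ1
  have hcop : (Nat.card ↥(stab cs h χ)).Coprime ℓ :=
    ((Nat.Prime.coprime_iff_not_dvd hℓ).2 fun h2 => hℓW (h2.trans (Subgroup.card_subgroup_dvd_card _))).symm
  refine MonoidHom.ext fun x => ?_
  have h2 := chi_avg (cs := cs) (h := h) χ (Multiplicative.toAdd x)
  rw [havg, LinearMap.zero_apply, ofAdd_zero, map_one] at h2
  have h3 : χ x ^ ℓ = 1 := by rw [← MonoidHom.pow_apply, hχℓ, MonoidHom.one_apply]
  exact pow_eq_one_of_coprime h2.symm h3 hcop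

end Root

end Lat

section Alg

variable {D : ChevalleyDatum} {l : ℕ} {M : CoxeterMatrix (Fin l)} (hp : IsType D l M) {k : Type u} [Field k]
  {W : Type*} [Group W] (cs : CoxeterSystem M W)

theorem tchar_eq_cX {t : ↥(D.group k)} (ht : t ∈ TT D k) (x : Fin l → ℤ) :
    ((tchar hp ⟨t, ht⟩ (Multiplicative.ofAdd x) : kˣ) : k) = cX hp t x := by
  have h1 : tchar hp ⟨t, ht⟩ (Multiplicative.ofAdd x) = ∏ i, (uch hp i ⟨t, ht⟩) ^ x i := rfl
  rw [h1, Units.coe_prod]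
  refine Finset.prod_congr rfl fun i _ => ?_
  rw [Units.val_zpow_eq_zpow_val]
  rfl

variable [IsAlgClosed k] (hk : LocFin k) {p e : ℕ} [Fact p.Prime] [CharP k p]

include hk in
/-- **The pair of a semisimple element of prime order.** -/
theorem pair_core [Finite W] (hka : BpExc.TorAll.HAlg p k) (he : 0 < e) {σ : MulAut ↥(D.group k)}
    {g : (Fin l → ℤ) ≃+ (Fin l → ℤ)} (hσ : IsFrob p e σ) (F : Fr cs hp.isCartan (TT D k) (XX D l k) σ g)
    {x : ↥(D.group k)} (hσx : σ x = x) {ℓ : ℕ} (hℓ : ℓ.Prime) (hℓp : ℓ ≠ p) (hx : x ^ ℓ = 1) (hx1 : x ≠ 1)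
    (hℓW : ¬ ℓ ∣ Nat.card W) :
    ∃ (g' : (Fin l → ℤ) ≃+ (Fin l → ℤ)) (χ : Ch l k), (∀ a, IsRoot cs hp.isCartan (g' a) ↔ IsRoot cs hp.isCartan a) ∧
      EigG k (p ^ e) ℓ g' χ ∧
      ((∃ a, IsRoot cs hp.isCartan a ∧ χ (Multiplicative.ofAdd a) = 1) →
        ∃ u, σ u = u ∧ u * x = x * u ∧ orderOf u = p) ∧
      ((∀ a, IsRoot cs hp.isCartan a → χ (Multiplicative.ofAdd a) ≠ 1) →
        ∃ φ : ↥(fixC σ x) →* ↥(KerOf k (endo g' - ((p ^ e : ℕ) : ℤ) • (1 : Module.End ℤ (Fin l → ℤ)))),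
          Function.Injective φ) := by
  obtain ⟨z0, hz0⟩ := TorAll.exists_toral hp p hka hℓ hℓp hx
  obtain ⟨t, c, k', g', ht, hct, hck, hF1, hF2, hF3, hF4⟩ := H238.exists_pair_conj hp cs hk he hσ F hσx
    (z := z0⁻¹) (by rwa [inv_inv])
  have htℓ : t ^ ℓ = 1 := by
    rw [← hct]
    have h1 := conj_pow (a := c⁻¹) (b := x) (i := ℓ)
    rw [inv_inv] at h1
    rw [h1, hx]; group
  have ht1 : t ≠ 1 := by
    intro h1
    apply hx1
    have : x = c * t * c⁻¹ := by rw [← hct]; group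
    rw [this, h1]; group
  have hker : ∀ {s : ↥(D.group k)} (hs : s ∈ TT D k), (MulAut.conj k' * σ) s = s →
      tchar hp ⟨s, hs⟩ ∈ KerOf k (endo g' - ((p ^ e : ℕ) : ℤ) • (1 : Module.End ℤ (Fin l → ℤ))) := by
    intro s hs hfix
    refine mem_kerOf_iff.2 fun x => Units.ext ?_
    rw [Units.val_pow_eq_pow_val, tchar_eq_cX, tchar_eq_cX]
    have h1 := cX_sigma hp cs hF1 hF2 hs x
    rwa [hfix] at h1
  refine ⟨g', tchar hp ⟨t, ht⟩, hF2.root, ⟨hker ht hF3, ?_, tchar_pow_eq_one hp ht htℓ⟩, ?_, ?_⟩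
  · intro h1
    have h2 := tchar_injective hp (h1.trans (map_one (tchar hp)).symm)
    exact ht1 (congrArg Subtype.val h2)
  · rintro ⟨a, ha, h1⟩
    have hne : (Sx cs hp.isCartan (ch hp) t).Nonempty := by
      refine ⟨a, ha, ?_⟩
      rw [← tchar_apply hp cs hk p ⟨t, ht⟩ ha, h1]
      rfl
    obtain ⟨u, hu, hu1, hup⟩ := H238.ExcCore.core_one hp cs hk he ht hF1 hF2 hF3 hF4 hne
    obtain ⟨h2, h3⟩ := mem_fixC.1 ((fixEquiv hct hck ⟨u, hu⟩).2)
    refine ⟨_, h2, h3, ?_⟩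
    show orderOf (c * u * c⁻¹) = p
    have h4 : orderOf (c * u * c⁻¹) = orderOf u :=
      orderOf_injective (MulAut.conj c).toMonoidHom (MulAut.conj c).injective u
    rw [h4]
    exact orderOf_eq_prime hup hu1
  · intro hroot
    have hroot' : ∀ a, IsRoot cs hp.isCartan a → ch hp a t ≠ 1 := by
      intro a ha h1
      refine hroot a ha (Units.ext ?_)
      rw [tchar_apply hp cs hk p ⟨t, ht⟩ ha, h1]
      rfl
    have hmem : ∀ y : ↥(fixC σ x), c⁻¹ * y.1 * c ∈ TT D k ∧ (MulAut.conj k' * σ) (c⁻¹ * y.1 * c) = c⁻¹ * y.1 * c := by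
      intro y
      obtain ⟨h1, h2⟩ := mem_fixC.1 y.2
      have h3 := mem_fixC.1 ((fixEquiv hct hck).symm y).2
      have h4 : ((fixEquiv hct hck).symm y).1 = c⁻¹ * y.1 * c := rfl
      rw [h4] at h3
      exact ⟨mem_TT_of_comm hp cs ht hℓ hℓW htℓ hroot' h3.2 hk p, h3.1⟩
    let φ : ↥(fixC σ x) →* ↥(KerOf k (endo g' - ((p ^ e : ℕ) : ℤ) • (1 : Module.End ℤ (Fin l → ℤ)))) :=
      { toFun := fun y => ⟨tchar hp ⟨c⁻¹ * y.1 * c, (hmem y).1⟩, hker _ (hmem y).2⟩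
        map_one' := Subtype.ext (by
          show tchar hp ⟨c⁻¹ * 1 * c, _⟩ = 1
          rw [← map_one (tchar hp)]
          congr 1
          exact Subtype.ext (by show c⁻¹ * 1 * c = 1; group))
        map_mul' := fun a b => Subtype.ext (by
          show tchar hp ⟨c⁻¹ * (a.1 * b.1) * c, _⟩ = tchar hp ⟨c⁻¹ * a.1 * c, _⟩ * tchar hp ⟨c⁻¹ * b.1 * c, _⟩
          rw [← map_mul]
          congr 1
          exact Subtype.ext (by
            show c⁻¹ * (a.1 * b.1) * c = (c⁻¹ * a.1 * c) * (c⁻¹ * b.1 * c)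
            group)) }
    refine ⟨φ, fun a b hab => Subtype.ext ?_⟩
    have h1 := tchar_injective hp (congrArg Subtype.val hab)
    have h2 : c⁻¹ * a.1 * c = c⁻¹ * b.1 * c := congrArg Subtype.val h1
    exact mul_left_cancel (mul_right_cancel h2)

end Alg

section Fin

variable {D : ChevalleyDatum} {l : ℕ} {M : CoxeterMatrix (Fin l)} (hp : IsType D l M) {k : Type u} [Field k]
  {W : Type*} [Group W] (cs : CoxeterSystem M W) [IsAlgClosed k] (hk : LocFin k) {p e : ℕ} [Fact p.Prime] [CharP k p]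
  {σ : MulAut ↥(D.group k)} {g : (Fin l → ℤ) ≃+ (Fin l → ℤ)}
  {G0 : Type*} [Group G0] [Finite G0] {e0 : G0 →* ↥(D.group k)}

theorem comm_kerOf {f : Module.End ℤ (Fin l → ℤ)} (a b : ↥(KerOf k f)) : a * b = b * a :=
  Subtype.ext (mul_comm a.1 b.1)

/-- the centraliser in `G0` -/
theorem exists_cent (he0 : Function.Injective e0) (hfix : ∀ a, σ (e0 a) = e0 a) {x : G0} {A : Type*} [Group A]
    {φ : ↥(fixC σ (e0 x)) →* A} (hφ : Function.Injective φ) :
    ∃ ψ : ↥(Subgroup.centralizer {x}) →* A, Function.Injective ψ := by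
  have hmem : ∀ y : ↥(Subgroup.centralizer {x}), e0 y.1 ∈ fixC σ (e0 x) := by
    intro y
    refine mem_fixC.2 ⟨hfix _, ?_⟩
    rw [← map_mul, ← map_mul, Subgroup.mem_centralizer_singleton_iff.1 y.2]
  let ψ : ↥(Subgroup.centralizer {x}) →* ↥(fixC σ (e0 x)) :=
    { toFun := fun y => ⟨e0 y.1, hmem y⟩
      map_one' := Subtype.ext (map_one e0)
      map_mul' := fun a b => Subtype.ext (map_mul e0 a.1 b.1) }
  refine ⟨φ.comp ψ, fun a b hab => ?_⟩
  have h1 := hφ hab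
  exact Subtype.ext (he0 (congrArg Subtype.val h1))

/-- descent of elements of order `p` -/
theorem exists_desc (he0 : Function.Injective e0) {d : ℕ} (hd : ∀ y, σ y = y → y ^ d ∈ e0.range) (hpd : ¬ p ∣ d)
    {x : G0} {u : ↥(D.group k)} (hu : σ u = u) (hc : u * e0 x = e0 x * u) (ho : orderOf u = p) :
    ∃ v : G0, orderOf v = p ∧ Commute v x := by
  obtain ⟨v, hv⟩ := hd u hu
  refine ⟨v, ?_, ?_⟩
  · rw [← orderOf_injective e0 he0 v, hv, Nat.Coprime.orderOf_pow, ho]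
    rw [ho]
    exact (Nat.Prime.coprime_iff_not_dvd Fact.out).2 hpd
  · apply he0
    rw [map_mul, map_mul, hv]
    exact ((show Commute u (e0 x) from hc).pow_left d).eq

include hp cs hk in
/-- **Either an element of order `p` commutes with `x` or the centraliser of `x` is abelian.** -/
theorem adj_or_comm [Finite W] (hka : BpExc.TorAll.HAlg p k) (he : 0 < e) (hσ : IsFrob p e σ)
    (F : Fr cs hp.isCartan (TT D k) (XX D l k) σ g) (he0 : Function.Injective e0) (hfix : ∀ a, σ (e0 a) = e0 a) {d : ℕ}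
    (hd : ∀ y, σ y = y → y ^ d ∈ e0.range) (hpd : ¬ p ∣ d) {x : G0} {ℓ : ℕ} (hℓ : ℓ.Prime) (hℓp : ℓ ≠ p)
    (hx : orderOf x = ℓ) (hℓW : ¬ ℓ ∣ Nat.card W) :
    (∃ v : G0, orderOf v = p ∧ Commute v x) ∨ ∀ a b : G0, Commute a x → Commute b x → Commute a b := by
  have hxℓ : x ^ ℓ = 1 := by rw [← hx]; exact pow_orderOf_eq_one x
  have hx1 : x ≠ 1 := by
    rintro rfl
    rw [orderOf_one] at hx
    exact hℓ.one_lt.ne hx
  obtain ⟨g', χ, hg', hE, h1, h2⟩ := pair_core hp cs hk hka he hσ F (hfix x) hℓ hℓp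
    (by rw [← map_pow, hxℓ, map_one]) (fun h => hx1 (he0 (h.trans (map_one _).symm))) hℓW
  by_cases hr : ∃ a, IsRoot cs hp.isCartan a ∧ χ (Multiplicative.ofAdd a) = 1
  · obtain ⟨u, hu, hc, ho⟩ := h1 hr
    exact Or.inl (exists_desc he0 hd hpd hu hc ho)
  · right
    push Not at hr
    obtain ⟨φ, hφ⟩ := h2 hr
    obtain ⟨ψ, hψ⟩ := exists_cent he0 hfix hφ
    intro a b ha hb
    have ha' : a ∈ Subgroup.centralizer {x} := Subgroup.mem_centralizer_singleton_iff.2 ha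
    have hb' : b ∈ Subgroup.centralizer {x} := Subgroup.mem_centralizer_singleton_iff.2 hb
    have h3 : (⟨a, ha'⟩ : ↥(Subgroup.centralizer {x})) * ⟨b, hb'⟩ = ⟨b, hb'⟩ * ⟨a, ha'⟩ := by
      apply hψ
      rw [map_mul, map_mul, comm_kerOf]
    exact congrArg Subtype.val h3

include hp cs hk in
/-- **The case `ℓ ∣ Φ_m(q)`, `φ(m) = l`.** -/
theorem cent_phi [Finite W] (hka : BpExc.TorAll.HAlg p k) (he : 0 < e) (hσ : IsFrob p e σ)
    (F : Fr cs hp.isCartan (TT D k) (XX D l k) σ g) (he0 : Function.Injective e0) (hfix : ∀ a, σ (e0 a) = e0 a)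
    {x : G0} {ℓ : ℕ} (hℓ : ℓ.Prime) (hℓp : ℓ ≠ p) (hx : orderOf x = ℓ) (hlℓ : l + 1 < ℓ) {m : ℕ} (hm : 0 < m)
    (hl : m.totient = l) (hℓm : ¬ ℓ ∣ m) (hq : (ℓ : ℤ) ∣ (Polynomial.cyclotomic m ℤ).eval ((p ^ e : ℕ) : ℤ)) :
    (∀ a b : G0, Commute a x → Commute b x → Commute a b) ∧
      Nat.card ↥(Subgroup.centralizer {x}) ∣ ((Polynomial.cyclotomic m ℤ).eval ((p ^ e : ℕ) : ℤ)).natAbs := by
  have hℓW : ¬ ℓ ∣ Nat.card W := fun h => by
    have := LatCodim.le_of_dvd_card cs hp.isCartan hℓ h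
    omega
  have hxℓ : x ^ ℓ = 1 := by rw [← hx]; exact pow_orderOf_eq_one x
  have hx1 : x ≠ 1 := by
    rintro rfl
    rw [orderOf_one] at hx
    exact hℓ.one_lt.ne hx
  obtain ⟨g', χ, hg', hE, -, h2⟩ := pair_core hp cs hk hka he hσ F (hfix x) hℓ hℓp
    (by rw [← map_pow, hxℓ, map_one]) (fun h => hx1 (he0 (h.trans (map_one _).symm))) hℓW
  obtain ⟨N, hN, hwN⟩ := exists_pow_one (cs := cs) (h := hp.isCartan) hg'
  obtain ⟨n, hn, hwn, hℓn⟩ := order_coprime hN hwN hℓ hlℓ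
  have hcyc := aeval_eq_zero_of_char hm hl hn hwn hℓ hℓn hℓm hq hE.1 hE.2.1 hE.2.2
  obtain ⟨φ, hφ⟩ := h2 fun a ha => ne_one_of_root' hg' hm hl hcyc hℓ hℓW hE ha
  obtain ⟨ψ, hψ⟩ := exists_cent he0 hfix hφ
  refine ⟨?_, ?_⟩
  · intro a b ha hb
    have ha' : a ∈ Subgroup.centralizer {x} := Subgroup.mem_centralizer_singleton_iff.2 ha
    have hb' : b ∈ Subgroup.centralizer {x} := Subgroup.mem_centralizer_singleton_iff.2 hb
    have h3 : (⟨a, ha'⟩ : ↥(Subgroup.centralizer {x})) * ⟨b, hb'⟩ = ⟨b, hb'⟩ * ⟨a, ha'⟩ := by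
      apply hψ
      rw [map_mul, map_mul, comm_kerOf]
    exact congrArg Subtype.val h3
  · have hdet : ((LinearMap.det (endo g' - ((p ^ e : ℕ) : ℤ) • (1 : Module.End ℤ (Fin l → ℤ))) : ℤ) : k) ≠ 0 := by
      refine det_ne_zero (endo_mul_symm g') ?_
      rw [Int.cast_natCast, Nat.cast_pow, CharP.cast_eq_zero, zero_pow he.ne']
    have h1 := LatCyc.det_sub hm hl hcyc ((p ^ e : ℕ) : ℤ)
    rw [← h1, ← card_kerOf k hdet]
    exact Subgroup.card_dvd_of_injective ψ hψ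

end Fin

end Cfsg.Agent.H378.RegTw
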