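import Cfsg.Agent.H77.E4Poly_m3
import Cfsg.Agent.H493.PGCount_m3
import Cfsg.Agent.H493.PGE7_m3
import Cfsg.Agent.H493.TwE6Alg
import Cfsg.Agent.H129.WData
import Cfsg.Agent.S1066
import Cfsg.Agent.H493.EigFast
import Cfsg.Agent.H493.PGD4T
import Cfsg.Agent.H378.RegE7
import Cfsg.Agent.FastGrp
import Cfsg.Agent.Prune
set_option linter.all false

section
prune_inst 0x7f00000000000000000000000000000000000000000000000000000000000000000000000000000000000000000000000000000000000000000000000000000000000000000000000000000000000000003fffffffffffffffffffffffffffbeffbdffffffff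

-- part: H493/PGE6T
section
set_option linter.all false
open scoped Cfsg.Agent.FastGrp

/-!
# The prime graph of `²E₆(q)`

The primes `≠ 3` dividing `q Φ₁ Φ₂ Φ₃ Φ₄ Φ₆ Φ₁₀` are connected, so are those of `Φ₈`, of `Φ₁₂` and of `Φ₁₈`.
-/

set_option autoImplicit false

namespace Cfsg.Agent.H493.PGE6T

open Cfsg Cfsg.Lie Cfsg.Lie.ChevalleyDatum Cfsg.Agent.H129 Cfsg.Agent.H129.WData
open Cfsg.Agent.ChevalleyStructure Cfsg.Agent.ChevalleyStructure.CoxeterGeom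
  Cfsg.Agent.ChevalleyStructure.CoxeterGeomTypes
open Cfsg.Agent.Tits.Roots Cfsg.Agent.Nodes Cfsg.Agent.Nodes.Reps Cfsg.Agent.Nodes.RGDChev
  Cfsg.Agent.H129.TorusUntw Cfsg.Agent.H493.TwE6Alg Cfsg.Agent.BpExc.TowChev Cfsg.Agent.BpExc.Tow
open Cfsg.Agent.H493.PGTorus Cfsg.Agent.H493.PGCyc Cfsg.Agent.H493.PG

universe u

/-- the Cartan matrix -/
def Am : Mat 6 := PGE6.Am

theorem hA : ∀ i j, Am i j = cartanOf chevE6 6 i j := PGE6.hA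

/-- the closure -/
theorem setup {K : Type u} [Field K] [Fintype K] {q : ℕ} (hq : IsPrimePow q) (hK : Fintype.card K = q ^ 2) :
    ∃ (p e : ℕ) (_ : Fact p.Prime) (_ : CharP (AlgebraicClosure K) p), 0 < e ∧ q = p ^ e ∧
      LocFin (AlgebraicClosure K) := by
  obtain ⟨p, e', hpF, hpc, hpk, -, hpe, hk⟩ := exists_closure hK
  obtain ⟨p', e, hp', he, hqe'⟩ := id hq
  have hpp : p' = p := by
    have h1 : p' ∣ p ^ e' := by
      rw [← hpe, ← hqe']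
      exact dvd_pow (dvd_pow_self p' he.ne') (by norm_num)
    exact (Nat.prime_dvd_prime_iff_eq hp'.nat_prime hpF.out).1 (hp'.nat_prime.dvd_of_dvd_pow h1)
  subst hpp
  exact ⟨p', e, hpF, hpk, he, hqe'.symm, hk⟩

theorem lin {W : Type*} [Group W] (cs : CoxeterSystem CoxeterMatrix.E₆ W) {L : List (Fin 6 × Mat 6)}
    (hL : ChainOK Am L) {Th : Mat 6} (hTh : ∀ j, hd L (pi j) = Th j) (j : Fin 6) :
    rep cs RGDTwE6.hp.isCartan (cs.wordProd (L.map Prod.fst)) (dua (sr j)) = Th j := by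
  rw [dua_sr, WData.chain_rep RGDTwE6.hp cs hA hL, hTh]

section

variable {K : Type u} [Field K] [Fintype K] {q : ℕ} (hq : IsPrimePow q) (hK : Fintype.card K = q ^ 2)
  {L : List (Fin 6 × Mat 6)} (hL : ChainOK Am L) {Th : Mat 6} (hTh : ∀ j, hd L (pi j) = Th j)
  {f : ℕ} {c : Fin (f + 1) → ℤ} {V : Fin (f + 1) → Fin 6 → ℤ} {U : Fin 6 → ℤ}
  (h : EigOK (fun i j => Th j i) c V U) (hc : c 0 = 1 ∨ c 0 = -1)

include hq hK hL hTh h hc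

/-- two primes -/
theorem conn_gen {f' : ℕ} {c' : Fin (f' + 1) → ℤ} {V' : Fin (f' + 1) → Fin 6 → ℤ} {U' : Fin 6 → ℤ}
    (h' : EigOK (fun i j => Th j i) c' V' U') (hc' : c' 0 = 1 ∨ c' 0 = -1) {r s : ℕ} (hr : r.Prime) (hs : s.Prime)
    (hr3 : ¬ r ∣ Nat.gcd 3 (q + 1)) (hs3 : ¬ s ∣ Nat.gcd 3 (q + 1))
    (h1 : (r : ℤ) ∣ pv c q) (h2 : (s : ℤ) ∣ pv c' q) : Conn ↥(twistedE6 K q) r s := by
  have := PGE6.finW
  obtain ⟨p, e, hpF, hpk, he, hqe, hk⟩ := setup hq hK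
  have hqe' : (q : ℤ) = ((p ^ e : ℕ) : ℤ) := by rw [hqe]
  rw [hqe'] at h1 h2
  exact PGTwist.conn_of_eig RGDTwE6.hp CoxeterMatrix.E₆.toCoxeterSystem hk he isFrob_tau (fr_tau _)
    TorusChar.invC_E6 (by norm_num) (embT_injective (algebraMap K (AlgebraicClosure K)) q) (d := Nat.gcd 3 (q + 1))
    (fun y hy => tau_pow _ hqe hq hK hy) (lin _ hL hTh) h hc h' hc' hr hs hr3 hs3 h1 h2

/-- the characteristic -/
theorem conn_p_gen {r₀ : ℕ} (hr₀ : r₀ < 72)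
    (hfix : ∀ m, ∑ j, vec chevE6 6 r₀ j * Th j m = vec chevE6 6 r₀ m)
    (hV : ∀ i, ∑ m, vec chevE6 6 r₀ m * V i m = 0) {r s : ℕ} (hr : r.Prime) (hs : s.Prime)
    (hr3 : ¬ r ∣ Nat.gcd 3 (q + 1)) (h1 : (r : ℤ) ∣ pv c q) (h2 : s ∣ q) : Conn ↥(twistedE6 K q) r s := by
  have := PGE6.finW
  obtain ⟨p, e, hpF, hpk, he, hqe, hk⟩ := setup hq hK
  have hqe' : (q : ℤ) = ((p ^ e : ℕ) : ℤ) := by rw [hqe]
  rw [hqe'] at h1
  have hsp : s = p := (Nat.prime_dvd_prime_iff_eq hs hpF.out).1 (hs.dvd_of_dvd_pow (hqe ▸ h2))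
  subst hsp
  have hroot := (isRoot_iff RGDTwE6.hp CoxeterMatrix.E₆.toCoxeterSystem (vec chevE6 6 r₀)).2 ⟨r₀, hr₀, rfl⟩
  have hlin := lin CoxeterMatrix.E₆.toCoxeterSystem hL hTh
  have hs3 : ¬ s ∣ Nat.gcd 3 (q + 1) := by
    intro h3
    have h4 : s ∣ q + 1 := h3.trans (Nat.gcd_dvd_right _ _)
    exact hs.one_lt.ne' (Nat.dvd_one.1 ((Nat.dvd_add_right h2).1 h4))
  refine PGTwist.conn_p_of_eig RGDTwE6.hp CoxeterMatrix.E₆.toCoxeterSystem hk he isFrob_tau (fr_tau _)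
    TorusChar.invC_E6 (by norm_num) (embT_injective (algebraMap K (AlgebraicClosure K)) q) (d := Nat.gcd 3 (q + 1))
    (fun y hy => tau_pow _ hqe hq hK hy) hlin h hc hroot ?_ hV hr hr3 hs3 h1
  funext m
  rw [← hfix m]
  have h3 : vec chevE6 6 r₀ = ∑ j, vec chevE6 6 r₀ j • sr j := TorusChar.IsMC.eq_sum_sr _
  conv_lhs => rw [h3]
  rw [map_sum, map_sum, Finset.sum_apply]
  refine Finset.sum_congr rfl fun j _ => ?_
  rw [map_zsmul, map_zsmul, hlin, Pi.smul_apply, smul_eq_mul]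

end

/-- the number of the highest root -/
def r0 : ℕ := 71

/-- partial products -/
def chainA : List (Fin 6 × Mat 6) := []

theorem chainA_ok : ChainOK Am chainA := by decide +kernel

/-- the matrix of the twisted element -/
def ThA : Mat 6 := ![![0, 0, 0, 0, 0, 1], ![0, 1, 0, 0, 0, 0], ![0, 0, 0, 0, 1, 0], ![0, 0, 0, 1, 0, 0], ![0, 0, 1, 0, 0, 0],
    ![1, 0, 0, 0, 0, 0]]

theorem hThA : ∀ j, hd chainA (pi j) = ThA j := by decide +kernel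

theorem fixA : ∀ m, ∑ j, vec chevE6 6 r0 j * ThA j m = vec chevE6 6 r0 m := by decide +kernel

/-- coefficients of the functional, cyclotomic polynomial 1 -/
def VA_1 : Fin 1 → Fin 6 → ℤ := ![![1, -1, 0, 0, 0, 1]]

theorem eigA_1 : EigOK (fun i j => ThA j i) c1 VA_1 ![1, 0, 0, 0, 0, 0] :=
  H493.EigF.ok (H493.EigF.tt ThA H129.ChainF.m6) H493.EigF.r1 (H493.EigF.mc H493.EigF.r6 <| H493.EigF.m0) H493.EigF.r6 (by decide +kernel)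

theorem vanA_1 : ∀ i, ∑ m, vec chevE6 6 r0 m * VA_1 i m = 0 := by decide +kernel

/-- coefficients of the functional, cyclotomic polynomial 2 -/
def VA_2 : Fin 1 → Fin 6 → ℤ := ![![0, 0, -1, 0, 1, 0]]

theorem eigA_2 : EigOK (fun i j => ThA j i) c2 VA_2 ![0, 0, -1, 0, 0, 0] :=
  H493.EigF.ok (H493.EigF.tt ThA H129.ChainF.m6) H493.EigF.r1 (H493.EigF.mc H493.EigF.r6 <| H493.EigF.m0) H493.EigF.r6 (by decide +kernel)

theorem vanA_2 : ∀ i, ∑ m, vec chevE6 6 r0 m * VA_2 i m = 0 := by decide +kernel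

/-- partial products -/
def chainB : List (Fin 6 × Mat 6) := [
    (4, ![![-1, 0, 0, 0, 0, 0], ![0, 1, 0, 0, 0, 0], ![1, 0, 1, 0, 0, 0], ![0, 0, 0, 1, 1, 0], ![0, 0, 0, 0, -1, 0],
      ![0, 0, 0, 0, 1, 1]]),
    (0, ![![-1, 0, 0, 0, 0, 0], ![0, 1, 0, 0, 0, 0], ![1, 0, 1, 0, 0, 0], ![0, 0, 0, 1, 0, 0], ![0, 0, 0, 0, 1, 0],
      ![0, 0, 0, 0, 0, 1]])]

theorem chainB_ok : ChainOK Am chainB :=
  H129.ChainF.ok H129.ChainF.i6 H129.ChainF.m6 (H129.ChainF.c6 <| H129.ChainF.c6 <| H129.ChainF.nil) (by decide +kernel)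

/-- the matrix of the twisted element -/
def ThB : Mat 6 := ![![0, 0, 0, 0, 1, 1], ![0, 1, 0, 0, 0, 0], ![0, 0, 0, 0, -1, 0], ![0, 0, 0, 1, 1, 0], ![1, 0, 1, 0, 0, 0],
    ![-1, 0, 0, 0, 0, 0]]

theorem hThB : ∀ j, hd chainB (pi j) = ThB j := by decide +kernel

theorem fixB : ∀ m, ∑ j, vec chevE6 6 r0 j * ThB j m = vec chevE6 6 r0 m := by decide +kernel

/-- coefficients of the functional, cyclotomic polynomial 3 -/
def VB_3 : Fin 2 → Fin 6 → ℤ := ![![1, 0, -2, 1, -1, 2], ![-1, 0, -1, 0, 1, 1]]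

theorem eigB_3 : EigOK (fun i j => ThB j i) c3 VB_3 ![0, 0, 0, 1, 0, 0] :=
  H493.EigF.ok (H493.EigF.tt ThB H129.ChainF.m6) H493.EigF.r2 (H493.EigF.mc H493.EigF.r6 <| H493.EigF.mc H493.EigF.r6 <| H493.EigF.m0) H493.EigF.r6 (by decide +kernel)

theorem vanB_3 : ∀ i, ∑ m, vec chevE6 6 r0 m * VB_3 i m = 0 := by decide +kernel

/-- coefficients of the functional, cyclotomic polynomial 6 -/
def VB_6 : Fin 2 → Fin 6 → ℤ := ![![0, 0, -1, 1, 0, -1], ![1, 0, 0, -1, 1, 0]]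

theorem eigB_6 : EigOK (fun i j => ThB j i) c6 VB_6 ![0, 0, -1, 0, 0, 0] :=
  H493.EigF.ok (H493.EigF.tt ThB H129.ChainF.m6) H493.EigF.r2 (H493.EigF.mc H493.EigF.r6 <| H493.EigF.mc H493.EigF.r6 <| H493.EigF.m0) H493.EigF.r6 (by decide +kernel)

theorem vanB_6 : ∀ i, ∑ m, vec chevE6 6 r0 m * VB_6 i m = 0 := by decide +kernel

/-- partial products -/
def chainC : List (Fin 6 × Mat 6) := [
    (0, ![![-1, 0, 0, 0, 0, 0], ![0, 1, 0, 0, 0, 0], ![1, 0, 1, 0, 0, 0], ![0, 0, 0, 1, 0, 0], ![0, 0, 0, 0, 1, 0],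
      ![0, 0, 0, 0, 0, 1]])]

theorem chainC_ok : ChainOK Am chainC :=
  H129.ChainF.ok H129.ChainF.i6 H129.ChainF.m6 (H129.ChainF.c6 <| H129.ChainF.nil) (by decide +kernel)

/-- the matrix of the twisted element -/
def ThC : Mat 6 := ![![0, 0, 0, 0, 0, 1], ![0, 1, 0, 0, 0, 0], ![0, 0, 0, 0, 1, 0], ![0, 0, 0, 1, 0, 0], ![1, 0, 1, 0, 0, 0],
    ![-1, 0, 0, 0, 0, 0]]

theorem hThC : ∀ j, hd chainC (pi j) = ThC j := by decide +kernel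

theorem fixC : ∀ m, ∑ j, vec chevE6 6 r0 j * ThC j m = vec chevE6 6 r0 m := by decide +kernel

/-- coefficients of the functional, cyclotomic polynomial 4 -/
def VC_4 : Fin 2 → Fin 6 → ℤ := ![![-2, 0, 1, 0, 0, 0], ![0, 0, 0, 0, 1, -2]]

theorem eigC_4 : EigOK (fun i j => ThC j i) c4 VC_4 ![0, 0, 1, 0, 0, 0] :=
  H493.EigF.ok (H493.EigF.tt ThC H129.ChainF.m6) H493.EigF.r2 (H493.EigF.mc H493.EigF.r6 <| H493.EigF.mc H493.EigF.r6 <| H493.EigF.m0) H493.EigF.r6 (by decide +kernel)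

theorem vanC_4 : ∀ i, ∑ m, vec chevE6 6 r0 m * VC_4 i m = 0 := by decide +kernel

/-- partial products -/
def chainD : List (Fin 6 × Mat 6) := [
    (3, ![![-1, 0, 0, 0, 0, 0], ![0, 1, 0, 1, 0, 0], ![1, 0, 1, 1, 0, 0], ![0, 0, 0, 0, 1, 0], ![0, 0, 0, -1, -1, 0],
      ![0, 0, 0, 1, 1, 1]]),
    (4, ![![-1, 0, 0, 0, 0, 0], ![0, 1, 0, 0, 0, 0], ![1, 0, 1, 0, 0, 0], ![0, 0, 0, 1, 1, 0], ![0, 0, 0, 0, -1, 0],
      ![0, 0, 0, 0, 1, 1]]),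
    (0, ![![-1, 0, 0, 0, 0, 0], ![0, 1, 0, 0, 0, 0], ![1, 0, 1, 0, 0, 0], ![0, 0, 0, 1, 0, 0], ![0, 0, 0, 0, 1, 0],
      ![0, 0, 0, 0, 0, 1]])]

theorem chainD_ok : ChainOK Am chainD :=
  H129.ChainF.ok H129.ChainF.i6 H129.ChainF.m6 (H129.ChainF.c6 <| H129.ChainF.c6 <| H129.ChainF.c6 <| H129.ChainF.nil) (by decide +kernel)

/-- the matrix of the twisted element -/
def ThD : Mat 6 := ![![0, 0, 0, 1, 1, 1], ![0, 1, 0, 1, 0, 0], ![0, 0, 0, -1, -1, 0], ![0, 0, 0, 0, 1, 0], ![1, 0, 1, 1, 0, 0],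
    ![-1, 0, 0, 0, 0, 0]]

theorem hThD : ∀ j, hd chainD (pi j) = ThD j := by decide +kernel

theorem fixD : ∀ m, ∑ j, vec chevE6 6 r0 j * ThD j m = vec chevE6 6 r0 m := by decide +kernel

/-- coefficients of the functional, cyclotomic polynomial 10 -/
def VD_10 : Fin 4 → Fin 6 → ℤ := ![![1, 1, -1, 0, 0, -1], ![0, -1, -1, 1, 0, 1], ![0, 0, 0, 0, 1, -2], ![1, -1, 0, 0, 0, 1]]

theorem eigD_10 : EigOK (fun i j => ThD j i) c10 VD_10 ![1, 1, 1, 2, 0, 0] :=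
  H493.EigF.ok (H493.EigF.tt ThD H129.ChainF.m6) H493.EigF.r4 (H493.EigF.mc H493.EigF.r6 <| H493.EigF.mc H493.EigF.r6 <| H493.EigF.mc H493.EigF.r6 <| H493.EigF.mc H493.EigF.r6 <| H493.EigF.m0) H493.EigF.r6 (by decide +kernel)

theorem vanD_10 : ∀ i, ∑ m, vec chevE6 6 r0 m * VD_10 i m = 0 := by decide +kernel

/-- partial products -/
def chainE : List (Fin 6 × Mat 6) := [
    (2, ![![1, 0, 1, 0, 0, 0], ![0, 0, 1, 1, 0, 0], ![0, 1, 0, 1, 0, 0], ![0, -1, -1, -1, 0, 0], ![0, 1, 1, 1, 1, 0],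
      ![0, 0, 0, 0, 0, 1]]),
    (1, ![![1, 0, 0, 0, 0, 0], ![0, 0, 0, 1, 0, 0], ![0, 1, 1, 1, 0, 0], ![0, -1, 0, -1, 0, 0], ![0, 1, 0, 1, 1, 0],
      ![0, 0, 0, 0, 0, 1]]),
    (3, ![![1, 0, 0, 0, 0, 0], ![0, 1, 0, 1, 0, 0], ![0, 0, 1, 1, 0, 0], ![0, 0, 0, -1, 0, 0], ![0, 0, 0, 1, 1, 0],
      ![0, 0, 0, 0, 0, 1]])]

theorem chainE_ok : ChainOK Am chainE :=
  H129.ChainF.ok H129.ChainF.i6 H129.ChainF.m6 (H129.ChainF.c6 <| H129.ChainF.c6 <| H129.ChainF.c6 <| H129.ChainF.nil) (by decide +kernel)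

/-- the matrix of the twisted element -/
def ThE : Mat 6 := ![![0, 0, 0, 0, 0, 1], ![0, 0, 1, 1, 0, 0], ![0, 1, 1, 1, 1, 0], ![0, -1, -1, -1, 0, 0], ![0, 1, 0, 1, 0, 0],
    ![1, 0, 1, 0, 0, 0]]

theorem hThE : ∀ j, hd chainE (pi j) = ThE j := by decide +kernel

/-- coefficients of the functional, cyclotomic polynomial 8 -/
def VE_8 : Fin 4 → Fin 6 → ℤ := ![![-1, -1, 1, 1, -1, 0], ![0, 0, 0, -1, 2, -1], ![0, 1, -1, 1, -1, 0], ![0, -2, 0, 1, 0, 0]]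

theorem eigE_8 : EigOK (fun i j => ThE j i) c8 VE_8 ![-1, 0, 0, 0, 0, 0] :=
  H493.EigF.ok (H493.EigF.tt ThE H129.ChainF.m6) H493.EigF.r4 (H493.EigF.mc H493.EigF.r6 <| H493.EigF.mc H493.EigF.r6 <| H493.EigF.mc H493.EigF.r6 <| H493.EigF.mc H493.EigF.r6 <| H493.EigF.m0) H493.EigF.r6 (by decide +kernel)

/-- coefficients of the functional, cyclotomic polynomial 1 -/
def VE_1 : Fin 1 → Fin 6 → ℤ := ![![1, 0, 0, 0, 0, 1]]

theorem eigE_1 : EigOK (fun i j => ThE j i) c1 VE_1 ![1, 0, 0, 0, 0, 0] :=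
  H493.EigF.ok (H493.EigF.tt ThE H129.ChainF.m6) H493.EigF.r1 (H493.EigF.mc H493.EigF.r6 <| H493.EigF.m0) H493.EigF.r6 (by decide +kernel)

/-- coefficients of the functional, cyclotomic polynomial 2 -/
def VE_2 : Fin 1 → Fin 6 → ℤ := ![![-1, 0, 0, 0, 0, 1]]

theorem eigE_2 : EigOK (fun i j => ThE j i) c2 VE_2 ![-1, 0, 0, 0, 0, 0] :=
  H493.EigF.ok (H493.EigF.tt ThE H129.ChainF.m6) H493.EigF.r1 (H493.EigF.mc H493.EigF.r6 <| H493.EigF.m0) H493.EigF.r6 (by decide +kernel)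

/-- partial products -/
def chainF : List (Fin 6 × Mat 6) := [
    (2, ![![0, 1, 0, 1, 0, 0], ![1, 0, 1, 1, 0, 0], ![0, -1, -1, -1, 0, 0], ![-1, 0, 0, 0, 0, 0], ![1, 1, 1, 1, 1, 0],
      ![0, 0, 0, 0, 0, 1]]),
    (1, ![![0, 1, 1, 1, 0, 0], ![1, 0, 1, 1, 0, 0], ![0, -1, 0, -1, 0, 0], ![-1, 0, -1, 0, 0, 0], ![1, 1, 1, 1, 1, 0],
      ![0, 0, 0, 0, 0, 1]]),
    (3, ![![0, 0, 1, 1, 0, 0], ![1, 1, 1, 1, 0, 0], ![0, 0, 0, -1, 0, 0], ![-1, 0, -1, 0, 0, 0], ![1, 0, 1, 1, 1, 0],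
      ![0, 0, 0, 0, 0, 1]]),
    (0, ![![0, 0, 1, 0, 0, 0], ![1, 1, 1, 1, 0, 0], ![0, 0, 0, 1, 0, 0], ![-1, 0, -1, -1, 0, 0], ![1, 0, 1, 1, 1, 0],
      ![0, 0, 0, 0, 0, 1]]),
    (2, ![![1, 0, 1, 0, 0, 0], ![0, 1, 1, 1, 0, 0], ![0, 0, 0, 1, 0, 0], ![0, 0, -1, -1, 0, 0], ![0, 0, 1, 1, 1, 0],
      ![0, 0, 0, 0, 0, 1]]),
    (3, ![![1, 0, 0, 0, 0, 0], ![0, 1, 0, 1, 0, 0], ![0, 0, 1, 1, 0, 0], ![0, 0, 0, -1, 0, 0], ![0, 0, 0, 1, 1, 0],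
      ![0, 0, 0, 0, 0, 1]])]

theorem chainF_ok : ChainOK Am chainF :=
  H129.ChainF.ok H129.ChainF.i6 H129.ChainF.m6 (H129.ChainF.c6 <| H129.ChainF.c6 <| H129.ChainF.c6 <| H129.ChainF.c6 <| H129.ChainF.c6 <| H129.ChainF.c6 <| H129.ChainF.nil) (by decide +kernel)

/-- the matrix of the twisted element -/
def ThF : Mat 6 := ![![0, 0, 0, 0, 0, 1], ![1, 0, 1, 1, 0, 0], ![1, 1, 1, 1, 1, 0], ![-1, 0, 0, 0, 0, 0], ![0, -1, -1, -1, 0, 0],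
    ![0, 1, 0, 1, 0, 0]]

theorem hThF : ∀ j, hd chainF (pi j) = ThF j := by decide +kernel

/-- coefficients of the functional, cyclotomic polynomial 12 -/
def VF_12 : Fin 4 → Fin 6 → ℤ := ![![0, 1, 0, -1, 0, 0], ![1, 0, 0, 0, -1, 0], ![0, 0, 1, 0, -1, 1], ![0, 1, 0, 0, 0, 0]]

theorem eigF_12 : EigOK (fun i j => ThF j i) c12 VF_12 ![0, 0, 0, -1, 0, 0] :=
  H493.EigF.ok (H493.EigF.tt ThF H129.ChainF.m6) H493.EigF.r4 (H493.EigF.mc H493.EigF.r6 <| H493.EigF.mc H493.EigF.r6 <| H493.EigF.mc H493.EigF.r6 <| H493.EigF.mc H493.EigF.r6 <| H493.EigF.m0) H493.EigF.r6 (by decide +kernel)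

/-- coefficients of the functional, cyclotomic polynomial 6 -/
def VF_6 : Fin 2 → Fin 6 → ℤ := ![![-1, 0, 1, 0, 0, -1], ![1, 0, 0, -1, 1, 0]]

theorem eigF_6 : EigOK (fun i j => ThF j i) c6 VF_6 ![0, 0, 1, 0, 0, 0] :=
  H493.EigF.ok (H493.EigF.tt ThF H129.ChainF.m6) H493.EigF.r2 (H493.EigF.mc H493.EigF.r6 <| H493.EigF.mc H493.EigF.r6 <| H493.EigF.m0) H493.EigF.r6 (by decide +kernel)

/-- partial products -/
def chainG : List (Fin 6 × Mat 6) := [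
    (2, ![![1, 0, 1, 0, 0, 0], ![0, -1, -1, -1, 0, 0], ![0, 0, 0, 1, 0, 0], ![0, 1, 0, 0, 0, 0], ![0, 0, 1, 1, 1, 1],
      ![0, 0, 0, 0, 0, -1]]),
    (3, ![![1, 0, 0, 0, 0, 0], ![0, -1, 0, -1, 0, 0], ![0, 0, 1, 1, 0, 0], ![0, 1, 0, 0, 0, 0], ![0, 0, 0, 1, 1, 1],
      ![0, 0, 0, 0, 0, -1]]),
    (1, ![![1, 0, 0, 0, 0, 0], ![0, -1, 0, 0, 0, 0], ![0, 0, 1, 0, 0, 0], ![0, 1, 0, 1, 0, 0], ![0, 0, 0, 0, 1, 1],
      ![0, 0, 0, 0, 0, -1]]),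
    (5, ![![1, 0, 0, 0, 0, 0], ![0, 1, 0, 0, 0, 0], ![0, 0, 1, 0, 0, 0], ![0, 0, 0, 1, 0, 0], ![0, 0, 0, 0, 1, 1],
      ![0, 0, 0, 0, 0, -1]])]

theorem chainG_ok : ChainOK Am chainG :=
  H129.ChainF.ok H129.ChainF.i6 H129.ChainF.m6 (H129.ChainF.c6 <| H129.ChainF.c6 <| H129.ChainF.c6 <| H129.ChainF.c6 <| H129.ChainF.nil) (by decide +kernel)

/-- the matrix of the twisted element -/
def ThG : Mat 6 := ![![0, 0, 0, 0, 0, -1], ![0, -1, -1, -1, 0, 0], ![0, 0, 1, 1, 1, 1], ![0, 1, 0, 0, 0, 0], ![0, 0, 0, 1, 0, 0],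
    ![1, 0, 1, 0, 0, 0]]

theorem hThG : ∀ j, hd chainG (pi j) = ThG j := by decide +kernel

/-- coefficients of the functional, cyclotomic polynomial 18 -/
def VG_18 : Fin 6 → Fin 6 → ℤ := ![![0, 0, 0, 0, -1, 1], ![0, 0, 1, -1, 0, 0], ![-1, -1, 1, 0, 0, 0], ![-1, 0, 1, 0, 0, 0], ![0, 0, 0, 0, 0, 1],
    ![1, 0, 0, 0, 0, 0]]

theorem eigG_18 : EigOK (fun i j => ThG j i) c18 VG_18 ![0, 0, 0, 0, -1, 0] :=
  H493.EigF.ok (H493.EigF.tt ThG H129.ChainF.m6) H493.EigF.r6 (H493.EigF.mc H493.EigF.r6 <| H493.EigF.mc H493.EigF.r6 <| H493.EigF.mc H493.EigF.r6 <| H493.EigF.mc H493.EigF.r6 <| H493.EigF.mc H493.EigF.r6 <| H493.EigF.mc H493.EigF.r6 <| H493.EigF.m0) H493.EigF.r6 (by decide +kernel)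

/-- divisors of the order -/
theorem cover {q r : ℕ} (hq : 2 ≤ q) (hr : r.Prime)
    (h : r ∣ q ^ 36 * (q ^ 2 - 1) * (q ^ 5 + 1) * (q ^ 6 - 1) * (q ^ 8 - 1) * (q ^ 9 + 1) * (q ^ 12 - 1)) :
    (r ∣ q ∨ (r : ℤ) ∣ pv c1 q ∨ (r : ℤ) ∣ pv c2 q ∨ (r : ℤ) ∣ pv c3 q ∨ (r : ℤ) ∣ pv c4 q ∨ (r : ℤ) ∣ pv c6 q ∨
      (r : ℤ) ∣ pv c10 q) ∨ (r : ℤ) ∣ pv c8 q ∨ (r : ℤ) ∣ pv c12 q ∨ (r : ℤ) ∣ pv c18 q := by
  have h2 : 1 ≤ q ^ 2 := Nat.one_le_pow _ _ (by omega)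
  have h6 : 1 ≤ q ^ 6 := Nat.one_le_pow _ _ (by omega)
  have h8 : 1 ≤ q ^ 8 := Nat.one_le_pow _ _ (by omega)
  have h12 : 1 ≤ q ^ 12 := Nat.one_le_pow _ _ (by omega)
  have hr' : Prime (r : ℤ) := Nat.prime_iff_prime_int.1 hr
  have h1 := Int.natCast_dvd_natCast.2 h
  push_cast [Nat.cast_sub h2, Nat.cast_sub h6, Nat.cast_sub h8, Nat.cast_sub h12] at h1
  have e : (q : ℤ) ^ 36 * ((q : ℤ) ^ 2 - 1) * ((q : ℤ) ^ 5 + 1) * ((q : ℤ) ^ 6 - 1) * ((q : ℤ) ^ 8 - 1) *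
      ((q : ℤ) ^ 9 + 1) * ((q : ℤ) ^ 12 - 1) =
      (q : ℤ) ^ 36 * (pv c1 q * pv c2 q) * (pv c2 q * pv c10 q) * (pv c1 q * pv c2 q * pv c3 q * pv c6 q) *
        (pv c1 q * pv c2 q * pv c4 q * pv c8 q) * (pv c2 q * pv c6 q * pv c18 q) *
        (pv c1 q * pv c2 q * pv c3 q * pv c4 q * pv c6 q * pv c12 q) := by
    rw [pv_c1, pv_c2, pv_c3, pv_c4, pv_c6, pv_c8, pv_c10, pv_c12, pv_c18]; ring
  rw [e] at h1
  simp only [hr'.dvd_mul] at h1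
  by_cases h0 : (r : ℤ) ∣ (q : ℤ) ^ 36
  · exact Or.inl (Or.inl (Int.natCast_dvd_natCast.1 (hr'.dvd_of_dvd_pow h0)))
  · tauto

section

variable {K : Type u} [Field K] [Fintype K] {q : ℕ} (hq : IsPrimePow q) (hK : Fintype.card K = q ^ 2)

include hq hK

theorem natCard_ne_of {r : ℕ} (hr : r.Prime) (h3 : r ≠ 3) : ¬ r ∣ Nat.gcd 3 (q + 1) := fun h =>
  h3 ((Nat.prime_dvd_prime_iff_eq hr Nat.prime_three).1 (h.trans (Nat.gcd_dvd_left _ _)))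

/-- the main component -/
theorem conn_main {r p : ℕ} (hr : r.Prime) (hp : p.Prime) (hpq : p ∣ q) (hr3 : r ≠ 3)
    (h : r ∣ q ∨ (r : ℤ) ∣ pv c1 q ∨ (r : ℤ) ∣ pv c2 q ∨ (r : ℤ) ∣ pv c3 q ∨ (r : ℤ) ∣ pv c4 q ∨
      (r : ℤ) ∣ pv c6 q ∨ (r : ℤ) ∣ pv c10 q) : Conn ↥(twistedE6 K q) r p := by
  have h3 := natCard_ne_of hq hK hr hr3
  rcases h with h | h | h | h | h | h | h
  · obtain ⟨p', n, hp', hn, hpn⟩ := id hq
    have e1 : ∀ s : ℕ, s.Prime → s ∣ q → s = p' := fun s hs h => by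
      rw [← hpn] at h
      exact (Nat.prime_dvd_prime_iff_eq hs hp'.nat_prime).1 (hs.dvd_of_dvd_pow h)
    rw [e1 r hr h, e1 p hp hpq]
    exact Conn.refl _
  · exact conn_p_gen hq hK chainA_ok hThA eigA_1 (by decide) (by decide) fixA vanA_1 hr hp h3 h hpq
  · exact conn_p_gen hq hK chainA_ok hThA eigA_2 (by decide) (by decide) fixA vanA_2 hr hp h3 h hpq
  · exact conn_p_gen hq hK chainB_ok hThB eigB_3 (by decide) (by decide) fixB vanB_3 hr hp h3 h hpq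
  · exact conn_p_gen hq hK chainC_ok hThC eigC_4 (by decide) (by decide) fixC vanC_4 hr hp h3 h hpq
  · exact conn_p_gen hq hK chainB_ok hThB eigB_6 (by decide) (by decide) fixB vanB_6 hr hp h3 h hpq
  · exact conn_p_gen hq hK chainD_ok hThD eigD_10 (by decide) (by decide) fixD vanD_10 hr hp h3 h hpq

theorem conn8 {r s : ℕ} (hr : r.Prime) (hs : s.Prime) (hr3 : r ≠ 3) (hs3 : s ≠ 3) (h1 : (r : ℤ) ∣ pv c8 q)
    (h2 : (s : ℤ) ∣ pv c8 q) : Conn ↥(twistedE6 K q) r s :=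
  conn_gen hq hK chainE_ok hThE eigE_8 (by decide) eigE_8 (by decide) hr hs (natCard_ne_of hq hK hr hr3)
    (natCard_ne_of hq hK hs hs3) h1 h2

theorem conn8_1 {r s : ℕ} (hr : r.Prime) (hs : s.Prime) (hr3 : r ≠ 3) (hs3 : s ≠ 3) (h1 : (r : ℤ) ∣ pv c8 q)
    (h2 : (s : ℤ) ∣ pv c1 q) : Conn ↥(twistedE6 K q) r s :=
  conn_gen hq hK chainE_ok hThE eigE_8 (by decide) eigE_1 (by decide) hr hs (natCard_ne_of hq hK hr hr3)
    (natCard_ne_of hq hK hs hs3) h1 h2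

theorem conn8_2 {r s : ℕ} (hr : r.Prime) (hs : s.Prime) (hr3 : r ≠ 3) (hs3 : s ≠ 3) (h1 : (r : ℤ) ∣ pv c8 q)
    (h2 : (s : ℤ) ∣ pv c2 q) : Conn ↥(twistedE6 K q) r s :=
  conn_gen hq hK chainE_ok hThE eigE_8 (by decide) eigE_2 (by decide) hr hs (natCard_ne_of hq hK hr hr3)
    (natCard_ne_of hq hK hs hs3) h1 h2

theorem conn12 {r s : ℕ} (hr : r.Prime) (hs : s.Prime) (hr3 : r ≠ 3) (hs3 : s ≠ 3) (h1 : (r : ℤ) ∣ pv c12 q)
    (h2 : (s : ℤ) ∣ pv c12 q) : Conn ↥(twistedE6 K q) r s :=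
  conn_gen hq hK chainF_ok hThF eigF_12 (by decide) eigF_12 (by decide) hr hs (natCard_ne_of hq hK hr hr3)
    (natCard_ne_of hq hK hs hs3) h1 h2

theorem conn12_6 {r s : ℕ} (hr : r.Prime) (hs : s.Prime) (hr3 : r ≠ 3) (hs3 : s ≠ 3) (h1 : (r : ℤ) ∣ pv c12 q)
    (h2 : (s : ℤ) ∣ pv c6 q) : Conn ↥(twistedE6 K q) r s :=
  conn_gen hq hK chainF_ok hThF eigF_12 (by decide) eigF_6 (by decide) hr hs (natCard_ne_of hq hK hr hr3)
    (natCard_ne_of hq hK hs hs3) h1 h2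

theorem conn18 {r s : ℕ} (hr : r.Prime) (hs : s.Prime) (hr3 : r ≠ 3) (hs3 : s ≠ 3) (h1 : (r : ℤ) ∣ pv c18 q)
    (h2 : (s : ℤ) ∣ pv c18 q) : Conn ↥(twistedE6 K q) r s :=
  conn_gen hq hK chainG_ok hThG eigG_18 (by decide) eigG_18 (by decide) hr hs (natCard_ne_of hq hK hr hr3)
    (natCard_ne_of hq hK hs hs3) h1 h2

/-- at most five classes -/
theorem few_tw : Few 6 ↥(twistedE6 K q) := by
  obtain ⟨p, n, hp, hn, hpn⟩ := id hq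
  have hp := hp.nat_prime
  have hpq : p ∣ q := hpn ▸ dvd_pow_self p hn.ne'
  let C : Fin 5 → ℕ → Prop := ![fun r => r = 3, fun r => r ≠ 3 ∧ (r ∣ q ∨ (r : ℤ) ∣ pv c1 q ∨ (r : ℤ) ∣ pv c2 q ∨
    (r : ℤ) ∣ pv c3 q ∨ (r : ℤ) ∣ pv c4 q ∨ (r : ℤ) ∣ pv c6 q ∨ (r : ℤ) ∣ pv c10 q),
    fun r => r ≠ 3 ∧ (r : ℤ) ∣ pv c8 q, fun r => r ≠ 3 ∧ (r : ℤ) ∣ pv c12 q, fun r => r ≠ 3 ∧ (r : ℤ) ∣ pv c18 q]
  refine few_of_cover (k := 5) (by norm_num) C ?_ ?_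
  · intro r hr hrG
    by_cases h3 : r = 3
    · exact ⟨0, h3⟩
    have h1 : r ∣ q ^ 36 * (q ^ 2 - 1) * (q ^ 5 + 1) * (q ^ 6 - 1) * (q ^ 8 - 1) * (q ^ 9 + 1) * (q ^ 12 - 1) := by
      rw [← Cfsg.Agent.S1066.result hq hK]
      exact hrG.mul_left _
    rcases cover hq.two_le hr h1 with h | h | h | h
    · exact ⟨1, h3, h⟩
    · exact ⟨2, h3, h⟩
    · exact ⟨3, h3, h⟩
    · exact ⟨4, h3, h⟩
  · intro i r s hr hs _ _ h1 h2
    fin_cases i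
    · have h1 : r = 3 := h1
      have h2 : s = 3 := h2
      rw [h1, h2]
      exact Conn.refl _
    · exact (conn_main hq hK hr hp hpq h1.1 h1.2).trans (conn_main hq hK hs hp hpq h2.1 h2.2).symm
    · exact conn8 hq hK hr hs h1.1 h2.1 h1.2 h2.2
    · exact conn12 hq hK hr hs h1.1 h2.1 h1.2 h2.2
    · exact conn18 hq hK hr hs h1.1 h2.1 h1.2 h2.2

end

/-- **The prime graph of `²E₆(q)` has at most five components.** -/
theorem few_iso2E6 {G : Type*} [Group G] (hG : Iso2E6 G) : Few 6 G := by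
  obtain ⟨K, _, _, q, hq, hK, ⟨e⟩⟩ := hG
  exact Few.congr e.symm (few_tw hq hK)

end Cfsg.Agent.H493.PGE6T
end

-- part: H378/TwAdj
section
set_option linter.all false
open scoped Cfsg.Agent.FastGrp

/-!
# Direct adjacency in the prime graphs of `³D₄(q)` and `²E₆(q)` (helper378)

The tables are those of helper493 (`PGD4T`, `PGE6T`); here the statements give the commuting elements.

* `pair_of_eig`, `pair_p_of_eig` : any twisted group;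
* `pairD_gen`, `pairD_p`, `pairE_gen`, `pairE_p` : the instances.
-/

set_option autoImplicit false
set_option linter.unusedSectionVars false

namespace Cfsg.Agent.H378.TwAdj

open CoxeterSystem Cfsg Cfsg.Lie Cfsg.Lie.ChevalleyDatum
open Cfsg.Agent.ChevalleyStructure Cfsg.Agent.ChevalleyStructure.Elts Cfsg.Agent.ChevalleyStructure.CoxeterGeom
  Cfsg.Agent.ChevalleyStructure.CoxeterGeomTypes Cfsg.Agent.ChevalleyStructure.NPerm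
open Cfsg.Agent.Tits.Roots Cfsg.Agent.Tits.Core Cfsg.Agent.Nodes Cfsg.Agent.Nodes.Reps Cfsg.Agent.Nodes.BNOf
  Cfsg.Agent.Nodes.RGDChev Cfsg.Agent.Nodes.Bruhat Cfsg.Agent.Nodes.SubComb Cfsg.Agent.Nodes.Coroot
open Cfsg.Agent.KFacts.RgdField Cfsg.Agent.KFacts.RgdChevCoord Cfsg.Agent.BpExc.TorCent Cfsg.Agent.BpExc.TorChev
open Cfsg.Agent.GpExc.Field Cfsg.Agent.BpExc.Tow Cfsg.Agent.BpExc.TowChev Cfsg.Agent.BpExc.Fr
  Cfsg.Agent.BpExc.LangFr Cfsg.Agent.LangThm Cfsg.Agent.BpExc Cfsg.Agent.H129.TorusChar Cfsg.Agent.H129.TorusCent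
  Cfsg.Agent.H129.TorusTw Cfsg.Agent.H129.TorusMain Cfsg.Agent.H493.PGTorus Cfsg.Agent.H493.PGTwist

universe u

/-- commuting elements of orders `r`, `s` -/
def Pr (G : Type*) [Group G] (r s : ℕ) : Prop := ∃ x y : G, orderOf x = r ∧ orderOf y = s ∧ Commute x y

theorem Pr.adj {G : Type*} [Group G] {r s : ℕ} (h : Pr G r s) (hr : r.Prime) (hs : s.Prime) (hne : r ≠ s) :
    H94.PG.Adj G r s := ⟨hr, hs, hne, h⟩

theorem Pr.symm {G : Type*} [Group G] {r s : ℕ} (h : Pr G r s) : Pr G s r := by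
  obtain ⟨x, y, hx, hy, hc⟩ := h
  exact ⟨y, x, hy, hx, hc.symm⟩

theorem pair_desc {G0 Y : Type*} [Group G0] [Group Y] {e0 : G0 →* Y} (he0 : Function.Injective e0) {σ : MulAut Y}
    {d : ℕ} (hd : ∀ y, σ y = y → y ^ d ∈ e0.range) {y y' : Y} (hy : σ y = y) (hy' : σ y' = y')
    (hc : y * y' = y' * y) {r s : ℕ} (hr : r.Prime) (hs : s.Prime) (hyr : orderOf y = r) (hys : orderOf y' = s)
    (hrd : ¬ r ∣ d) (hsd : ¬ s ∣ d) : Pr G0 r s := by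
  obtain ⟨x, hx⟩ := hd y hy
  obtain ⟨x', hx'⟩ := hd y' hy'
  have key : ∀ {y : Y} {x : G0} {r : ℕ}, r.Prime → orderOf y = r → ¬ r ∣ d → e0 x = y ^ d → orderOf x = r := by
    intro y x r hr hyr hrd hx
    rw [← orderOf_injective e0 he0 x, hx, Nat.Coprime.orderOf_pow, hyr]
    rw [hyr]
    exact (Nat.Prime.coprime_iff_not_dvd hr).2 hrd
  refine ⟨x, x', key hr hyr hrd hx, key hs hys hsd hx', ?_⟩
  apply he0
  rw [map_mul, map_mul, hx, hx']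
  exact ((show Commute y y' from hc).pow_pow d d).eq

section Main

variable {D : ChevalleyDatum} {l : ℕ} {M : CoxeterMatrix (Fin l)} (hp : IsType D l M) {k : Type u} [Field k]
  [IsAlgClosed k] {W : Type*} [Group W] [Finite W] (cs : CoxeterSystem M W) {p e : ℕ} [Fact p.Prime] [CharP k p]
  {σ : MulAut ↥(D.group k)} {g : (Fin l → ℤ) ≃+ (Fin l → ℤ)}
  {G0 : Type*} [Group G0] {e0 : G0 →* ↥(D.group k)}

theorem not_dvd_one {r : ℕ} (hr : r.Prime) : ¬ (r : ℤ) ∣ 1 := by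
  intro h7
  have h8 := Int.natCast_dvd_natCast.mp (by simpa using h7 : (r : ℤ) ∣ ((1 : ℕ) : ℤ))
  exact hr.one_lt.ne' (Nat.dvd_one.mp h8)

/-- **Two primes dividing values of two characteristic polynomials.** -/
theorem pair_of_eig (hk : LocFin k) (he : 0 < e) (hσ : IsFrob p e σ)
    (F : Fr cs hp.isCartan (TT D k) (XX D l k) σ g) {d' : ℕ} {B' : Fin l → Fin l → ℤ} (hB : InvC D l d' B')
    (hd' : d' ≠ 0) (he0 : Function.Injective e0) {d : ℕ} (hd : ∀ y, σ y = y → y ^ d ∈ e0.range)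
    {w : W} {Th : Fin l → Fin l → ℤ} (hw : ∀ j, rep cs hp.isCartan w (g (sr j)) = Th j)
    {f : ℕ} {c : Fin (f + 1) → ℤ} {V : Fin (f + 1) → Fin l → ℤ} {U : Fin l → ℤ}
    (h : EigOK (fun i j => Th j i) c V U) (hc : c 0 = 1 ∨ c 0 = -1)
    {f' : ℕ} {c' : Fin (f' + 1) → ℤ} {V' : Fin (f' + 1) → Fin l → ℤ} {U' : Fin l → ℤ}
    (h' : EigOK (fun i j => Th j i) c' V' U') (hc' : c' 0 = 1 ∨ c' 0 = -1)
    {r s : ℕ} (hr : r.Prime) (hs : s.Prime) (hrd : ¬ r ∣ d) (hsd : ¬ s ∣ d)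
    (h1 : (r : ℤ) ∣ pv c ((p ^ e : ℕ) : ℤ)) (h2 : (s : ℤ) ∣ pv c' ((p ^ e : ℕ) : ℤ)) : Pr G0 r s := by
  obtain ⟨n, z, hz, hσ', F'⟩ := exists_z hp cs hk he hσ F w
  obtain ⟨t, ht, h3, h4, -⟩ := exists_t hp cs hσ' F' hB hd' hr (ne_char hc Fact.out he h1) (hL_of_eig hp cs hw h h1)
    (x₀ := U) (by rw [lam_unit h]; exact not_dvd_one hr)
  obtain ⟨t', ht', h3', h4', -⟩ := exists_t hp cs hσ' F' hB hd' hs (ne_char hc' Fact.out he h2)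
    (hL_of_eig hp cs hw h' h2) (x₀ := U') (by rw [lam_unit h']; exact not_dvd_one hs)
  have hcomm : t * t' = t' * t := TT_comm hp t ht t' ht'
  have ho : ∀ y : ↥(D.group k), orderOf (z * y * z⁻¹) = orderOf y := fun y =>
    orderOf_injective (MulAut.conj z).toMonoidHom (MulAut.conj z).injective y
  refine pair_desc he0 hd (fix_conj hz h3) (fix_conj hz h3') ?_ hr hs ((ho t).trans h4) ((ho t').trans h4') hrd hsd
  calc z * t * z⁻¹ * (z * t' * z⁻¹) = z * (t * t') * z⁻¹ := by group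
    _ = z * (t' * t) * z⁻¹ := by rw [hcomm]
    _ = _ := by group

/-- **Adjacency to the characteristic.** -/
theorem pair_p_of_eig (hk : LocFin k) (he : 0 < e) (hσ : IsFrob p e σ)
    (F : Fr cs hp.isCartan (TT D k) (XX D l k) σ g) {d' : ℕ} {B' : Fin l → Fin l → ℤ} (hB : InvC D l d' B')
    (hd' : d' ≠ 0) (he0 : Function.Injective e0) {d : ℕ} (hd : ∀ y, σ y = y → y ^ d ∈ e0.range)
    {w : W} {Th : Fin l → Fin l → ℤ} (hw : ∀ j, rep cs hp.isCartan w (g (sr j)) = Th j)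
    {f : ℕ} {c : Fin (f + 1) → ℤ} {V : Fin (f + 1) → Fin l → ℤ} {U : Fin l → ℤ}
    (h : EigOK (fun i j => Th j i) c V U) (hc : c 0 = 1 ∨ c 0 = -1) {a : Fin l → ℤ} (ha : IsRoot cs hp.isCartan a)
    (hwa : rep cs hp.isCartan w (g a) = a) (hVa : ∀ i, ∑ m, a m * V i m = 0)
    {r : ℕ} (hr : r.Prime) (hrd : ¬ r ∣ d) (hpd : ¬ p ∣ d)
    (h1 : (r : ℤ) ∣ pv c ((p ^ e : ℕ) : ℤ)) : Pr G0 r p := by
  obtain ⟨n, z, hz, hσ', F'⟩ := exists_z hp cs hk he hσ F w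
  obtain ⟨t, ht, h3, h4, h5⟩ := exists_t hp cs hσ' F' hB hd' hr (ne_char hc Fact.out he h1) (hL_of_eig hp cs hw h h1)
    (x₀ := U) (by rw [lam_unit h]; exact not_dvd_one hr)
  obtain ⟨x, hx1, hx2, hx3⟩ := exists_x hp cs hk he hσ' F' ha hwa
  have hcomm : t * x = x * t := hx3 t ht (h5 a (by rw [lam_zero hVa]; exact dvd_zero _))
  have ho : ∀ y : ↥(D.group k), orderOf (z * y * z⁻¹) = orderOf y := fun y =>
    orderOf_injective (MulAut.conj z).toMonoidHom (MulAut.conj z).injective y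
  refine pair_desc he0 hd (fix_conj hz h3) (fix_conj hz hx1) ?_ hr Fact.out ((ho t).trans h4) ((ho x).trans hx2) hrd hpd
  calc z * t * z⁻¹ * (z * x * z⁻¹) = z * (t * x) * z⁻¹ := by group
    _ = z * (x * t) * z⁻¹ := by rw [hcomm]
    _ = _ := by group

end Main

/-! ### `³D₄(q)` -/

section D

open Cfsg.Agent.H129 Cfsg.Agent.H129.WData Cfsg.Agent.H129.TriD4 Cfsg.Agent.H493.PGD4T

variable {K : Type u} [Field K] [Fintype K] {q : ℕ} (hq : IsPrimePow q) (hK : Fintype.card K = q ^ 3)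
  {L : List (Fin 4 × Mat 4)} (hL : ChainOK H493.PGD4T.Am L) {Th : Mat 4} (hTh : ∀ j, hd L (H493.PGD4T.pi j) = Th j)
  {f : ℕ} {c : Fin (f + 1) → ℤ} {V : Fin (f + 1) → Fin 4 → ℤ} {U : Fin 4 → ℤ}
  (h : EigOK (fun i j => Th j i) c V U) (hc : c 0 = 1 ∨ c 0 = -1)

include hq hK hL hTh h hc

/-- two primes -/
theorem pairD_gen {f' : ℕ} {c' : Fin (f' + 1) → ℤ} {V' : Fin (f' + 1) → Fin 4 → ℤ} {U' : Fin 4 → ℤ}
    (h' : EigOK (fun i j => Th j i) c' V' U') (hc' : c' 0 = 1 ∨ c' 0 = -1) {r s : ℕ} (hr : r.Prime) (hs : s.Prime)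
    (h1 : (r : ℤ) ∣ pv c q) (h2 : (s : ℤ) ∣ pv c' q) : Pr ↥(twistedD4 K q) r s := by
  have := H493.PGD4T.finW
  obtain ⟨p, e, hpF, hpk, he, hqe, hk⟩ := H493.PGD4T.setup hq hK
  have hqe' : (q : ℤ) = ((p ^ e : ℕ) : ℤ) := by rw [hqe]
  rw [hqe'] at h1 h2
  exact pair_of_eig RGDTwD4.hp coxeterD4.toCoxeterSystem hk he isFrob_tau (fr_tau _) TorusChar.invC_D4
    (by norm_num) (embT_injective (algebraMap K (AlgebraicClosure K)) hq hK) (d := 1)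
    (fun y hy => by rw [pow_one]; exact tau_range _ hqe hq hK hy) (H493.PGD4T.lin _ hL hTh) h hc h' hc' hr hs
    (fun h => hr.one_lt.ne' (Nat.dvd_one.1 h)) (fun h => hs.one_lt.ne' (Nat.dvd_one.1 h)) h1 h2

/-- the characteristic -/
theorem pairD_p {r₀ : ℕ} (hr₀ : r₀ < 24)
    (hfix : ∀ m, ∑ j, vec chevD4 4 r₀ j * Th j m = vec chevD4 4 r₀ m)
    (hV : ∀ i, ∑ m, vec chevD4 4 r₀ m * V i m = 0) {r s : ℕ} (hr : r.Prime) (hs : s.Prime)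
    (h1 : (r : ℤ) ∣ pv c q) (h2 : s ∣ q) : Pr ↥(twistedD4 K q) r s := by
  have := H493.PGD4T.finW
  obtain ⟨p, e, hpF, hpk, he, hqe, hk⟩ := H493.PGD4T.setup hq hK
  have hqe' : (q : ℤ) = ((p ^ e : ℕ) : ℤ) := by rw [hqe]
  rw [hqe'] at h1
  have hsp : s = p := (Nat.prime_dvd_prime_iff_eq hs hpF.out).1 (hs.dvd_of_dvd_pow (hqe ▸ h2))
  subst hsp
  have hroot := (isRoot_iff RGDTwD4.hp coxeterD4.toCoxeterSystem (vec chevD4 4 r₀)).2 ⟨r₀, hr₀, rfl⟩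
  have hlin := H493.PGD4T.lin coxeterD4.toCoxeterSystem hL hTh
  refine pair_p_of_eig RGDTwD4.hp coxeterD4.toCoxeterSystem hk he isFrob_tau (fr_tau _) TorusChar.invC_D4
    (by norm_num) (embT_injective (algebraMap K (AlgebraicClosure K)) hq hK) (d := 1)
    (fun y hy => by rw [pow_one]; exact tau_range _ hqe hq hK hy) hlin h hc hroot ?_ hV hr
    (fun h => hr.one_lt.ne' (Nat.dvd_one.1 h)) (fun h => hpF.out.one_lt.ne' (Nat.dvd_one.1 h)) h1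
  funext m
  rw [← hfix m]
  have h3 : vec chevD4 4 r₀ = ∑ j, vec chevD4 4 r₀ j • sr j := TorusChar.IsMC.eq_sum_sr _
  conv_lhs => rw [h3]
  rw [map_sum, map_sum, Finset.sum_apply]
  refine Finset.sum_congr rfl fun j _ => ?_
  rw [map_zsmul, map_zsmul, hlin, Pi.smul_apply, smul_eq_mul]

end D

/-! ### `²E₆(q)` -/

section E

open Cfsg.Agent.H129 Cfsg.Agent.H129.WData Cfsg.Agent.H493.TwE6Alg Cfsg.Agent.H493.PGE6T

variable {K : Type u} [Field K] [Fintype K] {q : ℕ} (hq : IsPrimePow q) (hK : Fintype.card K = q ^ 2)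
  {L : List (Fin 6 × Mat 6)} (hL : ChainOK H493.PGE6T.Am L) {Th : Mat 6}
  (hTh : ∀ j, hd L (H493.TwE6Alg.pi j) = Th j)
  {f : ℕ} {c : Fin (f + 1) → ℤ} {V : Fin (f + 1) → Fin 6 → ℤ} {U : Fin 6 → ℤ}
  (h : EigOK (fun i j => Th j i) c V U) (hc : c 0 = 1 ∨ c 0 = -1)

include hq hK hL hTh h hc

/-- two primes -/
theorem pairE_gen {f' : ℕ} {c' : Fin (f' + 1) → ℤ} {V' : Fin (f' + 1) → Fin 6 → ℤ} {U' : Fin 6 → ℤ}
    (h' : EigOK (fun i j => Th j i) c' V' U') (hc' : c' 0 = 1 ∨ c' 0 = -1) {r s : ℕ} (hr : r.Prime) (hs : s.Prime)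
    (hr3 : ¬ r ∣ Nat.gcd 3 (q + 1)) (hs3 : ¬ s ∣ Nat.gcd 3 (q + 1))
    (h1 : (r : ℤ) ∣ pv c q) (h2 : (s : ℤ) ∣ pv c' q) : Pr ↥(twistedE6 K q) r s := by
  have := H493.PGE6.finW
  obtain ⟨p, e, hpF, hpk, he, hqe, hk⟩ := H493.PGE6T.setup hq hK
  have hqe' : (q : ℤ) = ((p ^ e : ℕ) : ℤ) := by rw [hqe]
  rw [hqe'] at h1 h2
  exact pair_of_eig RGDTwE6.hp CoxeterMatrix.E₆.toCoxeterSystem hk he isFrob_tau (fr_tau _)
    TorusChar.invC_E6 (by norm_num) (embT_injective (algebraMap K (AlgebraicClosure K)) q) (d := Nat.gcd 3 (q + 1))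
    (fun y hy => tau_pow _ hqe hq hK hy) (H493.PGE6T.lin _ hL hTh) h hc h' hc' hr hs hr3 hs3 h1 h2

/-- the characteristic -/
theorem pairE_p {r₀ : ℕ} (hr₀ : r₀ < 72)
    (hfix : ∀ m, ∑ j, vec chevE6 6 r₀ j * Th j m = vec chevE6 6 r₀ m)
    (hV : ∀ i, ∑ m, vec chevE6 6 r₀ m * V i m = 0) {r s : ℕ} (hr : r.Prime) (hs : s.Prime)
    (hr3 : ¬ r ∣ Nat.gcd 3 (q + 1)) (h1 : (r : ℤ) ∣ pv c q) (h2 : s ∣ q) : Pr ↥(twistedE6 K q) r s := by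
  have := H493.PGE6.finW
  obtain ⟨p, e, hpF, hpk, he, hqe, hk⟩ := H493.PGE6T.setup hq hK
  have hqe' : (q : ℤ) = ((p ^ e : ℕ) : ℤ) := by rw [hqe]
  rw [hqe'] at h1
  have hsp : s = p := (Nat.prime_dvd_prime_iff_eq hs hpF.out).1 (hs.dvd_of_dvd_pow (hqe ▸ h2))
  subst hsp
  have hroot := (isRoot_iff RGDTwE6.hp CoxeterMatrix.E₆.toCoxeterSystem (vec chevE6 6 r₀)).2 ⟨r₀, hr₀, rfl⟩
  have hlin := H493.PGE6T.lin CoxeterMatrix.E₆.toCoxeterSystem hL hTh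
  have hs3 : ¬ s ∣ Nat.gcd 3 (q + 1) := by
    intro h3
    have h4 : s ∣ q + 1 := h3.trans (Nat.gcd_dvd_right _ _)
    exact hs.one_lt.ne' (Nat.dvd_one.1 ((Nat.dvd_add_right h2).1 h4))
  refine pair_p_of_eig RGDTwE6.hp CoxeterMatrix.E₆.toCoxeterSystem hk he isFrob_tau (fr_tau _)
    TorusChar.invC_E6 (by norm_num) (embT_injective (algebraMap K (AlgebraicClosure K)) q) (d := Nat.gcd 3 (q + 1))
    (fun y hy => tau_pow _ hqe hq hK hy) hlin h hc hroot ?_ hV hr hr3 hs3 h1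
  funext m
  rw [← hfix m]
  have h3 : vec chevE6 6 r₀ = ∑ j, vec chevE6 6 r₀ j • sr j := TorusChar.IsMC.eq_sum_sr _
  conv_lhs => rw [h3]
  rw [map_sum, map_sum, Finset.sum_apply]
  refine Finset.sum_congr rfl fun j _ => ?_
  rw [map_zsmul, map_zsmul, hlin, Pi.smul_apply, smul_eq_mul]

end E

end Cfsg.Agent.H378.TwAdj
end
end
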