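import Cfsg.Agent.H378.Eng.E6Dat
import Cfsg.Agent.H129.TwE6Idx
import Cfsg.Agent.H130.WeylTab
import Cfsg.Agent.H378.Eng.E6PL
import Cfsg.Agent.Prune
set_option linter.all false
prune_inst 0x7f00000000000000000000000000000000000000000000000000000000000000000000000000000000000000000000000000000000000000000000000000000000000000000000000000000000000000003fffffffffdfffffffffffffffffbeffbdffffffff
open scoped Cfsg.Agent.FastGrp

-- part: H306/E6N/TwOrd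
section
/-!
# The orders of the elements of `²E₆(q)` by packed certificates (helper306, for helper378)

`order_tw3` : `Tabs3`, read at `-q`, bounds the orders of the elements of `twistedE6 K q`.
-/

set_option autoImplicit false
set_option linter.unusedSectionVars false

namespace Cfsg.Agent.H306.E6N

open CoxeterSystem Cfsg Cfsg.Lie Cfsg.Lie.ChevalleyDatum
open Cfsg.Agent.ChevalleyStructure Cfsg.Agent.ChevalleyStructure.Elts Cfsg.Agent.ChevalleyStructure.CoxeterGeom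
  Cfsg.Agent.ChevalleyStructure.CoxeterGeomTypes Cfsg.Agent.ChevalleyStructure.NPerm
open Cfsg.Agent.Tits.Roots Cfsg.Agent.Tits.Core Cfsg.Agent.Nodes Cfsg.Agent.Nodes.Reps Cfsg.Agent.Nodes.BNOf
  Cfsg.Agent.Nodes.RGDChev Cfsg.Agent.Nodes.Bruhat
open Cfsg.Agent.KFacts.RgdField Cfsg.Agent.KFacts.RgdChevCoord
open Cfsg.Agent.BpExc Cfsg.Agent.BpExc.TorCent Cfsg.Agent.BpExc.TorChev Cfsg.Agent.BpExc.Tow
  Cfsg.Agent.BpExc.TowChev Cfsg.Agent.BpExc.Fr Cfsg.Agent.BpExc.NInst Cfsg.Agent.BpExc.LangFr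
open Cfsg.Agent.H378 Cfsg.Agent.H378.Eng Cfsg.Agent.H130.WeylCk Cfsg.Agent.H130.WeylTab
open Cfsg.Agent.H129.TwE6Fr (tau isFrob_tau fr_tau embT embT_injective tau_embT flip6 flip6_apply)

universe u v

/-- `-w₀` on the simple roots -/
theorem neg_E6 : ∀ i : Fin 6, acn alE6 ([0, 3, 5, 1, 2, 4] : List (Fin 6)) 6 (bas 6 i) =
    ([[0, 0, 0, 0, 0, -1], [0, -1, 0, 0, 0, 0], [0, 0, 0, 0, -1, 0], [0, 0, 0, -1, 0, 0], [0, 0, -1, 0, 0, 0],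
      [-1, 0, 0, 0, 0, 0]] : List (List ℤ)).getD i [] := by
  decide +kernel

/-- the graph automorphism is `-w₀` -/
theorem flip_eq {W : Type v} [Group W] (cs : CoxeterSystem CoxeterMatrix.E₆ W) :
    ∃ w₀ : W, ∀ x, flip6 x = (-1 : ℤ) • rep cs RGDTwE6.hp.isCartan w₀ x := by
  obtain ⟨w0, hw0⟩ : ∃ w0, w0 = cs.wordProd ([0, 3, 5, 1, 2, 4] : List (Fin 6)) ^ 6 := ⟨_, rfl⟩
  have h2 : rep cs RGDTwE6.hp.isCartan w0 = -(flip6.toAddMonoidHom.toIntLinearMap) := by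
    apply LinearMap.pi_ext'
    intro i
    apply LinearMap.ext_ring
    show rep cs RGDTwE6.hp.isCartan w0 (Pi.single i 1) = -flip6 (Pi.single i 1)
    rw [hw0]
    have h4 := toFn_acn cs RGDTwE6.hp.isCartan lists_E6 ([0, 3, 5, 1, 2, 4] : List (Fin 6)) 6 (bas 6 i)
      (length_bas i.1)
    rw [toFn_bas] at h4
    rw [map_pow, ← h4, neg_E6]
    have h3 : ∀ i : Fin 6, toFn 6 (([[0, 0, 0, 0, 0, -1], [0, -1, 0, 0, 0, 0], [0, 0, 0, 0, -1, 0],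
        [0, 0, 0, -1, 0, 0], [0, 0, -1, 0, 0, 0], [-1, 0, 0, 0, 0, 0]] : List (List ℤ)).getD i []) =
        -![(Pi.single i 1 : Fin 6 → ℤ) 5, (Pi.single i 1 : Fin 6 → ℤ) 1, (Pi.single i 1 : Fin 6 → ℤ) 4,
          (Pi.single i 1 : Fin 6 → ℤ) 3, (Pi.single i 1 : Fin 6 → ℤ) 2, (Pi.single i 1 : Fin 6 → ℤ) 0] := by
      decide +kernel
    exact h3 i
  refine ⟨w0, fun x => ?_⟩
  rw [h2]
  show flip6 x = (-1 : ℤ) • -flip6 x
  rw [neg_smul, one_smul, neg_neg]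

/-- **The order of an element of `²E₆(q)`**: the tables of `E₆(q)` at `-q`. -/
theorem order_tw3 {T : Dat} {C : Ch2} {E : Cr2} {A : List ℕ} (H : Tabs3 chevE6 6 T C E A)
    {K : Type u} [Field K] [Fintype K] {p q : ℕ} [Fact p.Prime] [CharP K p] (hq : IsPrimePow q)
    (hK : Fintype.card K = q ^ 2) (a : ↥(twistedE6 K q)) :
    ∃ b m : ℕ, orderOf a = p ^ b * m ∧ ¬ p ∣ m ∧ Dv 6 E A m (-q) 0 ∧
      ∀ n : ℕ, b ≠ 0 → n + 1 ≤ p ^ (b - 1) → ∃ st ∈ C.lev.getD n [], Dv 6 E A m (-q) st.2 := by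
  have hpp : p.Prime := Fact.out
  obtain ⟨k, _, _, f, r, _, hC, e', hk, hka, -, hqe'⟩ := TorFin.exists_closure K
  have hrp : r = p := by
    have h1 : CharP k p := charP_of_injective_ringHom f.injective p
    exact CharP.eq k hC h1
  subst hrp
  -- `q` is a power of `p`
  obtain ⟨e, he⟩ : ∃ e : ℕ, q = r ^ e := by
    have h1 : q ∣ r ^ e' := by
      rw [← hqe', Nat.card_eq_fintype_card, hK]
      exact dvd_pow_self q (by norm_num)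
    obtain ⟨e, -, he⟩ := (Nat.dvd_prime_pow hpp).1 h1
    exact ⟨e, he⟩
  let cs : CoxeterSystem CoxeterMatrix.E₆ CoxeterMatrix.E₆.Group := CoxeterMatrix.E₆.toCoxeterSystem
  have hW : Finite CoxeterMatrix.E₆.Group := Cfsg.Agent.Nodes.RGDChev.finite_W RGDTwE6.hp cs
  obtain ⟨w₀, hw₀⟩ := flip_eq cs
  have ho : orderOf (embT (k := k) f hq hK a) = orderOf a := orderOf_injective _ (embT_injective f hq hK) a
  have hfa : Finite ↥(twistedE6 K q) := Subtype.finite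
  obtain ⟨b, m, h1, h2, h3⟩ := exists_order3 RGDTwE6.hp cs H (ε := -1) rfl (a := embT (k := k) f hq hK a) hka hk
    (isFrob_tau (k := k) (p := r) (e := e)) (fr_tau (p := r) (e := e) cs) (w₀ := w₀) hw₀ (tau_embT f he hq hK a)
    (by rw [ho]; exact (orderOf_pos a).ne')
  rw [ho] at h1
  rw [← he, neg_one_mul] at h3
  exact ⟨b, m, h1, h2, h3⟩

end Cfsg.Agent.H306.E6N
end

-- part: H378/OmTE6
section
/-!
# The element orders of `²E₆(q)` (helper378)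

* `Om` : the conditions; `coreN` : the conclusion of the certificates.
-/

set_option autoImplicit false
set_option linter.unusedSectionVars false
set_option linter.style.longLine false
set_option linter.unusedSimpArgs false

namespace Cfsg.Agent.H378.OmTE6

open CoxeterSystem Cfsg Cfsg.Lie Cfsg.Lie.ChevalleyDatum
open Cfsg.Agent.H378.Eng Cfsg.Agent.H378.E6PL

/-- **The upper bound for the element orders of `²E₆(q)`**: `n = p ^ b * m`, `p ∤ m`; `m` divides the exponent of a maximal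
torus; `m` is restricted if `b ≠ 0`, depending on `p ^ (b - 1)`. -/
structure Om (p q n b m : ℕ) : Prop where
  eq : n = p ^ b * m
  nd : ¬ p ∣ m
  s0 : m ∣ (q ^ 4 + 1) * (q ^ 2 - 1) ∨ m ∣ (q ^ 5 + 1) * (q - 1) ∨ m ∣ (q ^ 4 - 1) * (q ^ 2 + q + 1) ∨ m ∣ q ^ 6 - 1 ∨ m ∣ (q ^ 4 - q ^ 2 + 1) * (q ^ 2 - q + 1) ∨ m ∣ q ^ 6 - q ^ 3 + 1
  s1 : b ≠ 0 → m ∣ (q ^ 3 + 1) * (q - 1) ∨ m ∣ q ^ 4 - 1 ∨ m ∣ q ^ 5 + 1 ∨ m ∣ (q ^ 3 - 1) * (q ^ 2 - q + 1) ∨ m ∣ (q ^ 3 - 1) * (q + 1)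
  s2 : b ≠ 0 → 2 ≤ p ^ (b - 1) → m ∣ (q ^ 3 + 1) * (q - 1) ∨ m ∣ q ^ 4 - 1 ∨ m ∣ q ^ 4 + q ^ 2 + 1
  s3 : b ≠ 0 → 3 ≤ p ^ (b - 1) → m ∣ q ^ 2 - 1 ∨ m ∣ q ^ 2 - q + 1 ∨ m ∣ (q ^ 2 + 1) * (q + 1)
  s4 : b ≠ 0 → 4 ≤ p ^ (b - 1) → m ∣ q ^ 2 - 1 ∨ m ∣ q ^ 2 - q + 1
  s6 : b ≠ 0 → 6 ≤ p ^ (b - 1) → m ∣ q + 1
  s8 : b ≠ 0 → 8 ≤ p ^ (b - 1) → m = 1
  le : b ≠ 0 → p ^ (b - 1) ≤ 11

section Num

variable {m q : ℕ}

theorem tA1 (hq : 2 ≤ q) (h : (m : ℤ) ∣ (-1) + 1 * (q : ℤ) ^ 2 + (-1) * (q : ℤ) ^ 4 + 1 * (q : ℤ) ^ 6) : m ∣ (q ^ 4 + 1) * (q ^ 2 - 1) := by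
  have h1 : q ≤ q ^ 2 := Nat.le_self_pow (by norm_num) q
  have h2 : 1 ≤ q ^ 2 := Nat.one_le_pow _ _ (by omega)
  have h3 : 1 ≤ q ^ 3 := Nat.one_le_pow _ _ (by omega)
  have h4 : 1 ≤ q ^ 4 := Nat.one_le_pow _ _ (by omega)
  have h5 : 1 ≤ q ^ 5 := Nat.one_le_pow _ _ (by omega)
  have h6 : 1 ≤ q ^ 6 := Nat.one_le_pow _ _ (by omega)
  have h7 : q ^ 2 ≤ q ^ 4 := Nat.pow_le_pow_right (by omega) (by norm_num)
  have h8 : q ^ 3 ≤ q ^ 6 := Nat.pow_le_pow_right (by omega) (by norm_num)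
  have h9 : 1 ≤ q := by omega
  rw [← Int.natCast_dvd_natCast]
  refine h.trans (dvd_of_eq ?_)
  push_cast [Nat.cast_sub h1, Nat.cast_sub h2, Nat.cast_sub h3, Nat.cast_sub h4, Nat.cast_sub h5, Nat.cast_sub h6, Nat.cast_sub h7, Nat.cast_sub h8, Nat.cast_sub h9]
  ring

theorem tA2n (hq : 2 ≤ q) (h : (m : ℤ) ∣ (-1) + 1 * (q : ℤ) ^ 1 + (-1) * (q : ℤ) ^ 5 + 1 * (q : ℤ) ^ 6) : m ∣ (q ^ 5 + 1) * (q - 1) := by
  have h1 : q ≤ q ^ 2 := Nat.le_self_pow (by norm_num) q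
  have h2 : 1 ≤ q ^ 2 := Nat.one_le_pow _ _ (by omega)
  have h3 : 1 ≤ q ^ 3 := Nat.one_le_pow _ _ (by omega)
  have h4 : 1 ≤ q ^ 4 := Nat.one_le_pow _ _ (by omega)
  have h5 : 1 ≤ q ^ 5 := Nat.one_le_pow _ _ (by omega)
  have h6 : 1 ≤ q ^ 6 := Nat.one_le_pow _ _ (by omega)
  have h7 : q ^ 2 ≤ q ^ 4 := Nat.pow_le_pow_right (by omega) (by norm_num)
  have h8 : q ^ 3 ≤ q ^ 6 := Nat.pow_le_pow_right (by omega) (by norm_num)
  have h9 : 1 ≤ q := by omega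
  rw [← Int.natCast_dvd_natCast]
  refine h.trans (dvd_of_eq ?_)
  push_cast [Nat.cast_sub h1, Nat.cast_sub h2, Nat.cast_sub h3, Nat.cast_sub h4, Nat.cast_sub h5, Nat.cast_sub h6, Nat.cast_sub h7, Nat.cast_sub h8, Nat.cast_sub h9]
  ring

theorem tA3n (hq : 2 ≤ q) (h : (m : ℤ) ∣ (-1) + (-1) * (q : ℤ) ^ 1 + (-1) * (q : ℤ) ^ 2 + 1 * (q : ℤ) ^ 4 + 1 * (q : ℤ) ^ 5 + 1 * (q : ℤ) ^ 6) : m ∣ (q ^ 4 - 1) * (q ^ 2 + q + 1) := by
  have h1 : q ≤ q ^ 2 := Nat.le_self_pow (by norm_num) q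
  have h2 : 1 ≤ q ^ 2 := Nat.one_le_pow _ _ (by omega)
  have h3 : 1 ≤ q ^ 3 := Nat.one_le_pow _ _ (by omega)
  have h4 : 1 ≤ q ^ 4 := Nat.one_le_pow _ _ (by omega)
  have h5 : 1 ≤ q ^ 5 := Nat.one_le_pow _ _ (by omega)
  have h6 : 1 ≤ q ^ 6 := Nat.one_le_pow _ _ (by omega)
  have h7 : q ^ 2 ≤ q ^ 4 := Nat.pow_le_pow_right (by omega) (by norm_num)
  have h8 : q ^ 3 ≤ q ^ 6 := Nat.pow_le_pow_right (by omega) (by norm_num)
  have h9 : 1 ≤ q := by omega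
  rw [← Int.natCast_dvd_natCast]
  refine h.trans (dvd_of_eq ?_)
  push_cast [Nat.cast_sub h1, Nat.cast_sub h2, Nat.cast_sub h3, Nat.cast_sub h4, Nat.cast_sub h5, Nat.cast_sub h6, Nat.cast_sub h7, Nat.cast_sub h8, Nat.cast_sub h9]
  ring

theorem tA4 (hq : 2 ≤ q) (h : (m : ℤ) ∣ (-1) + 1 * (q : ℤ) ^ 6) : m ∣ q ^ 6 - 1 := by
  have h1 : q ≤ q ^ 2 := Nat.le_self_pow (by norm_num) q
  have h2 : 1 ≤ q ^ 2 := Nat.one_le_pow _ _ (by omega)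
  have h3 : 1 ≤ q ^ 3 := Nat.one_le_pow _ _ (by omega)
  have h4 : 1 ≤ q ^ 4 := Nat.one_le_pow _ _ (by omega)
  have h5 : 1 ≤ q ^ 5 := Nat.one_le_pow _ _ (by omega)
  have h6 : 1 ≤ q ^ 6 := Nat.one_le_pow _ _ (by omega)
  have h7 : q ^ 2 ≤ q ^ 4 := Nat.pow_le_pow_right (by omega) (by norm_num)
  have h8 : q ^ 3 ≤ q ^ 6 := Nat.pow_le_pow_right (by omega) (by norm_num)
  have h9 : 1 ≤ q := by omega
  rw [← Int.natCast_dvd_natCast]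
  refine h.trans (dvd_of_eq ?_)
  push_cast [Nat.cast_sub h1, Nat.cast_sub h2, Nat.cast_sub h3, Nat.cast_sub h4, Nat.cast_sub h5, Nat.cast_sub h6, Nat.cast_sub h7, Nat.cast_sub h8, Nat.cast_sub h9]
  ring

theorem tA5n (hq : 2 ≤ q) (h : (m : ℤ) ∣ 1 + (-1) * (q : ℤ) ^ 1 + 1 * (q : ℤ) ^ 3 + (-1) * (q : ℤ) ^ 5 + 1 * (q : ℤ) ^ 6) : m ∣ (q ^ 4 - q ^ 2 + 1) * (q ^ 2 - q + 1) := by
  have h1 : q ≤ q ^ 2 := Nat.le_self_pow (by norm_num) q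
  have h2 : 1 ≤ q ^ 2 := Nat.one_le_pow _ _ (by omega)
  have h3 : 1 ≤ q ^ 3 := Nat.one_le_pow _ _ (by omega)
  have h4 : 1 ≤ q ^ 4 := Nat.one_le_pow _ _ (by omega)
  have h5 : 1 ≤ q ^ 5 := Nat.one_le_pow _ _ (by omega)
  have h6 : 1 ≤ q ^ 6 := Nat.one_le_pow _ _ (by omega)
  have h7 : q ^ 2 ≤ q ^ 4 := Nat.pow_le_pow_right (by omega) (by norm_num)
  have h8 : q ^ 3 ≤ q ^ 6 := Nat.pow_le_pow_right (by omega) (by norm_num)
  have h9 : 1 ≤ q := by omega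
  rw [← Int.natCast_dvd_natCast]
  refine h.trans (dvd_of_eq ?_)
  push_cast [Nat.cast_sub h1, Nat.cast_sub h2, Nat.cast_sub h3, Nat.cast_sub h4, Nat.cast_sub h5, Nat.cast_sub h6, Nat.cast_sub h7, Nat.cast_sub h8, Nat.cast_sub h9]
  ring

theorem tA6n (hq : 2 ≤ q) (h : (m : ℤ) ∣ 1 + (-1) * (q : ℤ) ^ 3 + 1 * (q : ℤ) ^ 6) : m ∣ q ^ 6 - q ^ 3 + 1 := by
  have h1 : q ≤ q ^ 2 := Nat.le_self_pow (by norm_num) q
  have h2 : 1 ≤ q ^ 2 := Nat.one_le_pow _ _ (by omega)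
  have h3 : 1 ≤ q ^ 3 := Nat.one_le_pow _ _ (by omega)
  have h4 : 1 ≤ q ^ 4 := Nat.one_le_pow _ _ (by omega)
  have h5 : 1 ≤ q ^ 5 := Nat.one_le_pow _ _ (by omega)
  have h6 : 1 ≤ q ^ 6 := Nat.one_le_pow _ _ (by omega)
  have h7 : q ^ 2 ≤ q ^ 4 := Nat.pow_le_pow_right (by omega) (by norm_num)
  have h8 : q ^ 3 ≤ q ^ 6 := Nat.pow_le_pow_right (by omega) (by norm_num)
  have h9 : 1 ≤ q := by omega
  rw [← Int.natCast_dvd_natCast]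
  refine h.trans (dvd_of_eq ?_)
  push_cast [Nat.cast_sub h1, Nat.cast_sub h2, Nat.cast_sub h3, Nat.cast_sub h4, Nat.cast_sub h5, Nat.cast_sub h6, Nat.cast_sub h7, Nat.cast_sub h8, Nat.cast_sub h9]
  ring

theorem tB5 (hq : 2 ≤ q) (h : (m : ℤ) ∣ (-1) + 1 * (q : ℤ) ^ 1 + (-1) * (q : ℤ) ^ 3 + 1 * (q : ℤ) ^ 4) : m ∣ (q ^ 3 + 1) * (q - 1) := by
  have h1 : q ≤ q ^ 2 := Nat.le_self_pow (by norm_num) q
  have h2 : 1 ≤ q ^ 2 := Nat.one_le_pow _ _ (by omega)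
  have h3 : 1 ≤ q ^ 3 := Nat.one_le_pow _ _ (by omega)
  have h4 : 1 ≤ q ^ 4 := Nat.one_le_pow _ _ (by omega)
  have h5 : 1 ≤ q ^ 5 := Nat.one_le_pow _ _ (by omega)
  have h6 : 1 ≤ q ^ 6 := Nat.one_le_pow _ _ (by omega)
  have h7 : q ^ 2 ≤ q ^ 4 := Nat.pow_le_pow_right (by omega) (by norm_num)
  have h8 : q ^ 3 ≤ q ^ 6 := Nat.pow_le_pow_right (by omega) (by norm_num)
  have h9 : 1 ≤ q := by omega
  rw [← Int.natCast_dvd_natCast]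
  refine h.trans (dvd_of_eq ?_)
  push_cast [Nat.cast_sub h1, Nat.cast_sub h2, Nat.cast_sub h3, Nat.cast_sub h4, Nat.cast_sub h5, Nat.cast_sub h6, Nat.cast_sub h7, Nat.cast_sub h8, Nat.cast_sub h9]
  ring

theorem tB2 (hq : 2 ≤ q) (h : (m : ℤ) ∣ (-1) + 1 * (q : ℤ) ^ 4) : m ∣ q ^ 4 - 1 := by
  have h1 : q ≤ q ^ 2 := Nat.le_self_pow (by norm_num) q
  have h2 : 1 ≤ q ^ 2 := Nat.one_le_pow _ _ (by omega)
  have h3 : 1 ≤ q ^ 3 := Nat.one_le_pow _ _ (by omega)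
  have h4 : 1 ≤ q ^ 4 := Nat.one_le_pow _ _ (by omega)
  have h5 : 1 ≤ q ^ 5 := Nat.one_le_pow _ _ (by omega)
  have h6 : 1 ≤ q ^ 6 := Nat.one_le_pow _ _ (by omega)
  have h7 : q ^ 2 ≤ q ^ 4 := Nat.pow_le_pow_right (by omega) (by norm_num)
  have h8 : q ^ 3 ≤ q ^ 6 := Nat.pow_le_pow_right (by omega) (by norm_num)
  have h9 : 1 ≤ q := by omega
  rw [← Int.natCast_dvd_natCast]
  refine h.trans (dvd_of_eq ?_)
  push_cast [Nat.cast_sub h1, Nat.cast_sub h2, Nat.cast_sub h3, Nat.cast_sub h4, Nat.cast_sub h5, Nat.cast_sub h6, Nat.cast_sub h7, Nat.cast_sub h8, Nat.cast_sub h9]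
  ring

theorem tB3n (hq : 2 ≤ q) (h : (m : ℤ) ∣ 1 + 1 * (q : ℤ) ^ 5) : m ∣ q ^ 5 + 1 := by
  have h1 : q ≤ q ^ 2 := Nat.le_self_pow (by norm_num) q
  have h2 : 1 ≤ q ^ 2 := Nat.one_le_pow _ _ (by omega)
  have h3 : 1 ≤ q ^ 3 := Nat.one_le_pow _ _ (by omega)
  have h4 : 1 ≤ q ^ 4 := Nat.one_le_pow _ _ (by omega)
  have h5 : 1 ≤ q ^ 5 := Nat.one_le_pow _ _ (by omega)
  have h6 : 1 ≤ q ^ 6 := Nat.one_le_pow _ _ (by omega)
  have h7 : q ^ 2 ≤ q ^ 4 := Nat.pow_le_pow_right (by omega) (by norm_num)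
  have h8 : q ^ 3 ≤ q ^ 6 := Nat.pow_le_pow_right (by omega) (by norm_num)
  have h9 : 1 ≤ q := by omega
  rw [← Int.natCast_dvd_natCast]
  refine h.trans (dvd_of_eq ?_)
  push_cast [Nat.cast_sub h1, Nat.cast_sub h2, Nat.cast_sub h3, Nat.cast_sub h4, Nat.cast_sub h5, Nat.cast_sub h6, Nat.cast_sub h7, Nat.cast_sub h8, Nat.cast_sub h9]
  ring

theorem tB4n (hq : 2 ≤ q) (h : (m : ℤ) ∣ (-1) + 1 * (q : ℤ) ^ 1 + (-1) * (q : ℤ) ^ 2 + 1 * (q : ℤ) ^ 3 + (-1) * (q : ℤ) ^ 4 + 1 * (q : ℤ) ^ 5) : m ∣ (q ^ 3 - 1) * (q ^ 2 - q + 1) := by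
  have h1 : q ≤ q ^ 2 := Nat.le_self_pow (by norm_num) q
  have h2 : 1 ≤ q ^ 2 := Nat.one_le_pow _ _ (by omega)
  have h3 : 1 ≤ q ^ 3 := Nat.one_le_pow _ _ (by omega)
  have h4 : 1 ≤ q ^ 4 := Nat.one_le_pow _ _ (by omega)
  have h5 : 1 ≤ q ^ 5 := Nat.one_le_pow _ _ (by omega)
  have h6 : 1 ≤ q ^ 6 := Nat.one_le_pow _ _ (by omega)
  have h7 : q ^ 2 ≤ q ^ 4 := Nat.pow_le_pow_right (by omega) (by norm_num)
  have h8 : q ^ 3 ≤ q ^ 6 := Nat.pow_le_pow_right (by omega) (by norm_num)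
  have h9 : 1 ≤ q := by omega
  rw [← Int.natCast_dvd_natCast]
  refine h.trans (dvd_of_eq ?_)
  push_cast [Nat.cast_sub h1, Nat.cast_sub h2, Nat.cast_sub h3, Nat.cast_sub h4, Nat.cast_sub h5, Nat.cast_sub h6, Nat.cast_sub h7, Nat.cast_sub h8, Nat.cast_sub h9]
  ring

theorem tB1 (hq : 2 ≤ q) (h : (m : ℤ) ∣ (-1) + (-1) * (q : ℤ) ^ 1 + 1 * (q : ℤ) ^ 3 + 1 * (q : ℤ) ^ 4) : m ∣ (q ^ 3 - 1) * (q + 1) := by
  have h1 : q ≤ q ^ 2 := Nat.le_self_pow (by norm_num) q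
  have h2 : 1 ≤ q ^ 2 := Nat.one_le_pow _ _ (by omega)
  have h3 : 1 ≤ q ^ 3 := Nat.one_le_pow _ _ (by omega)
  have h4 : 1 ≤ q ^ 4 := Nat.one_le_pow _ _ (by omega)
  have h5 : 1 ≤ q ^ 5 := Nat.one_le_pow _ _ (by omega)
  have h6 : 1 ≤ q ^ 6 := Nat.one_le_pow _ _ (by omega)
  have h7 : q ^ 2 ≤ q ^ 4 := Nat.pow_le_pow_right (by omega) (by norm_num)
  have h8 : q ^ 3 ≤ q ^ 6 := Nat.pow_le_pow_right (by omega) (by norm_num)
  have h9 : 1 ≤ q := by omega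
  rw [← Int.natCast_dvd_natCast]
  refine h.trans (dvd_of_eq ?_)
  push_cast [Nat.cast_sub h1, Nat.cast_sub h2, Nat.cast_sub h3, Nat.cast_sub h4, Nat.cast_sub h5, Nat.cast_sub h6, Nat.cast_sub h7, Nat.cast_sub h8, Nat.cast_sub h9]
  ring

theorem tC3 (hq : 2 ≤ q) (h : (m : ℤ) ∣ 1 + 1 * (q : ℤ) ^ 2 + 1 * (q : ℤ) ^ 4) : m ∣ q ^ 4 + q ^ 2 + 1 := by
  have h1 : q ≤ q ^ 2 := Nat.le_self_pow (by norm_num) q
  have h2 : 1 ≤ q ^ 2 := Nat.one_le_pow _ _ (by omega)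
  have h3 : 1 ≤ q ^ 3 := Nat.one_le_pow _ _ (by omega)
  have h4 : 1 ≤ q ^ 4 := Nat.one_le_pow _ _ (by omega)
  have h5 : 1 ≤ q ^ 5 := Nat.one_le_pow _ _ (by omega)
  have h6 : 1 ≤ q ^ 6 := Nat.one_le_pow _ _ (by omega)
  have h7 : q ^ 2 ≤ q ^ 4 := Nat.pow_le_pow_right (by omega) (by norm_num)
  have h8 : q ^ 3 ≤ q ^ 6 := Nat.pow_le_pow_right (by omega) (by norm_num)
  have h9 : 1 ≤ q := by omega
  rw [← Int.natCast_dvd_natCast]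
  refine h.trans (dvd_of_eq ?_)
  push_cast [Nat.cast_sub h1, Nat.cast_sub h2, Nat.cast_sub h3, Nat.cast_sub h4, Nat.cast_sub h5, Nat.cast_sub h6, Nat.cast_sub h7, Nat.cast_sub h8, Nat.cast_sub h9]
  ring

theorem tD1 (hq : 2 ≤ q) (h : (m : ℤ) ∣ (-1) + 1 * (q : ℤ) ^ 2) : m ∣ q ^ 2 - 1 := by
  have h1 : q ≤ q ^ 2 := Nat.le_self_pow (by norm_num) q
  have h2 : 1 ≤ q ^ 2 := Nat.one_le_pow _ _ (by omega)
  have h3 : 1 ≤ q ^ 3 := Nat.one_le_pow _ _ (by omega)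
  have h4 : 1 ≤ q ^ 4 := Nat.one_le_pow _ _ (by omega)
  have h5 : 1 ≤ q ^ 5 := Nat.one_le_pow _ _ (by omega)
  have h6 : 1 ≤ q ^ 6 := Nat.one_le_pow _ _ (by omega)
  have h7 : q ^ 2 ≤ q ^ 4 := Nat.pow_le_pow_right (by omega) (by norm_num)
  have h8 : q ^ 3 ≤ q ^ 6 := Nat.pow_le_pow_right (by omega) (by norm_num)
  have h9 : 1 ≤ q := by omega
  rw [← Int.natCast_dvd_natCast]
  refine h.trans (dvd_of_eq ?_)
  push_cast [Nat.cast_sub h1, Nat.cast_sub h2, Nat.cast_sub h3, Nat.cast_sub h4, Nat.cast_sub h5, Nat.cast_sub h6, Nat.cast_sub h7, Nat.cast_sub h8, Nat.cast_sub h9]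
  ring

theorem tD2n (hq : 2 ≤ q) (h : (m : ℤ) ∣ 1 + (-1) * (q : ℤ) ^ 1 + 1 * (q : ℤ) ^ 2) : m ∣ q ^ 2 - q + 1 := by
  have h1 : q ≤ q ^ 2 := Nat.le_self_pow (by norm_num) q
  have h2 : 1 ≤ q ^ 2 := Nat.one_le_pow _ _ (by omega)
  have h3 : 1 ≤ q ^ 3 := Nat.one_le_pow _ _ (by omega)
  have h4 : 1 ≤ q ^ 4 := Nat.one_le_pow _ _ (by omega)
  have h5 : 1 ≤ q ^ 5 := Nat.one_le_pow _ _ (by omega)
  have h6 : 1 ≤ q ^ 6 := Nat.one_le_pow _ _ (by omega)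
  have h7 : q ^ 2 ≤ q ^ 4 := Nat.pow_le_pow_right (by omega) (by norm_num)
  have h8 : q ^ 3 ≤ q ^ 6 := Nat.pow_le_pow_right (by omega) (by norm_num)
  have h9 : 1 ≤ q := by omega
  rw [← Int.natCast_dvd_natCast]
  refine h.trans (dvd_of_eq ?_)
  push_cast [Nat.cast_sub h1, Nat.cast_sub h2, Nat.cast_sub h3, Nat.cast_sub h4, Nat.cast_sub h5, Nat.cast_sub h6, Nat.cast_sub h7, Nat.cast_sub h8, Nat.cast_sub h9]
  ring

theorem tD3n (hq : 2 ≤ q) (h : (m : ℤ) ∣ 1 + 1 * (q : ℤ) ^ 1 + 1 * (q : ℤ) ^ 2 + 1 * (q : ℤ) ^ 3) : m ∣ (q ^ 2 + 1) * (q + 1) := by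
  have h1 : q ≤ q ^ 2 := Nat.le_self_pow (by norm_num) q
  have h2 : 1 ≤ q ^ 2 := Nat.one_le_pow _ _ (by omega)
  have h3 : 1 ≤ q ^ 3 := Nat.one_le_pow _ _ (by omega)
  have h4 : 1 ≤ q ^ 4 := Nat.one_le_pow _ _ (by omega)
  have h5 : 1 ≤ q ^ 5 := Nat.one_le_pow _ _ (by omega)
  have h6 : 1 ≤ q ^ 6 := Nat.one_le_pow _ _ (by omega)
  have h7 : q ^ 2 ≤ q ^ 4 := Nat.pow_le_pow_right (by omega) (by norm_num)
  have h8 : q ^ 3 ≤ q ^ 6 := Nat.pow_le_pow_right (by omega) (by norm_num)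
  have h9 : 1 ≤ q := by omega
  rw [← Int.natCast_dvd_natCast]
  refine h.trans (dvd_of_eq ?_)
  push_cast [Nat.cast_sub h1, Nat.cast_sub h2, Nat.cast_sub h3, Nat.cast_sub h4, Nat.cast_sub h5, Nat.cast_sub h6, Nat.cast_sub h7, Nat.cast_sub h8, Nat.cast_sub h9]
  ring

theorem tE1n (hq : 2 ≤ q) (h : (m : ℤ) ∣ 1 + 1 * (q : ℤ) ^ 1) : m ∣ q + 1 := by
  have h1 : q ≤ q ^ 2 := Nat.le_self_pow (by norm_num) q
  have h2 : 1 ≤ q ^ 2 := Nat.one_le_pow _ _ (by omega)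
  have h3 : 1 ≤ q ^ 3 := Nat.one_le_pow _ _ (by omega)
  have h4 : 1 ≤ q ^ 4 := Nat.one_le_pow _ _ (by omega)
  have h5 : 1 ≤ q ^ 5 := Nat.one_le_pow _ _ (by omega)
  have h6 : 1 ≤ q ^ 6 := Nat.one_le_pow _ _ (by omega)
  have h7 : q ^ 2 ≤ q ^ 4 := Nat.pow_le_pow_right (by omega) (by norm_num)
  have h8 : q ^ 3 ≤ q ^ 6 := Nat.pow_le_pow_right (by omega) (by norm_num)
  have h9 : 1 ≤ q := by omega
  rw [← Int.natCast_dvd_natCast]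
  refine h.trans (dvd_of_eq ?_)
  push_cast [Nat.cast_sub h1, Nat.cast_sub h2, Nat.cast_sub h3, Nat.cast_sub h4, Nat.cast_sub h5, Nat.cast_sub h6, Nat.cast_sub h7, Nat.cast_sub h8, Nat.cast_sub h9]
  ring

theorem three {p e : ℕ} (hp : p.Prime) (he : q = p ^ e) (hm : ¬ p ∣ m) (h : (m : ℤ) ∣ 3) :
    (m : ℤ) ∣ (q : ℤ) ^ 2 - 1 := by
  have h' : m ∣ 3 := by
    have : (m : ℤ) ∣ ((3 : ℕ) : ℤ) := h
    exact Int.natCast_dvd_natCast.1 this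
  rcases (Nat.dvd_prime Nat.prime_three).1 h' with h1 | h1
  · rw [h1]; simp
  · subst h1
    have hp3 : ¬ 3 ∣ p := by
      intro h2
      rw [Nat.prime_dvd_prime_iff_eq Nat.prime_three hp] at h2
      exact hm (by rw [← h2])
    have hq3 : ¬ 3 ∣ q := by
      rw [he]
      intro h2
      exact hp3 (Nat.prime_three.dvd_of_dvd_pow h2)
    have h3 : (q : ℤ) % 3 = 1 ∨ (q : ℤ) % 3 = 2 := by omega
    show (3 : ℤ) ∣ (q : ℤ) ^ 2 - 1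
    apply Int.dvd_of_emod_eq_zero
    rcases h3 with h3 | h3
    · simp [Int.sub_emod, pow_two, Int.mul_emod, h3]
    · simp [Int.sub_emod, pow_two, Int.mul_emod, h3]

theorem twoSq {p e : ℕ} (hp : p.Prime) (he : q = p ^ e) (hm : ¬ p ∣ m) (h : (m : ℤ) ∣ 2 * ((q : ℤ) ^ 2 - 1)) :
    (m : ℤ) ∣ (q : ℤ) ^ 4 - 1 := by
  have e1 : (q : ℤ) ^ 4 - 1 = ((q : ℤ) ^ 2 + 1) * ((q : ℤ) ^ 2 - 1) := by ring
  rw [e1]
  by_cases h2 : p = 2
  · have h3 : IsCoprime (m : ℤ) 2 := by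
      rw [Int.isCoprime_iff_gcd_eq_one]
      have h4 : Nat.Coprime m 2 := by
        rw [Nat.coprime_comm, Nat.Prime.coprime_iff_not_dvd Nat.prime_two, ← h2]
        exact hm
      exact_mod_cast h4
    exact (h3.dvd_of_dvd_mul_left h).mul_left _
  · have hq2 : ¬ 2 ∣ q := by
      rw [he]
      intro h3
      have := Nat.prime_two.dvd_of_dvd_pow h3
      rw [Nat.prime_dvd_prime_iff_eq Nat.prime_two hp] at this
      exact h2 this.symm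
    have h3 : (2 : ℤ) ∣ (q : ℤ) ^ 2 + 1 := by
      have h4 : (q : ℤ) % 2 = 1 := by omega
      apply Int.dvd_of_emod_eq_zero
      simp [Int.add_emod, pow_two, Int.mul_emod, h4]
    exact h.trans (mul_dvd_mul_right h3 _)

end Num

section Main

variable {p q n b m e : ℕ}

/-- the value of a polynomial -/
def fv (q : ℕ) (x : ℕ) : ℤ := fqG 7 ([17734058513, 17734058515, 17734058543, 17734058545, 17734059569, 17734059505, 18807767569, 17734059535,  17734089295, 17734092337, 17734091281, 17767612945, 17735108113, 18774278641, 17734060558, 17735139823,  17735107087, 17735074351, 18806752783, 18774245935, 17766596143, 18842402287, 18807800335].getD x 0) (q : ℤ)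

/-- the digits of `b` are those of `a` with the signs `s, -s, s, …` -/
private def altOK : ℕ → ℕ → ℕ → ℤ → Bool
  | 0, _, _, _ => true
  | n + 1, a, b, s => decide (((b % 32 : ℕ) : ℤ) - 16 = s * (((a % 32 : ℕ) : ℤ) - 16)) && altOK n (a / 32) (b / 32) (-s)

private theorem fq_alt (q : ℤ) : ∀ (n a b : ℕ) (s : ℤ), altOK n a b s = true → fqG n b q = s * fqG n a (-q)
  | 0, _, _, s, _ => (mul_zero s).symm
  | n + 1, a, b, s, h => by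
    obtain ⟨h1, h2⟩ := Bool.and_eq_true_iff.1 h
    rw [fqG, fqG, of_decide_eq_true h1, fq_alt q n _ _ _ h2]
    ring

private def fsN : List ℕ := [17734058513, 17734058515, 17734058543, 17734058545, 17734059569, 17734059505, 18807767569, 17734059535, 17734089295, 17734092337, 17734091281, 17767612945, 17735108113, 18774278641, 17734060558, 17735139823, 17735107087, 17735074351, 18806752783, 18774245935, 17766596143, 18842402287, 18807800335]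

private theorem br {xs : List ℕ} (ys : List ℕ) {x : ℕ} (hx : x ∈ xs) (hm : (m : ℤ) ∣ fqG 7 (E6PM.cr.fs.getD x 0) (-(q : ℤ)))
    (hc : (xs.all fun x => ys.any fun y => altOK 7 (E6PM.cr.fs.getD x 0) (fsN.getD y 0) 1 ||
      altOK 7 (E6PM.cr.fs.getD x 0) (fsN.getD y 0) (-1)) = true) : ∃ y ∈ ys, (m : ℤ) ∣ fv q y := by
  obtain ⟨y, hy, h⟩ := List.any_eq_true.1 (List.all_eq_true.1 hc x hx)
  refine ⟨y, hy, ?_⟩
  rcases Bool.or_eq_true_iff.1 h with h | h <;> exact (hm.mul_left _).trans (dvd_of_eq (fq_alt q _ _ _ _ h).symm)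

private theorem coreN (hpp : p.Prime) (hq : 2 ≤ q) (he : q = p ^ e) (h1 : n = p ^ b * m) (h2 : ¬ p ∣ m)
    (h3 : Dv 6 E6PM.cr am m (-q) 0)
    (h4 : ∀ n : ℕ, b ≠ 0 → n + 1 ≤ p ^ (b - 1) → ∃ st ∈ E6Chn.chn.lev.getD n [], Dv 6 E6PM.cr am m (-q) st.2) :
    Om p q n b m := by
  have hl : ∀ {n al : ℕ}, okL 752 am al (E6Chn.chn.lev.getD n []) = true → b ≠ 0 → n + 1 ≤ p ^ (b - 1) →
      ∃ x, Nat.testBit al x = true ∧ (m : ℤ) ∣ fqG 7 (E6PM.cr.fs.getD x 0) (-(q : ℤ)) :=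
    fun h hb hn => Dv.level am_len h (h4 _ hb hn)
  refine ⟨h1, h2, ?_, fun hb => ?_, fun hb hn => ?_, fun hb hn => ?_, fun hb hn => ?_, fun hb hn => ?_,
    fun hb hn => ?_, fun hb => ?_⟩
  · -- level 0
    obtain ⟨x, h7, h5⟩ := h3 (am_len ▸ Nat.succ_pos 751)
    have h8 : x ∈ _ := mk0 (by
      have h9 := lv0
      have h10 : Nat.land (am.getD 0 0) 8370132 = am.getD 0 0 := Nat.eq_of_beq_eq_true h9
      have h11 : (am.getD 0 0) &&& 8370132 = am.getD 0 0 := h10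
      have h12 := congrArg (fun y => Nat.testBit y x) h11
      simp only [Nat.testBit_land, h7, Bool.true_and] at h12
      exact h12)
    obtain ⟨x, h8, h5⟩ := br [3, 5, 6, 7, 9, 10, 11, 12, 13, 15, 16, 17, 18, 19, 20, 21, 22] h8 h5 (by decide +kernel)
    unfold fv at h5
    simp only [List.mem_cons, List.not_mem_nil, or_false] at h8
    rcases h8 with e | e | e | e | e | e | e | e | e | e | e | e | e | e | e | e | e
    · rw [e] at h5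
      exact Or.inl (tA1 hq (h5.trans ⟨(-1) + 1 * (q : ℤ) ^ 1 + (-1) * (q : ℤ) ^ 4 + 1 * (q : ℤ) ^ 5, by simp [fqG] <;> ring⟩))
    · rw [e] at h5
      exact Or.inr (Or.inr (Or.inr (Or.inl (tA4 hq (h5.trans ⟨(-1) + (-1) * (q : ℤ) ^ 1 + 1 * (q : ℤ) ^ 3 + 1 * (q : ℤ) ^ 4, by simp [fqG] <;> ring⟩)))))
    · rw [e] at h5
      exact Or.inr (Or.inr (Or.inr (Or.inr (Or.inr (tA6n hq (h5.trans ⟨1, by simp [fqG] <;> ring⟩))))))
    · rw [e] at h5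
      exact Or.inl (tA1 hq (h5.trans ⟨1 + 1 * (q : ℤ) ^ 4, by simp [fqG] <;> ring⟩))
    · rw [e] at h5
      exact Or.inr (Or.inr (Or.inl (tA3n hq (h5.trans ⟨(-1) + 1 * (q : ℤ) ^ 3, by simp [fqG] <;> ring⟩))))
    · rw [e] at h5
      exact Or.inr (Or.inr (Or.inr (Or.inl (tA4 hq (h5.trans ⟨(-1) + 1 * (q : ℤ) ^ 3, by simp [fqG] <;> ring⟩)))))
    · rw [e] at h5
      exact Or.inr (Or.inl (tA2n hq (h5.trans ⟨(-1) + 1 * (q : ℤ) ^ 1, by simp [fqG] <;> ring⟩)))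
    · rw [e] at h5
      exact Or.inr (Or.inr (Or.inr (Or.inl (tA4 hq (h5.trans ⟨(-1) + 1 * (q : ℤ) ^ 2, by simp [fqG] <;> ring⟩)))))
    · rw [e] at h5
      exact Or.inr (Or.inr (Or.inr (Or.inr (Or.inl (tA5n hq (h5.trans ⟨1, by simp [fqG] <;> ring⟩))))))
    · rw [e] at h5
      exact Or.inr (Or.inr (Or.inl (tA3n hq (h5.trans ⟨1 + 1 * (q : ℤ) ^ 2, by simp [fqG] <;> ring⟩))))
    · rw [e] at h5
      exact Or.inr (Or.inr (Or.inl (tA3n hq (h5.trans ⟨1 + 1 * (q : ℤ) ^ 1 + 1 * (q : ℤ) ^ 2, by simp [fqG] <;> ring⟩))))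
    · rw [e] at h5
      exact Or.inr (Or.inr (Or.inr (Or.inl (tA4 hq (h5.trans ⟨1 + 1 * (q : ℤ) ^ 1 + 1 * (q : ℤ) ^ 2, by simp [fqG] <;> ring⟩)))))
    · rw [e] at h5
      exact Or.inl (tA1 hq (h5.trans ⟨1, by simp [fqG] <;> ring⟩))
    · rw [e] at h5
      exact Or.inr (Or.inl (tA2n hq (h5.trans ⟨1, by simp [fqG] <;> ring⟩)))
    · rw [e] at h5
      exact Or.inr (Or.inr (Or.inr (Or.inl (tA4 hq (h5.trans ⟨1 + 1 * (q : ℤ) ^ 1, by simp [fqG] <;> ring⟩)))))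
    · rw [e] at h5
      exact Or.inr (Or.inr (Or.inl (tA3n hq (h5.trans ⟨1, by simp [fqG] <;> ring⟩))))
    · rw [e] at h5
      exact Or.inr (Or.inr (Or.inr (Or.inl (tA4 hq (h5.trans ⟨1, by simp [fqG] <;> ring⟩)))))
  · -- level 1
    obtain ⟨x, h8, h5⟩ := hl lv1 hb (by have := Nat.one_le_pow (b - 1) p hpp.pos; omega)
    obtain ⟨x, h8, h5⟩ := br [0, 1, 2, 3, 4, 5, 7, 8, 9, 10, 11, 12, 14, 15, 16, 17, 20] (mk1 h8) h5 (by decide +kernel)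
    unfold fv at h5
    simp only [List.mem_cons, List.not_mem_nil, or_false] at h8
    rcases h8 with e | e | e | e | e | e | e | e | e | e | e | e | e | e | e | e | e
    · rw [e] at h5
      exact Or.inl (tB5 hq (h5.trans ⟨(-1) + 1 * (q : ℤ) ^ 1 + (-1) * (q : ℤ) ^ 3 + 1 * (q : ℤ) ^ 4, by simp [fqG] <;> ring⟩))
    · rw [e] at h5
      exact Or.inr (Or.inl (tB2 hq ((three hpp he h2 (by simpa [fqG] using h5)).trans ⟨(q : ℤ) ^ 2 + 1, by ring⟩)))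
    · rw [e] at h5
      exact Or.inl (tB5 hq (h5.trans ⟨1 + 1 * (q : ℤ) ^ 3, by simp [fqG] <;> ring⟩))
    · rw [e] at h5
      exact Or.inl (tB5 hq (h5.trans ⟨(-1) + 2 * (q : ℤ) ^ 1 + (-2) * (q : ℤ) ^ 2 + 1 * (q : ℤ) ^ 3, by simp [fqG] <;> ring⟩))
    · rw [e] at h5
      exact Or.inr (Or.inr (Or.inr (Or.inl (tB4n hq (h5.trans ⟨(-1) + 2 * (q : ℤ) ^ 1 + (-2) * (q : ℤ) ^ 2 + 1 * (q : ℤ) ^ 3, by simp [fqG] <;> ring⟩)))))
    · rw [e] at h5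
      exact Or.inl (tB5 hq (h5.trans ⟨(-1) + 1 * (q : ℤ) ^ 2, by simp [fqG] <;> ring⟩))
    · rw [e] at h5
      exact Or.inl (tB5 hq (h5.trans ⟨1 + (-1) * (q : ℤ) ^ 1 + 1 * (q : ℤ) ^ 2, by simp [fqG] <;> ring⟩))
    · rw [e] at h5
      exact Or.inl (tB5 hq (h5.trans ⟨1 + 1 * (q : ℤ) ^ 1, by simp [fqG] <;> ring⟩))
    · rw [e] at h5
      exact Or.inr (Or.inl (tB2 hq (h5.trans ⟨(-1) + 1 * (q : ℤ) ^ 1, by simp [fqG] <;> ring⟩)))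
    · rw [e] at h5
      exact Or.inl (tB5 hq (h5.trans ⟨(-1) + 1 * (q : ℤ) ^ 1, by simp [fqG] <;> ring⟩))
    · rw [e] at h5
      exact Or.inr (Or.inr (Or.inl (tB3n hq (h5.trans ⟨1, by simp [fqG] <;> ring⟩))))
    · rw [e] at h5
      exact Or.inr (Or.inr (Or.inr (Or.inl (tB4n hq (h5.trans ⟨(-1) + 1 * (q : ℤ) ^ 1, by simp [fqG] <;> ring⟩)))))
    · rw [e] at h5
      exact Or.inr (Or.inl (tB2 hq ((twoSq hpp he h2 (h5.trans (dvd_of_eq (by simp [fqG] <;> ring)))).trans (dvd_of_eq (by ring)))))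
    · rw [e] at h5
      exact Or.inr (Or.inr (Or.inr (Or.inr (tB1 hq (h5.trans ⟨1, by simp [fqG] <;> ring⟩)))))
    · rw [e] at h5
      exact Or.inr (Or.inl (tB2 hq (h5.trans ⟨1, by simp [fqG] <;> ring⟩)))
    · rw [e] at h5
      exact Or.inl (tB5 hq (h5.trans ⟨1, by simp [fqG] <;> ring⟩))
    · rw [e] at h5
      exact Or.inr (Or.inr (Or.inr (Or.inl (tB4n hq (h5.trans ⟨1, by simp [fqG] <;> ring⟩)))))
  · -- level 2
    obtain ⟨x, h8, h5⟩ := hl lv2 hb hn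
    obtain ⟨x, h8, h5⟩ := br [0, 1, 2, 3, 4, 5, 7, 9, 10, 12, 16, 17] (mk2 h8) h5 (by decide +kernel)
    unfold fv at h5
    simp only [List.mem_cons, List.not_mem_nil, or_false] at h8
    rcases h8 with e | e | e | e | e | e | e | e | e | e | e | e
    · rw [e] at h5
      exact Or.inl (tB5 hq (h5.trans ⟨(-1) + 1 * (q : ℤ) ^ 1 + (-1) * (q : ℤ) ^ 3 + 1 * (q : ℤ) ^ 4, by simp [fqG] <;> ring⟩))
    · rw [e] at h5
      exact Or.inr (Or.inl (tB2 hq ((three hpp he h2 (by simpa [fqG] using h5)).trans ⟨(q : ℤ) ^ 2 + 1, by ring⟩)))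
    · rw [e] at h5
      exact Or.inl (tB5 hq (h5.trans ⟨1 + 1 * (q : ℤ) ^ 3, by simp [fqG] <;> ring⟩))
    · rw [e] at h5
      exact Or.inl (tB5 hq (h5.trans ⟨(-1) + 2 * (q : ℤ) ^ 1 + (-2) * (q : ℤ) ^ 2 + 1 * (q : ℤ) ^ 3, by simp [fqG] <;> ring⟩))
    · rw [e] at h5
      exact Or.inr (Or.inr (tC3 hq (h5.trans ⟨1 + (-1) * (q : ℤ) ^ 1 + 1 * (q : ℤ) ^ 2, by simp [fqG] <;> ring⟩)))
    · rw [e] at h5
      exact Or.inl (tB5 hq (h5.trans ⟨(-1) + 1 * (q : ℤ) ^ 2, by simp [fqG] <;> ring⟩))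
    · rw [e] at h5
      exact Or.inl (tB5 hq (h5.trans ⟨1 + (-1) * (q : ℤ) ^ 1 + 1 * (q : ℤ) ^ 2, by simp [fqG] <;> ring⟩))
    · rw [e] at h5
      exact Or.inr (Or.inl (tB2 hq (h5.trans ⟨(-1) + 1 * (q : ℤ) ^ 1, by simp [fqG] <;> ring⟩)))
    · rw [e] at h5
      exact Or.inl (tB5 hq (h5.trans ⟨(-1) + 1 * (q : ℤ) ^ 1, by simp [fqG] <;> ring⟩))
    · rw [e] at h5
      exact Or.inr (Or.inr (tC3 hq (h5.trans ⟨1, by simp [fqG] <;> ring⟩)))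
    · rw [e] at h5
      exact Or.inr (Or.inl (tB2 hq (h5.trans ⟨1, by simp [fqG] <;> ring⟩)))
    · rw [e] at h5
      exact Or.inl (tB5 hq (h5.trans ⟨1, by simp [fqG] <;> ring⟩))
  · -- level 3
    obtain ⟨x, h8, h5⟩ := hl lv3 hb hn
    obtain ⟨x, h8, h5⟩ := br [0, 2, 3, 5, 7, 9] (mk3 h8) h5 (by decide +kernel)
    unfold fv at h5
    simp only [List.mem_cons, List.not_mem_nil, or_false] at h8
    rcases h8 with e | e | e | e | e | e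
    · rw [e] at h5
      exact Or.inl (tD1 hq (h5.trans ⟨(-1) + 1 * (q : ℤ) ^ 2, by simp [fqG] <;> ring⟩))
    · rw [e] at h5
      exact Or.inl (tD1 hq (h5.trans ⟨1 + 1 * (q : ℤ) ^ 1, by simp [fqG] <;> ring⟩))
    · rw [e] at h5
      exact Or.inl (tD1 hq (h5.trans ⟨(-1) + 1 * (q : ℤ) ^ 1, by simp [fqG] <;> ring⟩))
    · rw [e] at h5
      exact Or.inr (Or.inl (tD2n hq (h5.trans ⟨1, by simp [fqG] <;> ring⟩)))
    · rw [e] at h5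
      exact Or.inl (tD1 hq (h5.trans ⟨1, by simp [fqG] <;> ring⟩))
    · rw [e] at h5
      exact Or.inr (Or.inr (tD3n hq (h5.trans ⟨1, by simp [fqG] <;> ring⟩)))
  · -- level 4
    obtain ⟨x, h8, h5⟩ := hl lv4 hb hn
    obtain ⟨x, h8, h5⟩ := br [0, 2, 3, 5, 7] (mk4 h8) h5 (by decide +kernel)
    unfold fv at h5
    simp only [List.mem_cons, List.not_mem_nil, or_false] at h8
    rcases h8 with e | e | e | e | e
    · rw [e] at h5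
      exact Or.inl (tD1 hq (h5.trans ⟨(-1) + 1 * (q : ℤ) ^ 2, by simp [fqG] <;> ring⟩))
    · rw [e] at h5
      exact Or.inl (tD1 hq (h5.trans ⟨1 + 1 * (q : ℤ) ^ 1, by simp [fqG] <;> ring⟩))
    · rw [e] at h5
      exact Or.inl (tD1 hq (h5.trans ⟨(-1) + 1 * (q : ℤ) ^ 1, by simp [fqG] <;> ring⟩))
    · rw [e] at h5
      exact Or.inr (tD2n hq (h5.trans ⟨1, by simp [fqG] <;> ring⟩))
    · rw [e] at h5
      exact Or.inl (tD1 hq (h5.trans ⟨1, by simp [fqG] <;> ring⟩))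
  · -- level 6
    obtain ⟨x, h8, h5⟩ := hl lv6 hb hn
    obtain ⟨x, h8, h5⟩ := br [0, 3] (mk6 h8) h5 (by decide +kernel)
    unfold fv at h5
    simp only [List.mem_cons, List.not_mem_nil, or_false] at h8
    rcases h8 with e | e
    · rw [e] at h5
      exact tE1n hq (h5.trans ⟨1 + 1 * (q : ℤ) ^ 1, by simp [fqG] <;> ring⟩)
    · rw [e] at h5
      exact tE1n hq (h5.trans ⟨1, by simp [fqG] <;> ring⟩)
  · -- level 8
    obtain ⟨x, h8, h5⟩ := hl lv8 hb hn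
    obtain ⟨x, h8, h5⟩ := br [0] (mk8 h8) h5 (by decide +kernel)
    unfold fv at h5
    simp only [List.mem_cons, List.not_mem_nil, or_false] at h8
    rw [h8] at h5
    have h6 : (m : ℤ) ∣ ((1 : ℕ) : ℤ) := h5.trans (dvd_of_eq (by simp [fqG]))
    exact Nat.dvd_one.1 (Int.natCast_dvd_natCast.1 h6)
  · -- level 12
    by_contra hcon
    obtain ⟨st, hst, -⟩ := h4 11 hb (by omega)
    rw [List.getD_eq_default _ _ (by
      have : E6Chn.chn.lev.length = 11 := rfl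
      omega)] at hst
    simp at hst

end Main

section Tw

universe u

/-- **The upper bound for the element orders of `²E₆(q)`.** -/
theorem om_2E6 {K : Type u} [Field K] [Finite K] {p q : ℕ} [Fact p.Prime] [CharP K p] (hq : IsPrimePow q)
    (hK : Nat.card K = q ^ 2) (a : ↥(twistedE6 K q)) : ∃ b m : ℕ, Om p q (orderOf a) b m := by
  have hpp : p.Prime := Fact.out
  have _i := Fintype.ofFinite K
  have hK' : Fintype.card K = q ^ 2 := by rw [← Nat.card_eq_fintype_card]; exact hK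
  have hq2 : 2 ≤ q := hq.two_le
  obtain ⟨e, he⟩ : ∃ e : ℕ, q = p ^ e := by
    obtain ⟨n, -, hn⟩ := FiniteField.card K p
    have h1 : q ∣ p ^ (n : ℕ) := by
      rw [← hn, hK']
      exact dvd_pow_self q (by norm_num)
    obtain ⟨e, -, he⟩ := (Nat.dvd_prime_pow hpp).1 h1
    exact ⟨e, he⟩
  obtain ⟨b, m, h1, h2, h3, h4⟩ := Cfsg.Agent.H306.E6N.order_tw3 tabs3 hq hK' (p := p) a
  exact ⟨b, m, coreN hpp hq2 he h1 h2 h3 h4⟩

end Tw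

end Cfsg.Agent.H378.OmTE6
end
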